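import Cfsg.Agent.Lib.CIT.Basic
import Cfsg.Agent.Lib.ClassSizePSL.Values
import Cfsg.Agent.Lib.Dickson.Solvable

/-!
The groups `PSL(2, q)` in which every involution centralizer is a 2-group.
-/

set_option autoImplicit false
set_option linter.style.haveILetI false

namespace Cfsg.Lib.CIT

open Subgroup

universe u

theorem two_pow_eq_of_mod {j k : ℕ} {N : ℕ} (hN : N = 2 ^ k) (hmod : N % 2 ^ (j + 1) = 2 ^ j) : k = j := by
  subst hN
  rcases Nat.lt_or_ge j k with h | h
  · rw [Nat.mod_eq_zero_of_dvd (Nat.pow_dvd_pow 2 h)] at hmod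
    have := Nat.two_pow_pos j
    omega
  · rw [Nat.mod_eq_of_lt (Nat.pow_lt_pow_right (by norm_num) (by omega))] at hmod
    exact Nat.pow_right_injective le_rfl hmod

/-- An odd prime power next to a power of two is `9` or a prime. -/
theorem eq_nine_or_prime {p n k : ℕ} (hp : p.Prime) (hp2 : p % 2 = 1) (hn : n ≠ 0)
    (h : p ^ n + 1 = 2 ^ k ∨ p ^ n = 2 ^ k + 1) : p ^ n = 9 ∨ (p ^ n).Prime := by
  have hp3 : 3 ≤ p := by have := hp.two_le; omega
  rcases Nat.even_or_odd n with ⟨r, rfl⟩ | ⟨r, rfl⟩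
  · -- a square
    obtain ⟨x, hx⟩ : ∃ x, x = p ^ r := ⟨_, rfl⟩
    have hxo : x % 2 = 1 := by rw [hx, Nat.pow_mod, hp2, one_pow, Nat.one_mod]
    have hsq : p ^ (r + r) = x * x := by rw [pow_add, hx]
    rw [hsq] at h ⊢
    have hx3 : 3 ≤ x := hx ▸ le_trans hp3 (Nat.le_self_pow (by omega) p)
    rcases h with h | h
    · exfalso
      have hk : 2 ≤ k := by
        by_contra hk'
        have h9 : 9 ≤ x * x := Nat.mul_le_mul hx3 hx3
        have : 2 ^ k ≤ 2 := by
          calc 2 ^ k ≤ 2 ^ 1 := Nat.pow_le_pow_right two_pos (by omega)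
            _ = 2 := pow_one 2
        omega
      have h4 : (4 : ℕ) ∣ 2 ^ k := Nat.pow_dvd_pow 2 hk
      clear hx hsq
      obtain ⟨y, rfl⟩ : ∃ y, x = 2 * y + 1 := ⟨x / 2, by omega⟩
      rw [← h, show (2 * y + 1) * (2 * y + 1) + 1 = 4 * (y * y + y) + 2 by ring] at h4
      omega
    · left
      clear hx hsq
      obtain ⟨y, rfl⟩ : ∃ y, x = y + 1 := ⟨x - 1, by omega⟩
      have hd : y * (y + 2) = 2 ^ k := by
        have : (y + 1) * (y + 1) = y * (y + 2) + 1 := by ring
        omega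
      obtain ⟨i, -, hi⟩ := (Nat.dvd_prime_pow Nat.prime_two).1 ⟨y + 2, hd.symm⟩
      obtain ⟨i', -, hi'⟩ := (Nat.dvd_prime_pow Nat.prime_two).1 (Dvd.intro_left y hd)
      suffices y = 2 by subst this; norm_num
      rcases i with _ | _ | i
      · norm_num at hi; omega
      · norm_num at hi; omega
      · exfalso
        rcases i' with _ | _ | i'
        · rw [pow_zero] at hi'; omega
        · norm_num at hi'; omega
        · rw [pow_succ, pow_succ] at hi hi'; omega
  · suffices r = 0 by subst this; exact Or.inr (by simpa using hp)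
    have hinj : ∀ {j : ℕ}, 1 ≤ j → (p * p) % 2 ^ (j + 1) = 1 → p ^ (2 * r + 1) % 2 ^ (j + 1) = p % 2 ^ (j + 1) := by
      intro j hj h1
      rw [pow_succ, pow_mul, pow_two, Nat.mul_mod, Nat.pow_mod, h1, one_pow, Nat.one_mod_eq_one.2, one_mul,
        Nat.mod_mod]
      exact (Nat.one_lt_two_pow (by omega)).ne'
    have hfin : p ^ (2 * r + 1) = p → r = 0 := fun e => by
      by_contra hr
      have : p ^ 1 < p ^ (2 * r + 1) := Nat.pow_lt_pow_right hp.one_lt (by omega)
      rw [pow_one, e] at this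
      omega
    rcases h with h | h
    · have hd : p + 1 ∣ 2 ^ k := by
        rw [← h]
        simpa using (show Odd (2 * r + 1) from odd_two_mul_add_one r).nat_add_dvd_pow_add_pow p 1
      obtain ⟨j, -, hj⟩ := (Nat.dvd_prime_pow Nat.prime_two).1 hd
      obtain ⟨i, rfl⟩ : ∃ i, j = i + 1 := ⟨j - 1, by rcases j with _ | j <;> simp_all⟩
      have h1 : (p * p) % 2 ^ (i + 1 + 1) = 1 := by
        have hp' : p = 2 ^ (i + 1) - 1 := by omega
        obtain ⟨m, hm⟩ : ∃ m, 2 ^ (i + 1) = m + 1 := ⟨2 ^ (i + 1) - 1, by have := Nat.two_pow_pos (i + 1); omega⟩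
        have hpm : p = m := by omega
        obtain ⟨c, hc⟩ : ∃ c, 2 ^ i = c + 1 := ⟨2 ^ i - 1, by have := Nat.two_pow_pos i; omega⟩
        have hm' : m = 2 * c + 1 := by rw [pow_succ, hc] at hm; omega
        rw [hpm, pow_succ, hm, hm', show (2 * c + 1) * (2 * c + 1) = 1 + (2 * c + 1 + 1) * 2 * c by ring,
          Nat.add_mul_mod_self_left]
        exact Nat.mod_eq_of_lt (by omega)
      have hk : k = i + 1 := two_pow_eq_of_mod rfl (by
        rw [← h, Nat.add_mod, hinj (by omega) h1, ← Nat.add_mod, hj]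
        exact Nat.mod_eq_of_lt (Nat.pow_lt_pow_right (by norm_num) (by omega)))
      subst hk
      exact hfin (by omega)
    · have hd : p - 1 ∣ 2 ^ k := by
        have := Nat.sub_dvd_pow_sub_pow p 1 (2 * r + 1)
        rwa [one_pow, show p ^ (2 * r + 1) - 1 = 2 ^ k by rw [h, Nat.add_sub_cancel]] at this
      obtain ⟨j, -, hj⟩ := (Nat.dvd_prime_pow Nat.prime_two).1 hd
      obtain ⟨i, rfl⟩ : ∃ i, j = i + 1 := by
        rcases j with _ | j
        · rw [pow_zero] at hj; omega
        · exact ⟨j, rfl⟩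
      have hi : 2 ^ (i + 1 + 1) ≥ 4 := Nat.pow_le_pow_right two_pos (show 2 ≤ i + 1 + 1 by omega)
      have h1 : (p * p) % 2 ^ (i + 1 + 1) = 1 := by
        obtain ⟨c, hc⟩ : ∃ c, 2 ^ i = c + 1 := ⟨2 ^ i - 1, by have := Nat.two_pow_pos i; omega⟩
        rw [pow_succ, pow_succ, hc] at hi ⊢
        rw [pow_succ, hc] at hj
        rw [show p = 2 * c + 3 by omega,
          show (2 * c + 3) * (2 * c + 3) = 1 + (c + 1) * 2 * 2 * (c + 2) by ring, Nat.add_mul_mod_self_left]
        exact Nat.mod_eq_of_lt (by omega)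
      have hk : k = i + 1 := two_pow_eq_of_mod (N := p ^ (2 * r + 1) - 1) (by rw [h, Nat.add_sub_cancel]) (by
        have h2 := hinj (by omega) h1
        have hlt : p < 2 ^ (i + 1 + 1) := by
          have hj' := hj
          rw [pow_succ] at hj'
          rw [pow_succ, pow_succ]
          omega
        rw [Nat.mod_eq_of_lt hlt] at h2
        have h3 := Nat.div_add_mod (p ^ (2 * r + 1)) (2 ^ (i + 1 + 1))
        rw [h2] at h3
        rw [show p ^ (2 * r + 1) - 1 = (p - 1) + 2 ^ (i + 1 + 1) * (p ^ (2 * r + 1) / 2 ^ (i + 1 + 1)) by omega,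
          Nat.add_mul_mod_self_left, Nat.mod_eq_of_lt (by omega), hj])
      subst hk
      exact hfin (by omega)

variable {G : Type u} [Group G] [Finite G]

/-- A nonabelian simple `PSL(2, F)` has `|F| ≥ 4`. -/
theorem four_le_of_iso [IsSimpleGroup G] (hna : ¬ IsMulCommutative G) {F : Type} [Field F] [Fintype F]
    (e : G ≃* Matrix.ProjectiveSpecialLinearGroup (Fin 2) F) : 4 ≤ Fintype.card F := by
  by_contra h
  have hns : ¬ Group.IsSolvable G := fun hs => hna ⟨⟨fun a b =>
    IsSimpleGroup.comm_iff_isSolvable.2 hs a b⟩⟩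
  have h1 : 1 < Fintype.card F := Fintype.one_lt_card
  rcases (show Fintype.card F = 2 ∨ Fintype.card F = 3 by omega) with h2 | h2
  · have hc : Nat.card G = 2 * 3 := by
      rw [Nat.card_congr e.toEquiv, ClassSizePSL.card_psl_even (by rw [h2]), h2]
    haveI : Fact (Nat.Prime 3) := ⟨Nat.prime_three⟩
    obtain ⟨P⟩ : Nonempty (Sylow 3 G) := inferInstance
    have hP : Nat.card ↥(P : Subgroup G) = 3 := by
      rw [P.card_eq_multiplicity, hc, Nat.factorization_mul (by norm_num) (by norm_num)]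
      simp [Nat.Prime.factorization Nat.prime_two, Nat.Prime.factorization Nat.prime_three]
    have hidx : (P : Subgroup G).index = 2 := by
      have := (P : Subgroup G).card_mul_index
      rw [hP, hc] at this
      omega
    have hn : ((P : Subgroup G)).Normal := Subgroup.normal_of_index_eq_two hidx
    rcases hn.eq_bot_or_eq_top with h3 | h3
    · rw [h3, card_bot] at hP; omega
    · rw [h3, index_top] at hidx; omega
  · haveI := Dickson.isSolvable_psl_two_three h2
    exact hns (Group.isSolvable_of_surjective (f := e.symm.toMonoidHom) e.symm.surjective)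

/-- The list for `PSL(2, q)`. -/
theorem psl_list [IsSimpleGroup G] (hna : ¬ IsMulCommutative G) (hG : IsCIT G) {F : Type} [Field F]
    [Fintype F] (e : G ≃* Matrix.ProjectiveSpecialLinearGroup (Fin 2) F) :
    Fintype.card F = 9 ∨ (∃ n : ℕ, Fintype.card F = 2 ^ n) ∨
      ((Fintype.card F).Prime ∧ ∃ k : ℕ, Fintype.card F = 2 ^ k + 1 ∨ Fintype.card F + 1 = 2 ^ k) := by
  haveI : Fact (Nat.Prime 2) := ⟨Nat.prime_two⟩
  have h4 := four_le_of_iso hna e
  obtain ⟨p, hpp, -, n, hn0, hn⟩ := Dickson.exists_char (F := F)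
  rcases hpp.eq_two_or_odd with rfl | hp2
  · exact Or.inr (Or.inl ⟨n, hn⟩)
  have hqo : Fintype.card F % 2 = 1 := by rw [hn, Nat.pow_mod, hp2, one_pow, Nat.one_mod]
  suffices hk : ∃ k : ℕ, Fintype.card F + 1 = 2 ^ k ∨ Fintype.card F = 2 ^ k + 1 by
    obtain ⟨k, hk⟩ := hk
    rcases eq_nine_or_prime hpp hp2 hn0.ne' (k := k) (hn ▸ hk) with h | h
    · exact Or.inl (hn.trans h)
    · exact Or.inr (Or.inr ⟨hn ▸ h, k, hk.symm⟩)
  by_cases h7 : 7 ≤ Fintype.card F
  · obtain ⟨a, b, h⟩ := ClassSizePSL.exists_oddData hqo h7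
    obtain ⟨y, t, -, -, ht, -, htm⟩ := ClassSizePSL.exists_dihedral h
    have ht1 : t ≠ 1 := fun e1 => htm (e1 ▸ one_mem _)
    have hcit : IsPGroup 2 (centralizer ({t} : Set (Matrix.ProjectiveSpecialLinearGroup (Fin 2) F))) := by
      intro x
      have ho : orderOf (e.symm t) = 2 := by
        rw [MulEquiv.orderOf_eq]
        exact orderOf_eq_prime (by rw [pow_two]; exact ht) ht1
      have hx : e.symm x ∈ centralizer ({e.symm t} : Set G) := mem_centralizer_singleton_iff.2 (by
        rw [← map_mul, ← map_mul, mem_centralizer_singleton_iff.1 x.2])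
      obtain ⟨k, hk⟩ := hG _ ho ⟨_, hx⟩
      refine ⟨k, Subtype.ext (e.symm.injective ?_)⟩
      have h2 : e.symm (x : Matrix.ProjectiveSpecialLinearGroup (Fin 2) F) ^ 2 ^ k = 1 :=
        congrArg Subtype.val hk
      simpa using h2
    obtain ⟨k, hk⟩ := IsPGroup.iff_card.1 hcit
    obtain ⟨hA, hB⟩ := Dickson.card_centralizer_involution hqo h7 (by rw [pow_two]; exact ht) ht1
    refine ⟨k, ?_⟩
    rcases (show Fintype.card F % 4 = 1 ∨ Fintype.card F % 4 = 3 by omega) with h' | h'
    · have := hA h'; omega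
    · have := hB h'; omega
  · exact ⟨2, Or.inr (by norm_num; omega)⟩

end Cfsg.Lib.CIT
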