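import Cfsg.Agent.Lib.CIT.Global

/-!
Two maximal locals over a common Sylow 2-subgroup: both are `2^{2n} : L₂(2^n)` and the Sylow subgroup is
the product of the two elementary abelian radicals (see `notes/cit_lead.md`, §5).
-/

set_option autoImplicit false
set_option linter.style.haveILetI false

namespace Cfsg.Lib.CIT

open Subgroup
open Cfsg.Lib

universe u

variable {G : Type u} [Group G] [Finite G]

omit [Finite G] in
/-- Two adjacent vertices: maximal locals sharing a Sylow 2-subgroup. -/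
def Step (M N : Subgroup G) : Prop :=
  IsMaxLocal M ∧ IsMaxLocal N ∧ ∃ S : Sylow 2 G, (S : Subgroup G) ≤ M ∧ (S : Subgroup G) ≤ N

/-- Walks of given length. -/
def Walk : ℕ → Subgroup G → Subgroup G → Prop
  | 0, M, N => M = N
  | n + 1, M, N => ∃ L, Walk n M L ∧ Step L N

omit [Finite G] in
theorem Step.symm {M N : Subgroup G} (h : Step M N) : Step N M := by
  obtain ⟨h1, h2, S, h3, h4⟩ := h
  exact ⟨h2, h1, S, h4, h3⟩

omit [Finite G] in
theorem Walk.cons : ∀ {n : ℕ} {M L N : Subgroup G}, Step M L → Walk n L N → Walk (n + 1) M N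
  | 0, M, _, _, hs, rfl => ⟨M, rfl, hs⟩
  | _ + 1, _, _, _, hs, ⟨K, hK, hKN⟩ => ⟨K, Walk.cons hs hK, hKN⟩

omit [Finite G] in
theorem Walk.symm : ∀ {n : ℕ} {M N : Subgroup G}, Walk n M N → Walk n N M
  | 0, _, _, h => Eq.symm h
  | _ + 1, _, _, ⟨_, hK, hKN⟩ => Walk.cons hKN.symm (Walk.symm hK)

omit [Finite G] in
theorem Walk.uncons : ∀ {n : ℕ} {M N : Subgroup G}, Walk (n + 1) M N → ∃ L, Step M L ∧ Walk n L N
  | 0, _, N, ⟨_, rfl, hs⟩ => ⟨N, hs, rfl⟩
  | _ + 1, _, _, ⟨_, hK, hKN⟩ =>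
    let ⟨L, hL, hLK⟩ := Walk.uncons hK
    ⟨L, hL, _, hLK, hKN⟩

theorem Walk.map (φ : G ≃* G) : ∀ {n : ℕ} {M N : Subgroup G}, Walk n M N →
    Walk n (M.map φ.toMonoidHom) (N.map φ.toMonoidHom)
  | 0, _, _, h => congrArg (Subgroup.map φ.toMonoidHom) h
  | _ + 1, _, _, ⟨K, hK, h1, h2, S, h3, h4⟩ =>
    ⟨_, Walk.map φ hK, h1.map φ, h2.map φ, S.mapSurjective (f := φ.toMonoidHom) φ.surjective,
      map_mono h3, map_mono h4⟩

theorem sylowTwoIn_of_sylow {M : Subgroup G} {S : Sylow 2 G} (hS : (S : Subgroup G) ≤ M) :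
    Cfsg.IsSylowTwoIn (S : Subgroup G) M := by
  haveI : Fact (Nat.Prime 2) := ⟨Nat.prime_two⟩
  refine ⟨hS, S.2, ?_⟩
  have h1 : (S : Subgroup G).relIndex M ∣ (S : Subgroup G).index :=
    ⟨M.index, (relIndex_mul_index hS).symm⟩
  exact (Nat.odd_iff.2 (Nat.two_dvd_ne_zero.1 S.not_dvd_index)).of_dvd_nat h1

theorem rad_le_sylow {M : Subgroup G} {S : Sylow 2 G} (hS : (S : Subgroup G) ≤ M) :
    rad M ≤ (S : Subgroup G) :=
  rad_le_of_sylow (sylowTwoIn_of_sylow hS)

/-- The image of `v ↦ [v, a]` on `vee M` has order the index of the fixed points. -/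
theorem card_vee_le {M B : Subgroup G} {a : G} (haM : a ∈ M)
    (hB : ∀ v ∈ vee M, v * (a * v * a⁻¹) ∈ B) :
    Nat.card ↥(vee M) ≤ Nat.card ↥B * Nat.card ↥(vee M ⊓ centralizer ({a} : Set G)) := by
  classical
  set V := vee M
  have hn : ∀ v : ↥V, a * (v : G) * a⁻¹ ∈ V := fun v =>
    (mem_normalizer_iff.1 (le_normalizer_vee M haM) _).1 v.2
  let φ : ↥V →* ↥B := MonoidHom.mk' (fun v => ⟨(v : G) * (a * (v : G) * a⁻¹), hB v v.2⟩)
    fun x y => Subtype.ext (by
      have hc : Commute (y : G) (a * (x : G) * a⁻¹) := vee_commute y.2 (vee_le_rad M (hn x))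
      show (x : G) * (y : G) * (a * ((x : G) * (y : G)) * a⁻¹)
        = (x : G) * (a * (x : G) * a⁻¹) * ((y : G) * (a * (y : G) * a⁻¹))
      calc (x : G) * (y : G) * (a * ((x : G) * (y : G)) * a⁻¹)
          = (x : G) * ((y : G) * (a * (x : G) * a⁻¹)) * (a * (y : G) * a⁻¹) := by group
        _ = (x : G) * ((a * (x : G) * a⁻¹) * (y : G)) * (a * (y : G) * a⁻¹) := by rw [hc.eq]
        _ = _ := by group)
  have hker : φ.ker.map V.subtype ≤ V ⊓ centralizer ({a} : Set G) := by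
    rintro _ ⟨v, hv, rfl⟩
    refine ⟨v.2, mem_centralizer_singleton_iff.2 ?_⟩
    have h1 : (v : G) * (a * (v : G) * a⁻¹) = 1 := congrArg Subtype.val hv
    have h3 : (v : G) * (v : G) = 1 := by rw [← pow_two]; exact vee_sq v.2
    have h2 : a * (v : G) * a⁻¹ = (v : G) := mul_left_cancel (h1.trans h3.symm)
    exact (mul_inv_eq_iff_eq_mul.1 h2).symm
  have h2 := Nat.card_le_card_of_injective _ (inclusion_injective hker)
  rw [Core.card_map_subtype] at h2
  have h3 := Subgroup.card_mul_index φ.ker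
  rw [Subgroup.index_ker] at h3
  rw [← h3, Nat.mul_comm (Nat.card ↥B)]
  exact Nat.mul_le_mul h2 (Nat.card_le_card_of_injective _ (Subgroup.subtype_injective _))

theorem relIndex_le_of_inf_eq {A R T : Subgroup G} (hA : A ≤ T) :
    (A ⊓ R).relIndex A ≤ R.relIndex T := by
  rw [inf_relIndex_left]
  exact relIndex_le_of_le_right hA (index_ne_zero_of_finite)

/-- Half of the pair lemma. -/
theorem FFShape.inf_centralizer {M T : Subgroup G} {q : ℕ} (h : FFShape M T q) {A : Subgroup G}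
    (hAT : A ≤ T) (hAR : ¬ A ≤ rad M) :
    vee M ⊓ centralizer (A : Set G) = vee M ⊓ centralizer (T : Set G) := by
  obtain ⟨a, haA, har⟩ := SetLike.not_le_iff_exists.1 hAR
  refine le_antisymm ?_ (inf_le_inf_left _ (centralizer_le hAT))
  rw [← h.fix_eq a (hAT haA) har]
  exact inf_le_inf_left _ (centralizer_le (Set.singleton_subset_iff.2 haA))

theorem elementary_mod_rad {M N : Subgroup G} :
    ∀ a ∈ vee N, a ^ 2 ∈ rad M ∧ ∀ b ∈ vee N, a⁻¹ * b⁻¹ * a * b ∈ rad M := fun a ha =>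
  ⟨by rw [vee_sq ha]; exact one_mem _, fun b hb => by
    have hc : Commute a b := vee_commute ha (vee_le_rad N hb)
    have : a⁻¹ * b⁻¹ * a * b = 1 := by
      rw [mul_assoc (a⁻¹ * b⁻¹), hc.eq]; group
    rw [this]; exact one_mem _⟩

/-- Facts about two maximal locals whose `vee`'s normalize but do not centralize each other. -/
structure PairFacts (S : Sylow 2 G) (M N : Subgroup G) (q : ℕ) : Prop where
  le_left : (S : Subgroup G) ≤ M
  le_right : (S : Subgroup G) ≤ N
  shape_left : FFShape M (S : Subgroup G) q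
  shape_right : FFShape N (S : Subgroup G) q
  rad_left : rad M = vee M
  rad_right : rad N = vee N
  sup_eq : vee M ⊔ vee N = (S : Subgroup G)
  inf_left : vee M ⊓ vee N = vee M ⊓ centralizer ((S : Subgroup G) : Set G)
  inf_right : vee M ⊓ vee N = vee N ⊓ centralizer ((S : Subgroup G) : Set G)

theorem not_vee_le_symm (hG : IsCIT G) {M N : Subgroup G} (hN : IsMaxLocal N) {S' : Sylow 2 G}
    (hSN : (S' : Subgroup G) ≤ N) (hMS : vee M ≤ (S' : Subgroup G)) (hnot : ¬ vee M ≤ rad N) :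
    ¬ vee N ≤ rad M := fun h => hnot fun v hv =>
  (hN.inf_centralizer_vee hG).le ⟨hSN (hMS hv), mem_centralizer_iff.2 fun _ hw =>
    (vee_commute hv (h hw)).eq.symm⟩

theorem pairFacts_aux (hG : IsCIT G) (hFF : FFProvider G) {M N : Subgroup G}
    (hM : IsMaxLocal M) (hN : IsMaxLocal N) {S S' : Sylow 2 G}
    (hSM : (S : Subgroup G) ≤ M) (hSN : (S' : Subgroup G) ≤ N)
    (hNS : vee N ≤ (S : Subgroup G)) (hMS : vee M ≤ (S' : Subgroup G))
    (hnot : ¬ vee M ≤ rad N) (hnot' : ¬ vee N ≤ rad M)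
    (hwlog : (vee M ⊓ rad N).relIndex (vee M) ≤ (vee N ⊓ rad M).relIndex (vee N)) :
    ∃ q, PairFacts S M N q := by
  classical
  haveI : Fact (Nat.Prime 2) := ⟨Nat.prime_two⟩
  have hTM := sylowTwoIn_of_sylow hSM
  have hTN := sylowTwoIn_of_sylow hSN
  set V := vee M with hVdef
  set A := vee N with hAdef
  set a := (A ⊓ rad M).relIndex A with hadef
  set b := (V ⊓ rad N).relIndex V with hbdef
  have hVA : V ⊓ rad N ≤ V ⊓ centralizer (A : Set G) :=
    inf_le_inf_left _ (rad_le_centralizer_vee N)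
  have hAV : A ⊓ rad M ≤ A ⊓ centralizer (V : Set G) :=
    inf_le_inf_left _ (rad_le_centralizer_vee M)
  have hcV : Nat.card ↥(V ⊓ rad N) * b = Nat.card ↥V := Core.card_mul_relIndex inf_le_left
  have hcA : Nat.card ↥(A ⊓ rad M) * a = Nat.card ↥A := Core.card_mul_relIndex inf_le_left
  -- factorization fails on `vee M`
  obtain ⟨q, hq⟩ := hFF M S A hM hTM hNS hnot' elementary_mod_rad (by
    rw [← hVdef, ← hcV, Nat.mul_comm]
    exact Nat.mul_le_mul hwlog (Nat.card_le_card_of_injective _ (inclusion_injective hVA)))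
  have hCV : V ⊓ centralizer (A : Set G) = V ⊓ centralizer ((S : Subgroup G) : Set G) :=
    hq.inf_centralizer hNS hnot'
  have hq0 : 0 < q := by have := hq.two_le; omega
  have haq : a ≤ q := hq.rel_index ▸ relIndex_le_of_inf_eq hNS
  have hbq : q ≤ b := by
    refine Nat.le_of_mul_le_mul_left ?_ hq0
    calc q * q = Nat.card ↥V := by rw [← pow_two]; exact hq.card_vee.symm
      _ = Nat.card ↥(V ⊓ rad N) * b := hcV.symm
      _ ≤ q * b := Nat.mul_le_mul_right b (by
          rw [← hq.card_fix, ← hCV]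
          exact Nat.card_le_card_of_injective _ (inclusion_injective hVA))
  have hb : b = q := le_antisymm (hwlog.trans haq) hbq
  have ha : a = q := le_antisymm haq (hbq.trans hwlog)
  -- hence on `vee N` as well
  obtain ⟨q', hq'⟩ := hFF N S' V hN hTN hMS hnot elementary_mod_rad (by
    rw [← hAdef, ← hcA, Nat.mul_comm]
    exact Nat.mul_le_mul (le_of_eq (ha.trans hb.symm))
      (Nat.card_le_card_of_injective _ (inclusion_injective hAV)))
  have hCA : A ⊓ centralizer (V : Set G) = A ⊓ centralizer ((S' : Subgroup G) : Set G) :=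
    hq'.inf_centralizer hMS hnot
  have hqq : q = q' := by
    refine le_antisymm (hb ▸ hq'.rel_index ▸ relIndex_le_of_inf_eq hMS) ?_
    refine Nat.le_of_mul_le_mul_left ?_ (show 0 < q' by have := hq'.two_le; omega)
    calc q' * q' = Nat.card ↥A := by rw [← pow_two]; exact hq'.card_vee.symm
      _ = Nat.card ↥(A ⊓ rad M) * q := by rw [← ha, hcA]
      _ ≤ q' * q := Nat.mul_le_mul_right q (by
          rw [← hq'.card_fix, ← hCA]
          exact Nat.card_le_card_of_injective _ (inclusion_injective hAV))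
  subst hqq
  -- the two fixed-point groups coincide
  have hVAW : V ⊓ A ≤ V ⊓ centralizer ((S : Subgroup G) : Set G) := by
    rw [← hCV]
    exact inf_le_inf_left _ ((vee_le_rad N).trans (rad_le_centralizer_vee N))
  have hVAW' : V ⊓ A ≤ A ⊓ centralizer ((S' : Subgroup G) : Set G) := by
    rw [← hCA, inf_comm]
    exact inf_le_inf_left _ ((vee_le_rad M).trans (rad_le_centralizer_vee M))
  obtain ⟨a₀, ha₀A, ha₀r⟩ := SetLike.not_le_iff_exists.1 hnot'
  have ha₀M : a₀ ∈ M := hSM (hNS ha₀A)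
  have hcard : q ≤ Nat.card ↥(V ⊓ A) := by
    have h1 := card_vee_le (B := V ⊓ A) ha₀M fun v hv => by
      refine ⟨mul_mem hv ((mem_normalizer_iff.1 (le_normalizer_vee M ha₀M) v).1 hv), ?_⟩
      have h2 : v * a₀ * v⁻¹ ∈ A :=
        (mem_normalizer_iff.1 (le_normalizer_vee N (hSN (hMS hv))) a₀).1 ha₀A
      rw [show v * (a₀ * v * a₀⁻¹) = (v * a₀ * v⁻¹) * (v * v) * a₀⁻¹ by group,
        show v * v = 1 by rw [← pow_two]; exact vee_sq hv, mul_one]
      exact A.mul_mem h2 (A.inv_mem ha₀A)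
    rw [hq.fix_eq a₀ (hNS ha₀A) ha₀r, hq.card_fix, hq.card_vee, pow_two] at h1
    exact Nat.le_of_mul_le_mul_right h1 hq0
  have hW : V ⊓ A = V ⊓ centralizer ((S : Subgroup G) : Set G) :=
    eq_of_le_of_card_ge hVAW (by rw [hq.card_fix]; exact hcard)
  have hW' : V ⊓ A = A ⊓ centralizer ((S' : Subgroup G) : Set G) :=
    eq_of_le_of_card_ge hVAW' (by rw [hq'.card_fix]; exact hcard)
  obtain ⟨z, hz, hz1⟩ := (bot_or_exists_ne_one (V ⊓ A)).resolve_left fun h => by
    rw [h, card_bot] at hcard; have := hq.two_le; omega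
  have hSS : S = S' := by
    have hsup : IsPGroup 2 ↥((S : Subgroup G) ⊔ (S' : Subgroup G)) := by
      refine (hG.isPGroup_centralizer ⟨1, by rw [pow_one]; exact vee_sq hz.1⟩ hz1).to_le
        (sup_le ?_ ?_)
      · exact fun x hx => mem_centralizer_singleton_iff.2
          (mem_centralizer_iff.1 (hW.le hz).2 x hx)
      · exact fun x hx => mem_centralizer_singleton_iff.2
          (mem_centralizer_iff.1 (hW'.le hz).2 x hx)
    exact Sylow.ext ((S.3 hsup le_sup_left).symm.trans (S'.3 hsup le_sup_right))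
  subst hSS
  -- the radicals are elementary abelian
  have radical : ∀ {M N : Subgroup G}, IsMaxLocal M → IsMaxLocal N → (S : Subgroup G) ≤ M →
      (S : Subgroup G) ≤ N → FFShape M (S : Subgroup G) q → ¬ vee N ≤ rad M →
      Nat.card ↥(vee N ⊓ rad M) = q → rad M = vee M := by
    intro M N hM hN hSM hSN hq hnot hc
    obtain ⟨a, haA, har⟩ := SetLike.not_le_iff_exists.1 hnot
    have haS : a ∈ (S : Subgroup G) := (vee_le_rad N).trans (rad_le_sylow hSN) haA
    have ha2 : orderOf a = 2 := orderOf_eq_prime (vee_sq haA) fun h => har (h ▸ one_mem _)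
    set R := rad M
    set C := R ⊓ centralizer ({a} : Set G)
    have hhalf := hG.half (isPGroup_rad M) (le_normalizer_rad M) ha2 (hSM haS) har
    have hbound : Nat.card ↥R ≤ q * Nat.card ↥C := by
      let f : ↥R → ↥(vee N ⊓ R) := fun r => ⟨a⁻¹ * ((r : G) * a * (r : G)⁻¹),
        (vee N).mul_mem ((vee N).inv_mem haA) ((mem_normalizer_iff.1
          (le_normalizer_vee N (hSN (rad_le_sylow hSM r.2))) a).1 haA), by
        rw [show a⁻¹ * ((r : G) * a * (r : G)⁻¹) = (a⁻¹ * (r : G) * a) * (r : G)⁻¹ by group]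
        refine R.mul_mem ?_ (R.inv_mem r.2)
        have := (mem_normalizer_iff.1 (le_normalizer_rad M (M.inv_mem (hSM haS))) _).1 r.2
        rwa [inv_inv] at this⟩
      have hf : ∀ r s : ↥R, f r = f s → (s : G)⁻¹ * (r : G) ∈ C := fun r s h => by
        refine ⟨R.mul_mem (R.inv_mem s.2) r.2, mem_centralizer_singleton_iff.2 ?_⟩
        have h1 : a⁻¹ * ((r : G) * a * (r : G)⁻¹) = a⁻¹ * ((s : G) * a * (s : G)⁻¹) :=
          congrArg Subtype.val h
        have h2 := mul_left_cancel h1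
        calc (s : G)⁻¹ * (r : G) * a = (s : G)⁻¹ * ((r : G) * a * (r : G)⁻¹) * (r : G) := by group
          _ = (s : G)⁻¹ * ((s : G) * a * (s : G)⁻¹) * (r : G) := by rw [h2]
          _ = a * ((s : G)⁻¹ * (r : G)) := by group
      let g : ↥R → ↥(vee N ⊓ R) × ↥C := fun r =>
        ⟨f r, ⟨((Function.invFun f (f r) : ↥R) : G)⁻¹ * (r : G),
          hf r _ (Function.invFun_eq (f := f) ⟨r, rfl⟩).symm⟩⟩
      have hg : Function.Injective g := fun r s h => by
        have h1 : f r = f s := congrArg Prod.fst h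
        have h2 := congrArg (fun x => ((x.2 : ↥C) : G)) h
        simp only [g] at h2
        rw [h1] at h2
        exact Subtype.ext (mul_left_cancel h2)
      have := Nat.card_le_card_of_injective g hg
      rwa [Nat.card_prod, hc] at this
    have hR : Nat.card ↥R ≤ q ^ 2 := by
      have h1 : Nat.card ↥R * Nat.card ↥R ≤ q ^ 2 * Nat.card ↥R := by
        calc Nat.card ↥R * Nat.card ↥R ≤ (q * Nat.card ↥C) * (q * Nat.card ↥C) :=
              Nat.mul_le_mul hbound hbound
          _ = q ^ 2 * Nat.card ↥C ^ 2 := by ring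
          _ ≤ q ^ 2 * Nat.card ↥R := Nat.mul_le_mul_left _ hhalf
      exact Nat.le_of_mul_le_mul_right h1 Nat.card_pos
    exact (eq_of_le_of_card_ge (vee_le_rad M) (by rw [hq.card_vee]; exact hR)).symm
  have hcAR : Nat.card ↥(A ⊓ rad M) = q := by
    refine Nat.eq_of_mul_eq_mul_right hq0 ?_
    rw [← pow_two, ← hq'.card_vee, ← hAdef, ← hcA, ha]
  have hcVR : Nat.card ↥(V ⊓ rad N) = q := by
    refine Nat.eq_of_mul_eq_mul_right hq0 ?_
    rw [← pow_two, ← hq.card_vee, ← hVdef, ← hcV, hb]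
  have hRM : rad M = V := radical hM hN hSM hSN hq hnot' hcAR
  have hRN : rad N = A := radical hN hM hSN hSM hq' hnot hcVR
  refine ⟨q, hSM, hSN, hq, hq', hRM, hRN, ?_, hW, hW'⟩
  have hle : V ⊔ A ≤ (S : Subgroup G) := sup_le hMS hNS
  refine eq_of_le_of_card_ge hle ?_
  have h1 : Nat.card ↥V * q = Nat.card ↥(S : Subgroup G) := by
    rw [← hq.rel_index, hRM]; exact Core.card_mul_relIndex hMS
  have h2 : Nat.card ↥V * V.relIndex (V ⊔ A) = Nat.card ↥(V ⊔ A) := Core.card_mul_relIndex le_sup_left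
  have h3 : q ≤ V.relIndex (V ⊔ A) := by
    rw [← ha, hadef, hRM, inf_relIndex_left]
    exact relIndex_le_of_le_right le_sup_right (index_ne_zero_of_finite)
  rw [← h1, ← h2]
  exact Nat.mul_le_mul_left _ h3

theorem pairFacts_of_mutual (hG : IsCIT G) (hFF : FFProvider G) {M N : Subgroup G}
    (hM : IsMaxLocal M) (hN : IsMaxLocal N) {S S' : Sylow 2 G}
    (hSM : (S : Subgroup G) ≤ M) (hSN : (S' : Subgroup G) ≤ N)
    (hNS : vee N ≤ (S : Subgroup G)) (hMS : vee M ≤ (S' : Subgroup G))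
    (hnot : ¬ vee M ≤ rad N) : ∃ (S₂ : Sylow 2 G) (q : ℕ), PairFacts S₂ M N q := by
  have hnot' := not_vee_le_symm hG hN hSN hMS hnot
  rcases le_total ((vee M ⊓ rad N).relIndex (vee M)) ((vee N ⊓ rad M).relIndex (vee N)) with h | h
  · exact ⟨S, pairFacts_aux hG hFF hM hN hSM hSN hNS hMS hnot hnot' h⟩
  · obtain ⟨q, hq⟩ := pairFacts_aux hG hFF hN hM hSN hSM hMS hNS hnot' hnot h
    exact ⟨S', q, hq.le_right, hq.le_left, hq.shape_right, hq.shape_left, hq.rad_right, hq.rad_left,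
      by rw [sup_comm]; exact hq.sup_eq, by rw [inf_comm]; exact hq.inf_right,
      by rw [inf_comm]; exact hq.inf_left⟩

theorem exists_pairFacts [IsSimpleGroup G] (hG : IsCIT G) (hF : FullSylow G) (hFF : FFProvider G)
    (hne : ∃ M : Subgroup G, IsMaxLocal M) :
    ∃ (S : Sylow 2 G) (P Q : Subgroup G) (q : ℕ),
      IsMaxLocal P ∧ IsMaxLocal Q ∧ PairFacts S P Q q := by
  classical
  haveI : Fact (Nat.Prime 2) := ⟨Nat.prime_two⟩
  obtain ⟨P, hP⟩ := hne
  obtain ⟨S, hS⟩ := hF P hP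
  obtain ⟨Q, hQ, hQP, hSQ⟩ := exists_two_maxLocal hG hF hP hS
  -- some pair at finite distance does not commute
  have hex : ∃ n, ∃ M N : Subgroup G, IsMaxLocal M ∧ Walk n M N ∧ ¬ vee M ≤ rad N := by
    by_contra hcon
    push Not at hcon
    let Cset : Set (Subgroup G) := {N | ∃ n, Walk n P N}
    have hPC : P ∈ Cset := ⟨0, rfl⟩
    have hQC : Q ∈ Cset := ⟨1, P, rfl, hP, hQ, S, hS, hSQ⟩
    have hinv : ∀ g : G, P.map (MulAut.conj g).toMonoidHom ∈ Cset →
        ∀ N ∈ Cset, N.map (MulAut.conj g).toMonoidHom ∈ Cset := by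
      rintro g ⟨m, hm⟩ N ⟨n, hn⟩
      have h2 := hn.map (MulAut.conj g)
      clear hn
      generalize N.map (MulAut.conj g).toMonoidHom = N' at h2 ⊢
      induction n generalizing N' with
      | zero => exact h2 ▸ ⟨m, hm⟩
      | succ n ih =>
        obtain ⟨K, hK, hs⟩ := h2
        obtain ⟨k, hk⟩ := ih K hK
        exact ⟨k + 1, K, hk, hs⟩
    set N₀ : Subgroup G := ⨅ N ∈ Cset, rad N with hN₀
    have hle : N₀ ≤ rad P := iInf₂_le P hPC
    have hne : N₀ ≠ ⊥ := by
      intro h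
      refine hP.vee_ne_bot (le_bot_iff.1 (le_trans (le_iInf₂ fun N hN => ?_) h.le))
      obtain ⟨n, hn⟩ := hN
      exact hcon n P N hP hn
    have hnorm : ∀ g : G, P.map (MulAut.conj g).toMonoidHom ∈ Cset →
        ∀ x ∈ N₀, g⁻¹ * x * g ∈ N₀ := by
      intro g hg x hx
      simp only [hN₀, mem_iInf] at hx ⊢
      intro N hN
      have h1 := hx _ (hinv g hg N hN)
      rw [rad_map] at h1
      obtain ⟨y, hy, hyx⟩ := h1
      rw [← show g * y * g⁻¹ = x from hyx]
      simpa [mul_assoc] using hy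
    have hnormle : ∀ L : Subgroup G, (∀ g ∈ L, P.map (MulAut.conj g).toMonoidHom ∈ Cset) →
        L ≤ normalizer (N₀ : Set G) := by
      intro L hL g hg
      refine mem_normalizer_iff.2 fun x => ⟨fun hx => ?_, fun hx => ?_⟩
      · simpa using hnorm g⁻¹ (hL _ (inv_mem hg)) x hx
      · simpa [mul_assoc] using hnorm g (hL g hg) _ hx
    have h2 : IsPGroup 2 ↥N₀ := (isPGroup_rad P).to_le hle
    have hPn : P ≤ normalizer (N₀ : Set G) := hnormle P fun g hg => by
      rw [Core.map_conj_eq_of_mem_normalizer (le_normalizer hg)]; exact hPC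
    have hQn : Q ≤ normalizer (N₀ : Set G) := hnormle Q fun g hg => by
      refine ⟨1 + 1, Q, ⟨P, rfl, hP, hQ, S, hS, hSQ⟩, hQ, hP.map _, ?_⟩
      refine ⟨S.mapSurjective (f := (MulAut.conj g).toMonoidHom) (MulAut.conj g).surjective, ?_, map_mono hS⟩
      exact (map_mono hSQ).trans (le_of_eq (Core.map_conj_eq_of_mem_normalizer (le_normalizer hg)))
    exact hQP ((hQ.normalizer_eq h2 hne hQn).symm.trans (hP.normalizer_eq h2 hne hPn))
  obtain ⟨M, N, hM, hw, hnot⟩ := Nat.find_spec hex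
  have hmin : ∀ {k : ℕ} {A B : Subgroup G}, k < Nat.find hex → IsMaxLocal A → Walk k A B →
      vee A ≤ rad B := fun {k A B} hk hA hwk => by
    by_contra h
    exact Nat.find_min hex hk ⟨A, B, hA, hwk, h⟩
  obtain ⟨n, hn⟩ : ∃ n, Nat.find hex = n + 1 := by
    refine Nat.exists_eq_succ_of_ne_zero fun h0 => hnot ?_
    rw [h0] at hw
    cases hw
    exact vee_le_rad M
  rw [hn] at hw
  obtain ⟨M₁, ⟨-, hM₁, S₀, hS₀M, hS₀M₁⟩, hw₁⟩ := hw.uncons
  obtain ⟨L, hwL, hL, hN, S₁, hS₁L, hS₁N⟩ := hw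
  have h1 : vee N ≤ rad M₁ := hmin (by omega) hN hw₁.symm
  have h2 : vee M ≤ rad L := hmin (by omega) hM hwL
  obtain ⟨S₂, q, hq⟩ := pairFacts_of_mutual hG hFF hM hN hS₀M hS₁N (h1.trans (rad_le_sylow hS₀M₁))
    (h2.trans (rad_le_sylow hS₁L)) hnot
  exact ⟨S₂, M, N, q, hM, hN, hq⟩

end Cfsg.Lib.CIT
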