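import Cfsg.Agent.Lib.CIT.Defs
import Cfsg.Agent.Lib.Local.Basic
import Cfsg.Agent.Lib.Local.BaumannBlockBasic
import Cfsg.Agent.Lib.Invol.BaerSuzuki

/-!
Groups in which every involution centralizer is a 2-group: basic facts, and the elementary facts
about maximal locals (see `notes/cit_lead.md`, §0).
-/

set_option autoImplicit false
set_option linter.style.haveILetI false

namespace Cfsg.Lib.CIT

open Subgroup
open Cfsg.Lib

universe u

variable {G : Type u} [Group G]

theorem eq_one_of_odd_two [Finite G] {H : Subgroup G} (hH : IsPGroup 2 ↥H) {x : G} (hx : x ∈ H)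
    (ho : Odd (orderOf x)) : x = 1 := by
  obtain ⟨k, hk⟩ := hH ⟨x, hx⟩
  have h1 : x ^ 2 ^ k = 1 := congrArg Subtype.val hk
  exact orderOf_eq_one_iff.1
    (Nat.Coprime.eq_one_of_dvd ((Nat.coprime_two_right.2 ho).pow_right k) (orderOf_dvd_of_pow_eq_one h1))

theorem inv_eq_self_of_two {u : G} (hu : orderOf u = 2) : u⁻¹ = u := by
  rw [inv_eq_iff_mul_eq_one, ← pow_two, ← hu, pow_orderOf_eq_one]

/-! ### CIT groups -/

theorem IsCIT.of_injective (hG : IsCIT G) {L : Type u} [Group L] (f : L →* G)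
    (hf : Function.Injective f) : IsCIT L := by
  intro t ht x
  have ht' : orderOf (f t) = 2 := (orderOf_injective f hf t).trans ht
  have hx : f x ∈ centralizer ({f t} : Set G) := mem_centralizer_singleton_iff.2 (by
    have h := mem_centralizer_singleton_iff.1 x.2
    rw [← map_mul, ← map_mul, h])
  obtain ⟨k, hk⟩ := hG (f t) ht' ⟨f x, hx⟩
  refine ⟨k, Subtype.ext (hf ?_)⟩
  have h2 : f (x : L) ^ 2 ^ k = 1 := congrArg Subtype.val hk
  simpa using h2

theorem IsCIT.subgroup (hG : IsCIT G) (H : Subgroup G) : IsCIT ↥H :=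
  hG.of_injective H.subtype H.subtype_injective

variable [Finite G]

/-- The centralizer of a non-identity 2-element is a 2-group. -/
theorem IsCIT.isPGroup_centralizer (hG : IsCIT G) {y : G} (hy : ∃ k : ℕ, y ^ 2 ^ k = 1) (hy1 : y ≠ 1) :
    IsPGroup 2 (centralizer ({y} : Set G)) := by
  haveI : Fact (Nat.Prime 2) := ⟨Nat.prime_two⟩
  obtain ⟨k, hk⟩ := hy
  obtain ⟨j, -, hj⟩ := (Nat.dvd_prime_pow Nat.prime_two).1 (orderOf_dvd_of_pow_eq_one hk)
  have hj1 : 1 ≤ j := by
    by_contra h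
    exact hy1 (orderOf_eq_one_iff.1 (by rw [hj, show j = 0 by omega, pow_zero]))
  have ht : orderOf (y ^ 2 ^ (j - 1)) = 2 := by
    rw [orderOf_pow, hj, Nat.gcd_eq_right (pow_dvd_pow 2 (Nat.sub_le j 1)),
      Nat.pow_div (Nat.sub_le j 1) (by norm_num), show j - (j - 1) = 1 by omega, pow_one]
  refine (hG _ ht).to_le fun x hx => ?_
  have hx' : Commute x y := mem_centralizer_singleton_iff.1 hx
  exact mem_centralizer_singleton_iff.2 (hx'.pow_right _).eq

/-- An element of odd order commutes with no non-identity element of a 2-subgroup. -/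
theorem IsCIT.fpf (hG : IsCIT G) {Y : Subgroup G} (hY : IsPGroup 2 ↥Y) {x y : G} (hx1 : x ≠ 1)
    (hx : Odd (orderOf x)) (hy : y ∈ Y) (hxy : Commute x y) : y = 1 := by
  by_contra hy1
  obtain ⟨k, hk⟩ := hY ⟨y, hy⟩
  exact hx1 (eq_one_of_odd_two (hG.isPGroup_centralizer ⟨k, congrArg Subtype.val hk⟩ hy1)
    (mem_centralizer_singleton_iff.2 hxy.eq) hx)

/-- Half of a 2-group is the most an involution centralizes if it inverts an element of odd order
acting on the group. -/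
theorem IsCIT.half_of_inverted (hG : IsCIT G) {Y : Subgroup G} (hY : IsPGroup 2 ↥Y) {u x : G}
    (hu : orderOf u = 2) (hx1 : x ≠ 1) (hx : Odd (orderOf x)) (hxn : x ∈ normalizer (Y : Set G))
    (hinv : u * x * u⁻¹ = x⁻¹) :
    Nat.card ↥(Y ⊓ centralizer ({u} : Set G)) ^ 2 ≤ Nat.card ↥Y := by
  classical
  set C := Y ⊓ centralizer ({u} : Set G) with hC
  let f : ↥C × ↥C → ↥Y := fun p => ⟨(p.1 : G) * (x * (p.2 : G) * x⁻¹),
    mul_mem p.1.2.1 ((mem_normalizer_iff.1 hxn _).1 p.2.2.1)⟩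
  have hfix : ∀ c ∈ C, x * c * x⁻¹ ∈ C → c = 1 := by
    intro c hc hxc
    have h1 : u * c * u⁻¹ = c := by
      rw [← mem_centralizer_singleton_iff.1 hc.2, mul_inv_cancel_right]
    have h2 : u * (x * c * x⁻¹) * u⁻¹ = x * c * x⁻¹ := by
      rw [← mem_centralizer_singleton_iff.1 hxc.2, mul_inv_cancel_right]
    have h3 : u * (x * c * x⁻¹) * u⁻¹ = x⁻¹ * c * x := by
      rw [show u * (x * c * x⁻¹) * u⁻¹ = (u * x * u⁻¹) * (u * c * u⁻¹) * (u * x * u⁻¹)⁻¹ by group,
        hinv, h1, inv_inv]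
    have h4 : x⁻¹ * c * x = x * c * x⁻¹ := h3.symm.trans h2
    have h5 : Commute (x * x) c := by
      show x * x * c = c * (x * x)
      calc x * x * c = x * (x * c * x⁻¹) * x := by group
        _ = x * (x⁻¹ * c * x) * x := by rw [h4]
        _ = c * (x * x) := by group
    obtain ⟨m, hm⟩ := hx
    have h6 : Commute x c := by
      have : x = (x * x) ^ (m + 1) := by
        rw [← pow_two, ← pow_mul, show 2 * (m + 1) = orderOf x + 1 by omega, pow_succ,
          pow_orderOf_eq_one, one_mul]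
      rw [this]; exact h5.pow_left _
    exact hG.fpf hY hx1 ⟨m, hm⟩ hc.1 h6
  have hinj : Function.Injective f := by
    rintro ⟨a, b⟩ ⟨a', b'⟩ hab
    have h : (a : G) * (x * (b : G) * x⁻¹) = (a' : G) * (x * (b' : G) * x⁻¹) := congrArg Subtype.val hab
    have h' : x * ((b : G) * (b' : G)⁻¹) * x⁻¹ = (a : G)⁻¹ * (a' : G) := by
      calc x * ((b : G) * (b' : G)⁻¹) * x⁻¹
          = (a : G)⁻¹ * ((a : G) * (x * (b : G) * x⁻¹)) * (x * (b' : G)⁻¹ * x⁻¹) := by group
        _ = (a : G)⁻¹ * ((a' : G) * (x * (b' : G) * x⁻¹)) * (x * (b' : G)⁻¹ * x⁻¹) := by rw [h]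
        _ = (a : G)⁻¹ * (a' : G) := by group
    have hb : (b : G) * (b' : G)⁻¹ = 1 :=
      hfix _ (mul_mem b.2 (inv_mem b'.2)) (h' ▸ mul_mem (inv_mem a.2) a'.2)
    have hbb : b = b' := Subtype.ext (mul_inv_eq_one.1 hb)
    subst hbb
    exact Prod.ext (Subtype.ext (mul_right_cancel h)) rfl
  have := Nat.card_le_card_of_injective f hinj
  rwa [Nat.card_prod, ← pow_two] at this

/-- An involution of `M` outside `O_2(M)` inverts a non-identity element of odd order of `M`. -/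
theorem exists_inverted_mem {M : Subgroup G} {u : G} (hu : orderOf u = 2) (huM : u ∈ M)
    (hur : u ∉ rad M) : ∃ x ∈ M, x ≠ 1 ∧ Odd (orderOf x) ∧ u * x * u⁻¹ = x⁻¹ := by
  obtain ⟨h, h1, ho, hinv⟩ := Invol.exists_inverted_odd (G := ↥M) (t := ⟨u, huM⟩)
    (by rw [← orderOf_coe]; exact hu) fun N hN hN2 huN => hur (Local.mem_pCoreOf.2
      ⟨huM, Core.le_pCore' hN hN2 huN⟩)
  exact ⟨h, h.2, fun e => h1 (Subtype.ext e), by rwa [orderOf_coe], congrArg Subtype.val hinv⟩

/-- An involution of `M` outside `O_2(M)` centralizes at most half of a 2-group normalized by `M`. -/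
theorem IsCIT.half (hG : IsCIT G) {M Y : Subgroup G} (hY : IsPGroup 2 ↥Y)
    (hMY : M ≤ normalizer (Y : Set G)) {u : G} (hu : orderOf u = 2) (huM : u ∈ M) (hur : u ∉ rad M) :
    Nat.card ↥(Y ⊓ centralizer ({u} : Set G)) ^ 2 ≤ Nat.card ↥Y := by
  obtain ⟨x, hxM, hx1, hxo, hinv⟩ := exists_inverted_mem hu huM hur
  exact hG.half_of_inverted hY hu hx1 hxo (hMY hxM) hinv

/-! ### Locals -/

theorem rad_le (M : Subgroup G) : rad M ≤ M := Local.pCoreOf_le M

theorem isPGroup_rad (M : Subgroup G) : IsPGroup 2 ↥(rad M) :=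
  haveI : Fact (Nat.Prime 2) := ⟨Nat.prime_two⟩
  Local.pCoreOf_isPGroup M

theorem le_normalizer_rad (M : Subgroup G) : M ≤ normalizer (rad M : Set G) :=
  Local.le_normalizer_pCoreOf M

theorem le_rad {M N : Subgroup G} (hle : N ≤ M) (hN : M ≤ normalizer (N : Set G))
    (hp : IsPGroup 2 ↥N) : N ≤ rad M :=
  Local.le_pCoreOf hle hN hp

theorem rad_le_of_sylow {M T : Subgroup G} (hT : Cfsg.IsSylowTwoIn T M) : rad M ≤ T := by
  haveI : Fact (Nat.Prime 2) := ⟨Nat.prime_two⟩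
  obtain ⟨hTM, hT2, hodd⟩ := hT
  have hTn : T ≤ normalizer (rad M : Set G) := hTM.trans (le_normalizer_rad M)
  have hp : IsPGroup 2 ↥(rad M ⊔ T) :=
    IsPGroup.to_sup_of_normal_left' (isPGroup_rad M) hT2 hTn
  have hle : rad M ⊔ T ≤ M := sup_le (rad_le M) hTM
  obtain ⟨a, ha⟩ := hp.exists_card_eq
  obtain ⟨b, hb⟩ := hT2.exists_card_eq
  have h1 := Core.card_mul_relIndex (le_sup_right : T ≤ rad M ⊔ T)
  have h2 : T.relIndex (rad M ⊔ T) ∣ T.relIndex M :=
    ⟨_, (relIndex_mul_relIndex T _ M le_sup_right hle).symm⟩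
  have h3 : Odd (T.relIndex (rad M ⊔ T)) := hodd.of_dvd_nat h2
  rw [ha, hb] at h1
  have h4 : T.relIndex (rad M ⊔ T) = 1 := by
    have h5 : T.relIndex (rad M ⊔ T) ∣ 2 ^ a := ⟨2 ^ b, by rw [← h1, mul_comm]⟩
    exact Nat.Coprime.eq_one_of_dvd ((Nat.coprime_two_right.2 h3).pow_right a) h5
  exact (le_sup_left.trans (Subgroup.relIndex_eq_one.1 h4))

theorem vee_le_rad (M : Subgroup G) : vee M ≤ rad M := Local.BaumannBlock.omegaOneCenter_le 2 _

theorem vee_le (M : Subgroup G) : vee M ≤ M := (vee_le_rad M).trans (rad_le M)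

theorem vee_commute {M : Subgroup G} {v r : G} (hv : v ∈ vee M) (hr : r ∈ rad M) : Commute v r :=
  Local.BaumannBlock.omegaOneCenter_commute (p := 2) hv hr

theorem vee_sq {M : Subgroup G} {v : G} (hv : v ∈ vee M) : v ^ 2 = 1 :=
  Local.BaumannBlock.omegaOneCenter_pow (p := 2) hv

theorem isPGroup_vee (M : Subgroup G) : IsPGroup 2 ↥(vee M) := (isPGroup_rad M).to_le (vee_le_rad M)

theorem normalizer_rad_le_normalizer_vee (M : Subgroup G) :
    normalizer (rad M : Set G) ≤ normalizer (vee M : Set G) :=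
  Local.BaumannBlock.normalizer_le_omegaOneCenter (p := 2) _

theorem le_normalizer_vee (M : Subgroup G) : M ≤ normalizer (vee M : Set G) :=
  (le_normalizer_rad M).trans (normalizer_rad_le_normalizer_vee M)

theorem rad_le_centralizer_vee (M : Subgroup G) : rad M ≤ centralizer (vee M : Set G) :=
  fun _ hr => mem_centralizer_iff.2 fun _ hv => (vee_commute hv hr).eq

theorem Nonclosed.mono {M N : Subgroup G} (h : Nonclosed M) (hle : M ≤ N) : Nonclosed N := by
  haveI : Fact (Nat.Prime 2) := ⟨Nat.prime_two⟩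
  obtain ⟨P, Q, hPQ⟩ := h
  by_contra hN
  have huniq : Subsingleton (Sylow 2 ↥N) := ⟨fun a b => by_contra fun hab => hN ⟨a, b, hab⟩⟩
  obtain ⟨P', hP'⟩ := (P.2.map (inclusion hle)).exists_le_sylow
  obtain ⟨Q', hQ'⟩ := (Q.2.map (inclusion hle)).exists_le_sylow
  rw [Subsingleton.elim Q' P'] at hQ'
  have hp : IsPGroup 2 ↥((P' : Subgroup ↥N).comap (inclusion hle)) :=
    P'.2.comap_of_injective _ (inclusion_injective hle)
  exact hPQ (Sylow.ext ((P.3 hp (map_le_iff_le_comap.1 hP')).symm.trans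
    (Q.3 hp (map_le_iff_le_comap.1 hQ'))))

theorem Nonclosed.exists_odd {M : Subgroup G} (h : Nonclosed M) :
    ∃ x ∈ M, x ≠ 1 ∧ Odd (orderOf x) := by
  haveI : Fact (Nat.Prime 2) := ⟨Nat.prime_two⟩
  obtain ⟨P, Q, hPQ⟩ := h
  by_contra hc
  push Not at hc
  have hM : IsPGroup 2 ↥M := by
    intro x
    obtain ⟨k, m, hm, hr⟩ := Nat.exists_eq_two_pow_mul_odd (n := orderOf x) (orderOf_pos _).ne'
    refine ⟨k, ?_⟩
    by_contra hne
    have ho : orderOf (x ^ 2 ^ k) = m := by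
      rw [orderOf_pow, hr, Nat.gcd_mul_right_left, Nat.mul_div_cancel_left _ (by positivity)]
    refine hc _ (x ^ 2 ^ k).2 (fun e => hne (Subtype.ext e)) ?_
    rw [orderOf_coe, ho]; exact hm
  have e : ∀ S : Sylow 2 ↥M, (S : Subgroup ↥M) = ⊤ := fun S =>
    (S.3 (hM.to_subgroup ⊤) le_top).symm
  exact hPQ (Sylow.ext ((e P).trans (e Q).symm))

theorem exists_maxLocal_ge {N : Subgroup G} (hN : IsNCLocal N) : ∃ M, IsMaxLocal M ∧ N ≤ M := by
  obtain ⟨M, hle, hM⟩ := exists_maximal_ge_of_wellFoundedGT IsNCLocal N hN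
  exact ⟨M, ⟨hM.prop, fun L hL hML => le_antisymm (hM.2 hL hML) hML⟩, hle⟩

theorem isTwoLocal_normalizer {R : Subgroup G} (hR : IsPGroup 2 ↥R) (hR1 : R ≠ ⊥) :
    Cfsg.IsTwoLocal (normalizer (R : Set G)) :=
  ⟨R, hR, hR1, rfl⟩

namespace IsMaxLocal

variable {M : Subgroup G}

theorem rad_ne_bot (hM : IsMaxLocal M) : rad M ≠ ⊥ := by
  obtain ⟨R, hR, hR1, rfl⟩ := hM.1.1
  exact fun h => hR1 (le_bot_iff.1 (h ▸ le_rad le_normalizer le_rfl hR))

theorem normalizer_rad (hM : IsMaxLocal M) : normalizer (rad M : Set G) = M :=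
  hM.2 _ ⟨isTwoLocal_normalizer (isPGroup_rad M) hM.rad_ne_bot, hM.1.2.mono (le_normalizer_rad M)⟩
    (le_normalizer_rad M)

theorem vee_ne_bot (hM : IsMaxLocal M) : vee M ≠ ⊥ := by
  haveI : Fact (Nat.Prime 2) := ⟨Nat.prime_two⟩
  haveI : Nontrivial ↥(rad M) := (nontrivial_iff_ne_bot _).2 hM.rad_ne_bot
  haveI := IsPGroup.center_nontrivial (isPGroup_rad M)
  obtain ⟨k, hk⟩ := ((isPGroup_rad M).to_subgroup (center ↥(rad M))).exists_card_eq
  have hdvd : 2 ∣ Nat.card ↥(center ↥(rad M)) := by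
    rcases k with _ | k
    · have := Finite.one_lt_card (α := ↥(center ↥(rad M)))
      rw [hk] at this; simp at this
    · rw [hk]; exact dvd_pow_self 2 (Nat.succ_ne_zero k)
  obtain ⟨c, hc⟩ := exists_prime_orderOf_dvd_card' 2 hdvd
  have hcg : orderOf ((c : ↥(rad M)) : G) = 2 := by rw [orderOf_coe, orderOf_coe, hc]
  intro h
  have hmem : ((c : ↥(rad M)) : G) ∈ vee M := subset_closure
    ⟨⟨(c : ↥(rad M)).2, mem_centralizer_iff.2 fun r hr =>
      congrArg Subtype.val (mem_center_iff.1 c.2 ⟨r, hr⟩)⟩, by rw [← hcg, pow_orderOf_eq_one]⟩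
  rw [h, mem_bot] at hmem
  rw [hmem, orderOf_one] at hcg
  norm_num at hcg

theorem centralizer_rad_le (hG : IsCIT G) (hM : IsMaxLocal M) :
    centralizer (rad M : Set G) ≤ rad M := by
  haveI : Fact (Nat.Prime 2) := ⟨Nat.prime_two⟩
  obtain ⟨v, hv, hv1⟩ := (bot_or_exists_ne_one (vee M)).resolve_left hM.vee_ne_bot
  have hle : centralizer (rad M : Set G) ≤ M :=
    (centralizer_le_normalizer _).trans hM.normalizer_rad.le
  refine le_rad hle ?_ ((hG.isPGroup_centralizer ⟨1, by rw [pow_one]; exact vee_sq hv⟩ hv1).to_le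
    (centralizer_le (Set.singleton_subset_iff.2 (vee_le_rad M hv))))
  calc M = normalizer (rad M : Set G) := hM.normalizer_rad.symm
    _ ≤ normalizer (centralizer (rad M : Set G) : Set G) := Local.normalizer_le_normalizer_centralizer _

theorem inf_centralizer_vee (hG : IsCIT G) (hM : IsMaxLocal M) :
    M ⊓ centralizer (vee M : Set G) = rad M := by
  haveI : Fact (Nat.Prime 2) := ⟨Nat.prime_two⟩
  refine le_antisymm ?_ (le_inf (rad_le M) (rad_le_centralizer_vee M))
  obtain ⟨v, hv, hv1⟩ := (bot_or_exists_ne_one (vee M)).resolve_left hM.vee_ne_bot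
  refine le_rad inf_le_left (Local.le_normalizer_inf le_normalizer
    ((le_normalizer_vee M).trans (Local.normalizer_le_normalizer_centralizer _))) ?_
  exact (hG.isPGroup_centralizer ⟨1, by rw [pow_one]; exact vee_sq hv⟩ hv1).to_le
    (inf_le_right.trans (centralizer_le (Set.singleton_subset_iff.2 hv)))

theorem normalizer_vee (hM : IsMaxLocal M) : normalizer (vee M : Set G) = M :=
  hM.2 _ ⟨isTwoLocal_normalizer (isPGroup_vee M) hM.vee_ne_bot, hM.1.2.mono (le_normalizer_vee M)⟩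
    (le_normalizer_vee M)

/-- Any nontrivial 2-subgroup normal in a maximal local has that local as its normalizer. -/
theorem normalizer_eq (hM : IsMaxLocal M) {C : Subgroup G} (hC : IsPGroup 2 ↥C) (hC1 : C ≠ ⊥)
    (hn : M ≤ normalizer (C : Set G)) : normalizer (C : Set G) = M :=
  hM.2 _ ⟨isTwoLocal_normalizer hC hC1, hM.1.2.mono hn⟩ hn

theorem normalizer_self (hM : IsMaxLocal M) : normalizer (M : Set G) = M := by
  refine le_antisymm ?_ le_normalizer
  calc normalizer (M : Set G) ≤ normalizer (rad M : Set G) := Local.normalizer_le_normalizer_pCoreOf M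
    _ = M := hM.normalizer_rad

/-- An involution of a maximal local outside `O_2` fixes exactly the square root of `vee`. -/
theorem half_vee (hG : IsCIT G) (hM : IsMaxLocal M) {u : G} (hu : orderOf u = 2) (huM : u ∈ M)
    (hur : u ∉ rad M) :
    Nat.card ↥(vee M ⊓ centralizer ({u} : Set G)) ^ 2 = Nat.card ↥(vee M) := by
  classical
  refine le_antisymm (hG.half (isPGroup_vee M) (le_normalizer_vee M) hu huM hur) ?_
  set V := vee M
  set C := V ⊓ centralizer ({u} : Set G)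
  have huu : u⁻¹ = u := inv_eq_self_of_two hu
  have hn : ∀ v : ↥V, u * (v : G) * u⁻¹ ∈ V := fun v =>
    (mem_normalizer_iff.1 (le_normalizer_vee M huM) _).1 v.2
  have hc : ∀ a b : ↥V, (a : G) * (b : G) = (b : G) * (a : G) := fun a b =>
    (vee_commute a.2 (vee_le_rad M b.2)).eq
  let φ : ↥V →* ↥V := MonoidHom.mk' (fun v => ⟨(v : G) * (u * (v : G) * u⁻¹), mul_mem v.2 (hn v)⟩)
    fun a b => Subtype.ext (by
      show (a : G) * (b : G) * (u * ((a : G) * (b : G)) * u⁻¹)
        = (a : G) * (u * (a : G) * u⁻¹) * ((b : G) * (u * (b : G) * u⁻¹))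
      calc (a : G) * (b : G) * (u * ((a : G) * (b : G)) * u⁻¹)
          = (a : G) * ((b : G) * (u * (a : G) * u⁻¹)) * (u * (b : G) * u⁻¹) := by group
        _ = (a : G) * ((u * (a : G) * u⁻¹) * (b : G)) * (u * (b : G) * u⁻¹) := by
            rw [hc b ⟨_, hn a⟩]
        _ = _ := by group)
  have hsqr : ∀ w : ↥V, (w : G) * (w : G) = 1 := fun w => by rw [← pow_two]; exact vee_sq w.2
  have hrange : φ.range.map V.subtype ≤ C := by
    rintro _ ⟨_, ⟨v, rfl⟩, rfl⟩
    refine ⟨(φ v).2, mem_centralizer_singleton_iff.2 ?_⟩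
    show (v : G) * (u * (v : G) * u⁻¹) * u = u * ((v : G) * (u * (v : G) * u⁻¹))
    have hu2 : u * u = 1 := by rw [← pow_two, ← hu, pow_orderOf_eq_one]
    calc (v : G) * (u * (v : G) * u⁻¹) * u
        = (u * (v : G) * u⁻¹) * (v : G) * u := by rw [hc v ⟨_, hn v⟩]
      _ = u * (v : G) * (u⁻¹ * (v : G) * u) := by group
      _ = u * ((v : G) * (u * (v : G) * u⁻¹)) := by rw [huu]; group
  have hker : φ.ker.map V.subtype ≤ C := by
    rintro _ ⟨v, hv, rfl⟩
    refine ⟨v.2, mem_centralizer_singleton_iff.2 ?_⟩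
    have h1 : (v : G) * (u * (v : G) * u⁻¹) = 1 := congrArg Subtype.val hv
    have h2 : u * (v : G) * u⁻¹ = (v : G) := by
      rw [eq_inv_of_mul_eq_one_right h1]
      exact (eq_inv_of_mul_eq_one_right (hsqr v)).symm
    exact (mul_inv_eq_iff_eq_mul.1 h2).symm
  have h1 := Nat.card_le_card_of_injective _ (inclusion_injective hrange)
  have h2 := Nat.card_le_card_of_injective _ (inclusion_injective hker)
  rw [Core.card_map_subtype] at h1 h2
  have h3 := Subgroup.card_mul_index φ.ker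
  rw [Subgroup.index_ker] at h3
  rw [← h3, pow_two]
  exact Nat.mul_le_mul h2 h1

end IsMaxLocal

end Cfsg.Lib.CIT
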