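import Cfsg.Agent.Lib.Local.PushingUp.Braid

/-!
A Sylow subgroup lies in exactly one maximal subgroup of a group over `PSL₂` in the defining
characteristic.
-/

set_option autoImplicit false
set_option linter.style.haveILetI false

namespace Cfsg.Lib.CIT

open Subgroup
open Cfsg.Lib.Local.PushingUp
open Cfsg.Lib.Linear.SLTwoNatural (u l w)

variable {F : Type} [Field F] [Fintype F]

local notation "PSL2" => Matrix.ProjectiveSpecialLinearGroup (Fin 2) F

theorem psl_overgroup (p : ℕ) [Fact p.Prime] [CharP F p] {H : Subgroup PSL2} (hH : std F ≤ H) :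
    H ≤ normalizer (std F : Set PSL2) ∨ H = ⊤ := by
  by_cases hle : H ≤ normalizer (std F : Set PSL2)
  · exact Or.inl hle
  obtain ⟨h, hh, hn⟩ := SetLike.not_le_iff_exists.1 hle
  right
  have hconj : (std F).map (MulAut.conj h).toMonoidHom ≤ H := by
    rintro _ ⟨x, hx, rfl⟩
    exact mul_mem (mul_mem hh (hH hx)) (inv_mem hh)
  let P₀ : Sylow p PSL2 := Cfsg.Lib.Dickson.stdSylow (F := F) p
  have hP : ((h • P₀ : Sylow p PSL2) : Subgroup PSL2) = (std F).map (MulAut.conj h).toMonoidHom := by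
    rw [Sylow.coe_subgroup_smul]; rfl
  rcases sylow_eq p (h • P₀) with e | ⟨s, e⟩
  · exfalso
    refine hn (Subgroup.mem_normalizer_fintype fun x hx => ?_)
    have : (MulAut.conj h).toMonoidHom x ∈ (std F).map (MulAut.conj h).toMonoidHom := ⟨x, hx, rfl⟩
    rwa [← hP, e] at this
  · refine top_le_iff.1 ((std_sup_conj_opp s).ge.trans (sup_le hH ?_))
    rw [← e, hP]; exact hconj

theorem normalizer_std_ne_top (p : ℕ) [Fact p.Prime] [CharP F p] :
    normalizer (std F : Set PSL2) ≠ ⊤ := fun h => by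
  have : proj (w F) ∈ normalizer (std F : Set PSL2) := h ▸ mem_top _
  rw [normalizer_std p] at this
  simp [Cfsg.Lib.Linear.SLTwoNatural.w_coe] at this

theorem exists_unique_max {G : Type*} [Group G] [Finite G] {p : ℕ} [Fact p.Prime] {n : ℕ} (hn : 1 ≤ n)
    (hF : Fintype.card F = p ^ n) (S : Sylow p G) {K : Subgroup G} [hKn : K.Normal] (hK : K ≤ (S : Subgroup G))
    (e : G ⧸ K ≃* PSL2) : ∃! L : Subgroup G, IsCoatom L ∧ (S : Subgroup G) ≤ L := by
  classical
  haveI : CharP F p := by
    obtain ⟨q, hq⟩ := CharP.exists F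
    obtain ⟨m, hqp, hm⟩ := FiniteField.card F q
    have hd : p ∣ q ^ (m : ℕ) := by rw [← hm, hF]; exact dvd_pow_self p (by omega)
    rw [(Nat.prime_dvd_prime_iff_eq Fact.out hqp).1 ((Fact.out : p.Prime).dvd_of_dvd_pow hd)]
    exact hq
  let π₀ : G →* PSL2 := e.toMonoidHom.comp (QuotientGroup.mk' K)
  have hπ₀ : Function.Surjective π₀ := e.surjective.comp (QuotientGroup.mk'_surjective K)
  obtain ⟨c, hc⟩ := MulAction.exists_smul_eq PSL2 (S.mapSurjective (f := π₀) hπ₀)
    (Cfsg.Lib.Dickson.stdSylow (F := F) p)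
  let π : G →* PSL2 := (MulAut.conj c).toMonoidHom.comp π₀
  have hπ : Function.Surjective π := (MulAut.conj c).surjective.comp hπ₀
  have hker : π.ker = K := by
    ext x
    rw [MonoidHom.mem_ker]
    show (MulAut.conj c) (e (QuotientGroup.mk' K x)) = 1 ↔ x ∈ K
    rw [map_eq_one_iff _ (MulAut.conj c).injective, map_eq_one_iff _ e.injective]
    exact QuotientGroup.eq_one_iff x
  have hS : (S : Subgroup G).map π = std F := by
    rw [← Subgroup.map_map, ← Sylow.coe_mapSurjective (hf := hπ₀),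
      show std F = ((Cfsg.Lib.Dickson.stdSylow (F := F) p : Sylow p PSL2) : Subgroup PSL2) from rfl, ← hc,
      Sylow.coe_subgroup_smul]
    rfl
  set B := (normalizer (std F : Set PSL2)).comap π with hB
  have hSB : (S : Subgroup G) ≤ B := fun x hx =>
    le_normalizer (H := std F) (hS.le ⟨x, hx, rfl⟩)
  have hBne : B ≠ ⊤ := fun h => normalizer_std_ne_top (F := F) p (by
    rw [← Subgroup.map_comap_eq_self_of_surjective hπ (normalizer (std F : Set PSL2)), ← hB, h,
      Subgroup.map_top_of_surjective π hπ])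
  have key : ∀ L : Subgroup G, (S : Subgroup G) ≤ L → L ≠ ⊤ → L ≤ B := by
    intro L hL hne
    rcases psl_overgroup p (H := L.map π) (hS ▸ Subgroup.map_mono hL) with h | h
    · exact Subgroup.map_le_iff_le_comap.1 h
    · refine absurd ?_ hne
      have h' := congrArg (Subgroup.comap π) h
      rwa [Subgroup.comap_map_eq_self (hker.le.trans (hK.trans hL)), Subgroup.comap_top] at h'
  refine ⟨B, ⟨⟨hBne, fun L hBL => ?_⟩, hSB⟩, fun L ⟨hL, hSL⟩ => ?_⟩
  · by_contra hne
    exact hBL.not_ge (key L (hSB.trans hBL.le) hne)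
  · rcases (key L hSL hL.1).eq_or_lt with h | h
    · exact h
    · exact absurd (hL.2 _ h) hBne

end Cfsg.Lib.CIT
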