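import Cfsg.Agent.Lib.CIT.Quot.Structure
import Cfsg.Agent.S0205
import Cfsg.Agent.S0340

/-!
The TI branch: a simple CIT group with TI Sylow 2-subgroups acts on the cosets of the Sylow normalizer
as a Zassenhaus group.
-/

set_option autoImplicit false
set_option linter.style.haveILetI false

namespace Cfsg.Lib.CIT

open Subgroup
open Cfsg.Lib

universe u

variable {G : Type u} [Group G] [Finite G]

theorem two_dvd_card [IsSimpleGroup G] (hna : ¬ IsMulCommutative G) : 2 ∣ Nat.card G := by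
  by_contra h
  haveI := Cfsg.Agent.S0205.result (G := G) (Nat.odd_iff.2 (Nat.two_dvd_ne_zero.1 h))
  exact hna ⟨⟨IsSimpleGroup.comm_iff_isSolvable.2 inferInstance⟩⟩

theorem oddCore_eq_bot [IsSimpleGroup G] (hna : ¬ IsMulCommutative G) : oddCore G = ⊥ := by
  haveI hn : (oddCore G).Normal := (inferInstance : (Cfsg.pPrimeCore 2 G).Normal)
  refine hn.eq_bot_or_eq_top.resolve_right fun h => ?_
  have h2 : (Nat.card ↥(oddCore G)).Coprime 2 := Core.pPrimeCore_coprime 2 G
  rw [h, card_top] at h2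
  exact (Nat.prime_two.coprime_iff_not_dvd.1 h2.symm) (two_dvd_card hna)

theorem tiData [IsSimpleGroup G] (hna : ¬ IsMulCommutative G) (hG : IsCIT G) (hTI : SylowTI G)
    (S : Sylow 2 G) : TIData (S : Subgroup G) := by
  haveI : Fact (Nat.Prime 2) := ⟨Nat.prime_two⟩
  have hne : (S : Subgroup G) ≠ ⊥ := S.ne_bot_of_dvd_card (two_dvd_card hna)
  haveI : Nontrivial (S : Subgroup G) := (nontrivial_iff_ne_bot _).mpr hne
  obtain ⟨z, -, hzc, hz⟩ := PGroup.exists_mem_center_orderOf_eq S.2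
    (N := (⊤ : Subgroup (S : Subgroup G))) top_ne_bot
  have hz' : orderOf (z : G) = 2 := by rw [Subgroup.orderOf_coe, hz]
  have hnn : normalizer ((S : Subgroup G) : Set G) ≠ ⊤ := fun h => by
    rcases (normalizer_eq_top_iff.mp h).eq_bot_or_eq_top with e | e
    · exact hne e
    · have hp : IsPGroup 2 G := fun g => by
        obtain ⟨k, hk⟩ := S.2 ⟨g, e ▸ mem_top g⟩
        exact ⟨k, congrArg Subtype.val hk⟩
      haveI := hp.isNilpotent
      exact hna ⟨⟨IsSimpleGroup.comm_iff_isSolvable.2 inferInstance⟩⟩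
  refine ⟨hnn, S.card_coprime_index, fun g hg => ?_, fun h hh hh1 => ?_,
    ⟨z, z.2, hz', fun h hh => congrArg Subtype.val (mem_center_iff.mp hzc ⟨h, hh⟩)⟩, ?_⟩
  · exact hTI S (g • S) fun e => hg (Sylow.smul_eq_iff_mem_normalizer.mp e.symm)
  · obtain ⟨k, hk⟩ := S.2 ⟨h, hh⟩
    obtain ⟨Q, hQ⟩ := (hG.isPGroup_centralizer ⟨k, congrArg Subtype.val hk⟩ hh1).exists_le_sylow
    suffices hQS : Q = S from hQS ▸ hQ
    by_contra hne'
    have : h ∈ (Q : Subgroup G) ⊓ (S : Subgroup G) := ⟨hQ (mem_centralizer_singleton_iff.mpr rfl), hh⟩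
    rw [hTI Q S hne'] at this
    exact hh1 this
  · by_contra h2
    push Not at h2
    have hc := ZStar.mem_center_of_isolated (oddCore_eq_bot hna) (ZStar.isolated_of_unique_involution S hz'
      fun x hx hx2 => h2 x hx z z.2 hx2 hz')
    rcases (inferInstance : (center G).Normal).eq_bot_or_eq_top with e | e
    · rw [e, Subgroup.mem_bot] at hc
      rw [hc, orderOf_one] at hz'
      omega
    · exact hna ⟨⟨fun a b => (mem_center_iff.mp (e ▸ mem_top a : a ∈ center G) b).symm⟩⟩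

/-- The coset action of a group with the TI shape is a Zassenhaus action. -/
theorem zassenhaus_of_shape [IsSimpleGroup G] {H E : Subgroup G} {t : G} (hD : TIData H)
    (h : TIShape H E t) : Cfsg.IsZassenhausGroup G (G ⧸ normalizer (H : Set G)) := by
  classical
  set N := normalizer (H : Set G) with hN
  let Ω := G ⧸ N
  let p₀ : Ω := ((1 : G) : Ω)
  have hp₀ : ∀ {g : G}, g • p₀ = p₀ ↔ g ∈ N := fun {g} => by
    show ((g * 1 : G) : Ω) = ((1 : G) : Ω) ↔ _
    rw [mul_one, QuotientGroup.eq, mul_one, inv_mem_iff]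
  let f : Option ↥H → Ω := fun o => o.elim p₀ fun x => (((x : G) * t : G) : Ω)
  have hfs : Function.Surjective f := by
    intro x
    induction x using QuotientGroup.induction_on with
    | H g =>
      by_cases hg : g ∈ N
      · exact ⟨none, QuotientGroup.eq.2 (by simpa using hg)⟩
      · obtain ⟨x, hx, n, hn, rfl⟩ := h.decomp g hg
        exact ⟨some ⟨x, hx⟩, QuotientGroup.eq.2 (by
          show ((x * t)⁻¹ * (x * t * n)) ∈ N
          rw [inv_mul_cancel_left]; exact hn)⟩
  have hcard : Nat.card (Option ↥H) = Nat.card Ω := by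
    rw [Finite.card_option]; exact h.index_eq.symm
  have hfb : Function.Bijective f := (Nat.bijective_iff_surjective_and_card f).2 ⟨hfs, hcard⟩
  let b₀ : Ω := ((t : G) : Ω)
  have hb₀ : f (some 1) = b₀ := by simp [f, b₀]
  have hab : p₀ ≠ b₀ := fun e => by
    have := hfb.1 (show f none = f (some 1) by rw [hb₀]; exact e)
    simp at this
  have htrans : MulAction.IsPretransitive G Ω := inferInstance
  have hmove : ∀ x : Ω, x ≠ p₀ → ∃ y ∈ H, y • b₀ = x := by
    intro x hx
    obtain ⟨o, rfl⟩ := hfs x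
    rcases o with _ | y
    · exact absurd rfl hx
    · exact ⟨y, y.2, rfl⟩
  have h2t : MulAction.IsMultiplyPretransitive G Ω 2 := by
    rw [MulAction.is_two_pretransitive_iff]
    intro a b c d hab' hcd
    obtain ⟨g, hg⟩ := MulAction.exists_smul_eq G a p₀
    obtain ⟨g', hg'⟩ := MulAction.exists_smul_eq G c p₀
    obtain ⟨y, hy, hyb⟩ := hmove (g • b) (fun e => hab' (MulAction.injective g (hg.trans e.symm)))
    obtain ⟨y', hy', hyd⟩ := hmove (g' • d) (fun e => hcd (MulAction.injective g' (hg'.trans e.symm)))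
    refine ⟨g'⁻¹ * (y' * y⁻¹) * g, ?_, ?_⟩
    · rw [mul_smul, mul_smul, hg, hp₀.2 (le_normalizer (mul_mem hy' (inv_mem hy))), inv_smul_eq_iff, hg']
    · rw [mul_smul, mul_smul, ← hyb, mul_smul, inv_smul_smul, hyd, inv_smul_smul]
  have hfix : ∀ {g : G}, g ∈ E → g • b₀ = b₀ := fun {g} hg => by
    show ((g * t : G) : Ω) = ((t : G) : Ω)
    refine QuotientGroup.eq.2 ?_
    have e1 : t * t = 1 := by rw [← pow_two, ← h.order_t, pow_orderOf_eq_one]
    have e2 := h.inverts g⁻¹ (inv_mem hg)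
    rw [inv_inv] at e2
    have e3 : (g * t)⁻¹ * t = g := by
      calc (g * t)⁻¹ * t = t⁻¹ * g⁻¹ * t := by group
        _ = t * g⁻¹ * t⁻¹ := by rw [inv_eq_of_mul_eq_one_right e1]
        _ = g := e2
    rw [e3]; exact h.le_normalizer hg
  have hE : E ≠ ⊥ := fun e => by
    obtain ⟨a, ha, b, hb, ha2, hb2, hne⟩ := hD.two_involutions
    obtain ⟨x, hx, -⟩ := h.regular a ha b hb ha2 hb2
    have hx1 : (x : G) = 1 := by simpa [e] using x.2
    rw [hx1, one_mul, inv_one, mul_one] at hx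
    exact hne hx
  obtain ⟨e₀, he₀, he₀1⟩ := (bot_or_exists_ne_one E).resolve_left hE
  have hfaith : FaithfulSMul G Ω := by
    refine ⟨fun {g g'} hgg => ?_⟩
    have hk : (MulAction.toPermHom G Ω).ker = ⊥ := by
      refine (MonoidHom.normal_ker _).eq_bot_or_eq_top.resolve_right fun e => hD.proper ?_
      refine eq_top_iff.2 fun x _ => hp₀.1 ?_
      have hx : x ∈ (MulAction.toPermHom G Ω).ker := e ▸ mem_top x
      exact congrArg (fun σ : Equiv.Perm Ω => σ p₀) (MonoidHom.mem_ker.1 hx)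
    exact (MonoidHom.ker_eq_bot_iff _).1 hk (Equiv.ext hgg)
  haveI := h2t
  refine ⟨hfaith, h2t, ?_, ⟨e₀, he₀1, p₀, b₀, hab, hp₀.2 (h.le_normalizer he₀), hfix he₀⟩, ?_⟩
  · intro g a b c hab' hbc hac hga hgb hgc
    obtain ⟨m, hma, hmb⟩ := (MulAction.is_two_pretransitive_iff.1 h2t) hab' hab
    set k := m * g * m⁻¹ with hk
    have hconj : ∀ {x : Ω}, g • x = x → k • (m • x) = m • x := fun {x} hx => by
      rw [hk, mul_smul, mul_smul, inv_smul_smul, hx]
    have hk0 : k ∈ N := hp₀.1 (hma ▸ hconj hga)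
    obtain ⟨x, hx, e, he, hxe⟩ : ∃ x ∈ H, ∃ e ∈ E, x * e = k := by
      obtain ⟨e, he, x', hx', hex⟩ := (Core.mem_sup_of_le_normalizer h.le_normalizer).1
        (show k ∈ E ⊔ H by rw [sup_comm, h.sup_eq]; exact hk0)
      exact ⟨e * x' * e⁻¹, (mem_normalizer_iff.1 (h.le_normalizer he) x').1 hx', e, he,
        by rw [← hex]; group⟩
    have hkb : k • b₀ = b₀ := hmb ▸ hconj hgb
    have hx1 : x = 1 := by
      rw [← hxe, mul_smul, hfix he] at hkb
      have h' : f (some ⟨x, hx⟩) = f (some 1) := by rw [hb₀]; exact hkb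
      exact congrArg Subtype.val (Option.some_injective _ (hfb.1 h'))
    rw [hx1, one_mul] at hxe
    obtain ⟨y, hy, hyc⟩ := hmove (m • c) (fun e' => hac (MulAction.injective m (hma.trans e'.symm)))
    have hy1 : y ≠ 1 := by
      rintro rfl
      rw [one_smul] at hyc
      exact hbc (MulAction.injective m (hmb.trans hyc))
    have hkc : e • (y • b₀) = y • b₀ := by rw [hxe, hyc]; exact hconj hgc
    have hey : e * y * e⁻¹ ∈ H := (mem_normalizer_iff.1 (h.le_normalizer he) y).1 hy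
    have hcomm : e * y * e⁻¹ = y := by
      have h' : f (some ⟨_, hey⟩) = f (some ⟨y, hy⟩) := by
        show (e * y * e⁻¹) • b₀ = y • b₀
        rw [mul_smul, mul_smul, hfix (inv_mem he)]
        exact hkc
      exact congrArg Subtype.val (Option.some_injective _ (hfb.1 h'))
    have heH : e ∈ H := hD.cent y hy hy1 (mem_centralizer_singleton_iff.2 (mul_inv_eq_iff_eq_mul.1 hcomm))
    have he1 : e = 1 := by
      have : e ∈ H ⊓ E := ⟨heH, he⟩
      rwa [h.inf_eq, mem_bot] at this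
    have : k = 1 := hxe ▸ he1
    rw [hk] at this
    simpa [mul_inv_eq_one] using this
  · intro M hM hMt
    rcases hM.eq_bot_or_eq_top with rfl | rfl
    · exfalso
      obtain ⟨m, hm⟩ := hMt.exists_smul_eq p₀ b₀
      refine hab ?_
      rw [← hm]
      show p₀ = (m : G) • p₀
      rw [mem_bot.1 m.2, one_smul]
    · refine ⟨p₀, fun e' => ?_⟩
      have hm : (⟨e₀, mem_top e₀⟩ : ↥(⊤ : Subgroup G)) ∈ MulAction.stabilizer ↥(⊤ : Subgroup G) p₀ :=
        MulAction.mem_stabilizer_iff.2 (hp₀.2 (h.le_normalizer he₀))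
      exact he₀1 (congrArg Subtype.val (mem_bot.1 ((SetLike.ext_iff.1 e' _).1 hm)))

/-- The TI branch: `PSL(2, F)` or a Suzuki group. -/
theorem of_sylowTI (hti : TIHolds.{u}) [IsSimpleGroup G] (hna : ¬ IsMulCommutative G) (hG : IsCIT G)
    (hTI : SylowTI G) :
    (∃ (F : Type) (_ : Field F) (_ : Fintype F),
      Nonempty (G ≃* Matrix.ProjectiveSpecialLinearGroup (Fin 2) F)) ∨ Cfsg.IsSuzuki G := by
  obtain ⟨S⟩ : Nonempty (Sylow 2 G) := inferInstance
  have hD := tiData hna hG hTI S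
  obtain ⟨E, t, hE⟩ := hti G S hD
  exact Cfsg.Agent.S0340.result (zassenhaus_of_shape hD hE)

end Cfsg.Lib.CIT
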