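import Cfsg.Agent.Lib.CIT.TICount
import Cfsg.Agent.Lib.CIT.TIBranch
import Cfsg.Agent.Lib.Local.CN
import Cfsg.Agent.S0346

/-!
A simple nonabelian CN group is a CIT group (see `notes/cit_lead.md`, §7).

If some involution centralizer is not a 2-group, then a central involution `z` of a Sylow
2-subgroup has such a centralizer `H`, which is a Hall TI subgroup containing the centralizers of
its non-identity elements. So the group is a Zassenhaus group with `|H| + 1` points, and `|H|` is
not a prime power, against S0346.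
-/

set_option autoImplicit false
set_option linter.style.haveILetI false

namespace Cfsg.Lib.CIT.CNStep

open Subgroup
open Cfsg.Lib

universe u

variable {G : Type u} [Group G]

theorem commute_of_coprime_cent (hG : Cfsg.IsCNGroup G) {g x y : G} (hg : g ≠ 1) (hx : Commute x g)
    (hy : Commute y g) (hc : (orderOf x).Coprime (orderOf y)) : Commute x y :=
  Local.CN.commute_in (hG g hg) (mem_centralizer_singleton_iff.2 hx.eq)
    (mem_centralizer_singleton_iff.2 hy.eq) hc

variable [Finite G]

section Central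

variable {z : G} (hG : Cfsg.IsCNGroup G) (hz : orderOf z = 2) (S : Sylow 2 G)
  (hSz : ∀ s ∈ (S : Subgroup G), Commute s z)

include hG hz hSz

/-- Centralizers of non-identity elements of odd order of `C(z)` lie in `C(z)`. -/
theorem commute_of_odd {b g : G} (hb : Commute b z) (hb1 : b ≠ 1) (hodd : Odd (orderOf b))
    (hg : Commute g b) : Commute g z := by
  haveI : Fact (Nat.Prime 2) := ⟨Nat.prime_two⟩
  refine mem_centralizer_singleton_iff.1 (PGroup.mem_of_ordCompl_pow_mem
    (H := centralizer ({z} : Set G)) fun q hq _ => mem_centralizer_singleton_iff.2 ?_)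
  set t := g ^ (orderOf g / q ^ (orderOf g).factorization q) with ht_def
  have hto : orderOf t = q ^ (orderOf g).factorization q := PGroup.orderOf_ordCompl_pow hq
  have htb : Commute t b := hg.pow_left _
  by_cases hq2 : q = 2
  · subst hq2
    have hz1 : z ≠ 1 := fun e => by rw [e, orderOf_one] at hz; omega
    have hSb : (S : Subgroup G) ≤ centralizer ({b} : Set G) := fun s hs => by
      refine mem_centralizer_singleton_iff.2 (commute_of_coprime_cent hG hz1 (hSz s hs) hb ?_).eq
      obtain ⟨k, hk⟩ := S.2 ⟨s, hs⟩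
      exact Nat.Coprime.coprime_dvd_left (orderOf_dvd_of_pow_eq_one (congrArg Subtype.val hk))
        ((Nat.coprime_two_left.2 hodd).pow_left k)
    haveI := hG b hb1
    set T : Sylow 2 ↥(centralizer ({b} : Set G)) := S.subtype hSb
    haveI : (T : Subgroup ↥(centralizer ({b} : Set G))).Normal :=
      ((Group.isNilpotent_of_finite_tfae (G := ↥(centralizer ({b} : Set G)))).out 0 3 rfl rfl).mp
        (hG b hb1) 2 inferInstance T
    haveI := Sylow.unique_of_normal T inferInstance
    have htp : IsPGroup 2 (zpowers (⟨t, mem_centralizer_singleton_iff.2 htb.eq⟩ :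
        ↥(centralizer ({b} : Set G)))) :=
      IsPGroup.of_card (n := (orderOf g).factorization 2) (by rw [Nat.card_zpowers, orderOf_mk, hto])
    obtain ⟨Q, hQ⟩ := htp.exists_le_sylow
    have htT := hQ (mem_zpowers _)
    rw [Subsingleton.elim Q T] at htT
    exact (hSz t htT).eq
  · refine (commute_of_coprime_cent hG hb1 htb hb.symm ?_).eq
    rw [hto, hz]
    exact ((Nat.coprime_primes hq Nat.prime_two).2 hq2).pow_left _

/-- If `C(z)` is no 2-group, it contains the centralizer of each of its non-identity elements. -/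
theorem commute_of_commute {b₀ : G} (hb₀ : Commute b₀ z) (hb₀1 : b₀ ≠ 1)
    (hb₀o : Odd (orderOf b₀)) {y g : G} (hy : Commute y z) (hy1 : y ≠ 1) (hg : Commute g y) :
    Commute g z := by
  have hz1 : z ≠ 1 := fun e => by rw [e, orderOf_one] at hz; omega
  by_cases hodd : ∃ q, q.Prime ∧ q ≠ 2 ∧ q ∣ orderOf y
  · obtain ⟨q, hq, hq2, hqy⟩ := hodd
    have ho : orderOf (y ^ (orderOf y / q)) = q := orderOf_pow_orderOf_div (orderOf_pos y).ne' hqy
    exact commute_of_odd hG hz S hSz (hy.pow_left _)
      (fun e => hq.ne_one (by rw [← ho, e, orderOf_one]))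
      (by rw [ho]; exact hq.odd_of_ne_two hq2) (hg.pow_right _)
  push Not at hodd
  have h2 : 2 ∣ orderOf y := by
    obtain ⟨q, hq, hqy⟩ := Nat.exists_prime_and_dvd (fun e => hy1 (orderOf_eq_one_iff.1 e))
    by_cases hq2 : q = 2
    · exact hq2 ▸ hqy
    · exact absurd hqy (hodd q hq hq2)
  set v := y ^ (orderOf y / 2)
  have hv : orderOf v = 2 := orderOf_pow_orderOf_div (orderOf_pos y).ne' h2
  have hv1 : v ≠ 1 := fun e => by rw [e, orderOf_one] at hv; omega
  have hvz : Commute v z := hy.pow_left _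
  have hgv : Commute g v := hg.pow_right _
  refine mem_centralizer_singleton_iff.1 (PGroup.mem_of_ordCompl_pow_mem
    (H := centralizer ({z} : Set G)) fun q hq _ => mem_centralizer_singleton_iff.2 ?_)
  set t := g ^ (orderOf g / q ^ (orderOf g).factorization q) with ht_def
  have hto : orderOf t = q ^ (orderOf g).factorization q := PGroup.orderOf_ordCompl_pow hq
  by_cases hq2 : q = 2
  · have hbv : Commute b₀ v := commute_of_coprime_cent hG hz1 hb₀ hvz
      (by rw [hv]; exact Nat.coprime_two_right.2 hb₀o)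
    exact (commute_of_odd hG hz S hSz hb₀ hb₀1 hb₀o
      (commute_of_coprime_cent hG hv1 (hgv.pow_left _) hbv
        (by rw [hto, hq2]; exact (Nat.coprime_two_left.2 hb₀o).pow_left _))).eq
  · refine (commute_of_coprime_cent hG hv1 (hgv.pow_left _) hvz.symm ?_).eq
    rw [hto, hz]
    exact ((Nat.coprime_primes hq Nat.prime_two).2 hq2).pow_left _

/-- In a simple group `C(z)` gives TI data. -/
theorem tiData_centralizer [IsSimpleGroup G] (hna : ¬ IsMulCommutative G) {b₀ : G}
    (hb₀ : Commute b₀ z) (hb₀1 : b₀ ≠ 1) (hb₀o : Odd (orderOf b₀)) :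
    TIData (centralizer ({z} : Set G)) := by
  haveI : Fact (Nat.Prime 2) := ⟨Nat.prime_two⟩
  have hz1 : z ≠ 1 := fun e => by rw [e, orderOf_one] at hz; omega
  have hcent : ∀ h ∈ centralizer ({z} : Set G), h ≠ 1 →
      centralizer ({h} : Set G) ≤ centralizer ({z} : Set G) := fun h hh hh1 g hg =>
    mem_centralizer_singleton_iff.2 (commute_of_commute hG hz S hSz hb₀ hb₀1 hb₀o
      (mem_centralizer_singleton_iff.1 hh) hh1 (mem_centralizer_singleton_iff.1 hg)).eq
  have hcenter : z ∉ center G := fun hc => by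
    rcases (inferInstance : (center G).Normal).eq_bot_or_eq_top with e | e
    · exact hz1 (by rw [e, mem_bot] at hc; exact hc)
    · exact hna ⟨⟨fun a b => (mem_center_iff.1 (e ▸ mem_top a : a ∈ center G) b).symm⟩⟩
  have hzH : z ∈ centralizer ({z} : Set G) := mem_centralizer_singleton_iff.2 rfl
  refine ⟨fun hn => ?_, ?_, fun g hg => ?_, hcent,
    ⟨z, hzH, hz, fun h hh => mem_centralizer_singleton_iff.1 hh⟩, ?_⟩
  · rcases (normalizer_eq_top_iff.mp hn).eq_bot_or_eq_top with e | e
    · exact hz1 (by rw [e, mem_bot] at hzH; exact hzH)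
    · exact hcenter (mem_center_iff.2 fun g =>
        mem_centralizer_singleton_iff.1 (e ▸ mem_top g : g ∈ centralizer ({z} : Set G)))
  · refine Nat.coprime_of_dvd' fun p hp h1 h2 => ?_
    exfalso
    haveI := Fact.mk hp
    obtain ⟨r, hr⟩ := exists_prime_orderOf_dvd_card' (G := ↥(centralizer ({z} : Set G))) p h1
    have hr' : orderOf (r : G) = p := by rw [orderOf_coe, hr]
    obtain ⟨Q, hQ⟩ := (IsPGroup.of_card (n := 1)
      (by rw [Nat.card_zpowers, hr', pow_one]) : IsPGroup p (zpowers (r : G))).exists_le_sylow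
    have hrQ : (r : G) ∈ (Q : Subgroup G) := hQ (mem_zpowers _)
    haveI : Nontrivial ↥(Q : Subgroup G) := (nontrivial_iff_ne_bot _).2 fun e => by
      rw [e, mem_bot] at hrQ
      exact hp.ne_one (by rw [← hr', hrQ, orderOf_one])
    obtain ⟨c, -, hcc, hco⟩ := PGroup.exists_mem_center_orderOf_eq Q.2
      (N := (⊤ : Subgroup ↥(Q : Subgroup G))) top_ne_bot
    have hc1 : (c : G) ≠ 1 := fun e => hp.ne_one (by
      rw [← hco, orderOf_eq_one_iff]; exact Subtype.ext e)
    have hcQ : ∀ x ∈ (Q : Subgroup G), Commute x (c : G) := fun x hx =>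
      congrArg Subtype.val (mem_center_iff.1 hcc ⟨x, hx⟩)
    have hcH : (c : G) ∈ centralizer ({z} : Set G) :=
      hcent _ r.2 (fun e => hp.ne_one (by rw [← hr', e, orderOf_one]))
        (mem_centralizer_singleton_iff.2 (hcQ _ hrQ).symm.eq)
    exact Q.not_dvd_index (h2.trans (index_dvd_of_le fun x hx =>
      hcent _ hcH hc1 (mem_centralizer_singleton_iff.2 (hcQ x hx).eq)))
  · refine le_bot_iff.1 fun y hy => mem_bot.2 ?_
    obtain ⟨hyH, x, hxH, hxy⟩ := hy
    have hxy' : g * x * g⁻¹ = y := by simpa using hxy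
    by_contra hy1
    apply hg
    set z' := g * z * g⁻¹ with hz'
    have hxz : x * z = z * x := mem_centralizer_singleton_iff.1 hxH
    have hy' : y * z' = z' * y := by
      rw [hz', ← hxy']
      calc g * x * g⁻¹ * (g * z * g⁻¹) = g * (x * z) * g⁻¹ := by group
        _ = g * (z * x) * g⁻¹ := by rw [hxz]
        _ = g * z * g⁻¹ * (g * x * g⁻¹) := by group
    have hz'H : z' ∈ centralizer ({z} : Set G) :=
      hcent y hyH hy1 (mem_centralizer_singleton_iff.2 hy'.symm)
    have hle : ∀ h ∈ centralizer ({z} : Set G), g * h * g⁻¹ ∈ centralizer ({z} : Set G) := by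
      intro h hh
      refine hcent z' hz'H (fun e => hz1 (conj_eq_one_iff.1 (hz' ▸ e)))
        (mem_centralizer_singleton_iff.2 ?_)
      rw [hz']
      calc g * h * g⁻¹ * (g * z * g⁻¹) = g * (h * z) * g⁻¹ := by group
        _ = g * (z * h) * g⁻¹ := by rw [mem_centralizer_singleton_iff.1 hh]
        _ = g * z * g⁻¹ * (g * h * g⁻¹) := by group
    rw [Core.mem_normalizer_iff_map_conj]
    refine eq_of_le_of_card_ge ?_ (card_map_of_injective (MulAut.conj g).injective).ge
    rintro _ ⟨h, hh, rfl⟩
    simpa using hle h hh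
  · by_contra h2
    push Not at h2
    exact hcenter (ZStar.mem_center_of_isolated (oddCore_eq_bot hna)
      (ZStar.isolated_of_unique_involution S hz fun x hx hx2 =>
        h2 x (mem_centralizer_singleton_iff.2 (hSz x hx).eq) z hzH hx2 hz))

end Central

end Cfsg.Lib.CIT.CNStep

namespace Cfsg.Lib.CIT

open Subgroup
open Cfsg.Lib

universe u

/-- A simple nonabelian CN group is a CIT group. -/
theorem isCIT_of_isCN {G : Type u} [Group G] [Finite G] [IsSimpleGroup G]
    (hna : ¬ IsMulCommutative G) (hCN : Cfsg.IsCNGroup G) : IsCIT G := by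
  classical
  haveI : Fact (Nat.Prime 2) := ⟨Nat.prime_two⟩
  intro t ht
  by_contra hnot
  -- an element of odd order commuting with `t`
  obtain ⟨x, hxt, hx1, hxo⟩ : ∃ x : G, Commute x t ∧ x ≠ 1 ∧ Odd (orderOf x) := by
    by_contra hc
    push Not at hc
    refine hnot fun y => ?_
    obtain ⟨k, m, hm, hr⟩ := Nat.exists_eq_two_pow_mul_odd (n := orderOf y) (orderOf_pos _).ne'
    refine ⟨k, Subtype.ext ?_⟩
    by_contra hne
    have ho : orderOf ((y : G) ^ 2 ^ k) = m := by
      rw [orderOf_pow, orderOf_coe, hr, Nat.gcd_mul_right_left, Nat.mul_div_cancel_left _ (by positivity)]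
    exact hc _ ((show Commute (y : G) t from mem_centralizer_singleton_iff.1 y.2).pow_left _)
      (fun e => hne (by simpa using e)) (ho ▸ hm)
  obtain ⟨S, hS⟩ := (IsPGroup.of_card (n := 1) (by rw [Nat.card_zpowers, ht, pow_one]) :
    IsPGroup 2 (zpowers t)).exists_le_sylow
  have htS : t ∈ (S : Subgroup G) := hS (mem_zpowers _)
  have ht1 : t ≠ 1 := fun e => by rw [e, orderOf_one] at ht; omega
  haveI : Nontrivial ↥(S : Subgroup G) :=
    (nontrivial_iff_ne_bot _).2 fun e => ht1 (by rw [e, mem_bot] at htS; exact htS)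
  obtain ⟨z, -, hzc, hz⟩ := PGroup.exists_mem_center_orderOf_eq S.2
    (N := (⊤ : Subgroup ↥(S : Subgroup G))) top_ne_bot
  have hSz : ∀ s ∈ (S : Subgroup G), Commute s (z : G) := fun s hs =>
    congrArg Subtype.val (mem_center_iff.1 hzc ⟨s, hs⟩)
  have hz2 : orderOf (z : G) = 2 := by rw [orderOf_coe, hz]
  have hxz : Commute x (z : G) := CNStep.commute_of_coprime_cent hCN ht1 hxt (hSz t htS).symm
    (by rw [hz2]; exact Nat.coprime_two_right.2 hxo)
  have hD := CNStep.tiData_centralizer hCN hz2 S hSz hna hxz hx1 hxo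
  obtain ⟨E, s, hE⟩ := exists_tiShape hD
  haveI := Fintype.ofFinite (G ⧸ normalizer (centralizer ({(z : G)} : Set G) : Set G))
  have hpp := Cfsg.Agent.S0346.result (isZassenhausGroup hD)
  rw [← Nat.card_eq_fintype_card, ← index, hE.index_eq, Nat.add_sub_cancel] at hpp
  obtain ⟨r, hr, huniq⟩ := (isPrimePow_iff_unique_prime_dvd).1 hpp
  have h2 : 2 = r := huniq 2 ⟨Nat.prime_two, hD.two_dvd⟩
  obtain ⟨q, hq, hqx⟩ := Nat.exists_prime_and_dvd (fun e => hx1 (orderOf_eq_one_iff.1 e))
  have hqr : q = r := huniq q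
    ⟨hq, hqx.trans (orderOf_dvd_natCard _ (mem_centralizer_singleton_iff.2 hxz.eq))⟩
  rw [hqr, ← h2] at hqx
  exact (Nat.not_even_iff_odd.2 hxo) (even_iff_two_dvd.2 hqx)

end Cfsg.Lib.CIT
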