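import Cfsg.Agent.Lib.CIT.Defs
import Cfsg.Agent.Lib.Invol.Basic

/-!
Counting for a TI subgroup of even order containing the centralizers of its non-identity
elements (see `notes/cit_lead.md`, §1).

With `M = N(H)` and the action of `G` on `G ⧸ M`: every point `β ≠ α` has a stabilizer in `M`
which complements `H`, is inverted by every involution swapping `α` and `β`, and the fixed
points of such a complement are just two, so that `H` is regular on the points other than `α`.
-/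

set_option autoImplicit false
set_option linter.style.haveILetI false

namespace Cfsg.Lib.CIT

open Subgroup

universe u

variable {G : Type u} [Group G]

namespace TIData

variable {H : Subgroup G}

/-- An element moving a non-identity element of `H` into `H` normalises `H`. -/
theorem mem_normalizer_of_conj_mem (hD : TIData H) {a g : G} (ha : a ∈ H) (ha1 : a ≠ 1)
    (hga : g * a * g⁻¹ ∈ H) : g ∈ normalizer (H : Set G) := by
  by_contra hg
  have h : g * a * g⁻¹ ∈ H ⊓ H.map (MulAut.conj g).toMonoidHom :=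
    ⟨hga, ⟨a, ha, by simp⟩⟩
  rw [hD.ti g hg, mem_bot] at h
  exact ha1 (conj_eq_one_iff.1 h)

theorem commute_mem (hD : TIData H) {h x : G} (hh : h ∈ H) (h1 : h ≠ 1) (hx : Commute x h) : x ∈ H :=
  hD.cent h hh h1 (mem_centralizer_singleton_iff.2 hx.eq)

/-- An element of the normalizer whose order divides the order of `H` lies in `H`. -/
theorem mem_of_pow (hD : TIData H) {x : G} (hx : x ∈ normalizer (H : Set G))
    (hpow : x ^ Nat.card ↥H = 1) : x ∈ H := by
  haveI : (H.subgroupOf (normalizer (H : Set G))).Normal := normal_in_normalizer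
  set N := H.subgroupOf (normalizer (H : Set G))
  have h1 : orderOf (QuotientGroup.mk ⟨x, hx⟩ : ↥(normalizer (H : Set G)) ⧸ N) ∣ Nat.card ↥H := by
    refine orderOf_dvd_of_pow_eq_one ?_
    rw [← QuotientGroup.mk_pow, QuotientGroup.eq_one_iff]
    show (x ^ Nat.card ↥H : G) ∈ H
    rw [hpow]; exact one_mem _
  have h2 : orderOf (QuotientGroup.mk ⟨x, hx⟩ : ↥(normalizer (H : Set G)) ⧸ N) ∣ H.index := by
    refine (_root_.orderOf_dvd_natCard _).trans ?_
    exact ⟨_, (relIndex_mul_index (le_normalizer (H := H))).symm⟩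
  have h3 := Nat.Coprime.eq_one_of_dvd (hD.hall.coprime_dvd_left h1) h2
  exact (QuotientGroup.eq_one_iff (N := N) ⟨x, hx⟩).1 (orderOf_eq_one_iff.1 h3)

theorem two_dvd (hD : TIData H) : 2 ∣ Nat.card ↥H := by
  obtain ⟨z, hz, hz2, -⟩ := hD.central
  exact hz2 ▸ orderOf_dvd_natCard H hz

/-- An involution of the normalizer lies in `H`. -/
theorem involution_mem (hD : TIData H) {x : G} (hx : x ∈ normalizer (H : Set G))
    (h2 : orderOf x = 2) : x ∈ H :=
  hD.mem_of_pow hx (orderOf_dvd_iff_pow_eq_one.1 (h2 ▸ hD.two_dvd))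

variable [Finite G]

/-- There is an involution outside the normalizer. -/
theorem exists_involution_outside (hD : TIData H) :
    ∃ s : G, orderOf s = 2 ∧ s ∉ normalizer (H : Set G) := by
  obtain ⟨z, hz, hz2, -⟩ := hD.central
  by_contra hc
  push Not at hc
  refine hD.proper (eq_top_iff.2 fun g _ => ?_)
  have h2 : orderOf (g * z * g⁻¹) = 2 := by rw [Cfsg.Lib.Invol.orderOf_conj_eq, hz2]
  exact hD.mem_normalizer_of_conj_mem hz (Cfsg.Lib.Invol.ne_one hz2)
    (hD.involution_mem (hc _ h2) h2)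

/-- An involution of `H` is conjugate to every involution outside the normalizer. -/
theorem isConj_outside (hD : TIData H) {a s : G} (ha : a ∈ H) (ha2 : orderOf a = 2)
    (hs2 : orderOf s = 2) (hs : s ∉ normalizer (H : Set G)) : IsConj a s := by
  refine Cfsg.Lib.Invol.isConj_of_odd ha2 hs2 (Nat.not_even_iff_odd.1 fun he => ?_)
  obtain ⟨hc2, hca, hcs⟩ := Cfsg.Lib.Invol.central_involution ha2 hs2 he
  have hcH := hD.commute_mem ha (Cfsg.Lib.Invol.ne_one ha2) hca
  exact hs (le_normalizer (hD.commute_mem hcH (Cfsg.Lib.Invol.ne_one hc2) hcs.symm))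

/-- The involutions of `H` are conjugate under the normalizer. -/
theorem exists_conj (hD : TIData H) {a b : G} (ha : a ∈ H) (hb : b ∈ H) (ha2 : orderOf a = 2)
    (hb2 : orderOf b = 2) : ∃ m ∈ normalizer (H : Set G), m * a * m⁻¹ = b := by
  obtain ⟨s, hs2, hs⟩ := hD.exists_involution_outside
  obtain ⟨g, hg⟩ := isConj_iff.1
    ((hD.isConj_outside ha ha2 hs2 hs).trans (hD.isConj_outside hb hb2 hs2 hs).symm)
  exact ⟨g, hD.mem_normalizer_of_conj_mem ha (Cfsg.Lib.Invol.ne_one ha2) (hg ▸ hb), hg⟩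

/-- The involutions of `H` are central in `H`. -/
theorem central_of_involution (hD : TIData H) {a : G} (ha : a ∈ H) (ha2 : orderOf a = 2) {h : G}
    (hh : h ∈ H) : h * a = a * h := by
  obtain ⟨z, hz, hz2, hzc⟩ := hD.central
  obtain ⟨m, hm, rfl⟩ := hD.exists_conj hz ha hz2 ha2
  have hh' : m⁻¹ * h * m⁻¹⁻¹ ∈ H := (mem_normalizer_iff.1 (inv_mem hm) h).1 hh
  have h1 := hzc _ hh'
  calc h * (m * z * m⁻¹) = m * ((m⁻¹ * h * m⁻¹⁻¹) * z) * m⁻¹ := by group
    _ = m * (z * (m⁻¹ * h * m⁻¹⁻¹)) * m⁻¹ := by rw [h1]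
    _ = m * z * m⁻¹ * h := by group

/-- `|N(H)| = |H| · (number of involutions of H)`. -/
theorem card_normalizer (hD : TIData H) :
    Nat.card ↥(normalizer (H : Set G))
      = Nat.card ↥H * Nat.card {a : G // a ∈ H ∧ orderOf a = 2} := by
  obtain ⟨z, hz, hz2, hzc⟩ := hD.central
  choose m hm hmz using fun a : {a : G // a ∈ H ∧ orderOf a = 2} => hD.exists_conj hz a.2.1 hz2 a.2.2
  let f : ↥H × {a : G // a ∈ H ∧ orderOf a = 2} → ↥(normalizer (H : Set G)) :=
    fun p => ⟨m p.2 * p.1, mul_mem (hm p.2) (le_normalizer p.1.2)⟩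
  have key : ∀ p, (f p : G) * z * (f p : G)⁻¹ = p.2 := by
    rintro ⟨h, a⟩
    show m a * h * z * (m a * h)⁻¹ = a
    rw [mul_assoc (m a), hzc h h.2]
    calc m a * (z * h) * (m a * h)⁻¹ = m a * z * (m a)⁻¹ := by group
      _ = a := hmz a
  have hinj : Function.Injective f := by
    rintro ⟨h, a⟩ ⟨h', a'⟩ he
    have h1 : (a : G) = a' := by rw [← key (h, a), ← key (h', a'), he]
    obtain rfl : a = a' := Subtype.ext h1
    exact Prod.ext (Subtype.ext (mul_left_cancel (congrArg Subtype.val he))) rfl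
  have hsurj : Function.Surjective f := by
    rintro ⟨x, hx⟩
    have ha : x * z * x⁻¹ ∈ H := (mem_normalizer_iff.1 hx z).1 hz
    have ha2 : orderOf (x * z * x⁻¹) = 2 := by rw [Cfsg.Lib.Invol.orderOf_conj_eq, hz2]
    set a : {a : G // a ∈ H ∧ orderOf a = 2} := ⟨x * z * x⁻¹, ha, ha2⟩
    have hc : Commute ((m a)⁻¹ * x) z := by
      show (m a)⁻¹ * x * z = z * ((m a)⁻¹ * x)
      have h1 : m a * z * (m a)⁻¹ = x * z * x⁻¹ := hmz a
      calc (m a)⁻¹ * x * z = (m a)⁻¹ * (x * z * x⁻¹) * x := by group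
        _ = (m a)⁻¹ * (m a * z * (m a)⁻¹) * x := by rw [h1]
        _ = z * ((m a)⁻¹ * x) := by group
    exact ⟨(⟨_, hD.commute_mem hz (Cfsg.Lib.Invol.ne_one hz2) hc⟩, a),
      Subtype.ext (mul_inv_cancel_left (m a) x)⟩
  rw [← Nat.card_eq_of_bijective f ⟨hinj, hsurj⟩, Nat.card_prod]

theorem two_le_involutions (hD : TIData H) :
    2 ≤ Nat.card {a : G // a ∈ H ∧ orderOf a = 2} := by
  obtain ⟨a, ha, b, hb, ha2, hb2, hab⟩ := hD.two_involutions
  haveI : Nontrivial {a : G // a ∈ H ∧ orderOf a = 2} :=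
    ⟨⟨a, ha, ha2⟩, ⟨b, hb, hb2⟩, fun e => hab (congrArg Subtype.val e)⟩
  exact Finite.one_lt_card

/-! ### The action on the cosets of the normalizer -/

/-- The base point of the action on the cosets of the normalizer. -/
local notation "Ω" => G ⧸ normalizer (H : Set G)

local notation "α" => ((1 : G) : G ⧸ normalizer (H : Set G))

omit [Finite G] in
theorem smul_base (g : G) : g • α = (g : Ω) := by
  rw [MulAction.Quotient.smul_coe, smul_eq_mul, mul_one]

omit [Finite G] in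
theorem smul_base_eq {g : G} : g • α = α ↔ g ∈ normalizer (H : Set G) := by
  rw [smul_base, QuotientGroup.eq, mul_one, inv_mem_iff]

omit [Finite G] in
theorem exists_smul_base (β : Ω) : ∃ g : G, g • α = β := by
  induction β using QuotientGroup.induction_on with
  | _ g => exact ⟨g, smul_base g⟩

/-- The stabilizer in the normalizer of a point. -/
def pointStab (H : Subgroup G) (β : G ⧸ normalizer (H : Set G)) : Subgroup G :=
  normalizer (H : Set G) ⊓ MulAction.stabilizer G β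

omit [Finite G] in
theorem mem_pointStab {β : Ω} {g : G} :
    g ∈ pointStab H β ↔ g ∈ normalizer (H : Set G) ∧ g • β = β := by
  simp [pointStab, Subgroup.mem_inf, MulAction.mem_stabilizer_iff]

/-- `H` acts semiregularly on the points other than the base point. -/
theorem eq_one_of_fix (hD : TIData H) {β : Ω} (hβ : β ≠ α) {h : G} (hh : h ∈ H) (hfix : h • β = β) :
    h = 1 := by
  obtain ⟨g, rfl⟩ := exists_smul_base β
  by_contra h1
  have hg : g ∉ normalizer (H : Set G) := fun hg => hβ (smul_base_eq.2 hg)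
  have h2 : (g⁻¹ * h * g) ∈ normalizer (H : Set G) := by
    rw [← smul_base_eq, mul_smul, mul_smul, hfix, inv_smul_smul]
  have h3 : g⁻¹ * h * g⁻¹⁻¹ ∈ H := by
    rw [inv_inv]
    refine hD.mem_of_pow h2 ?_
    have h4 := orderOf_dvd_natCard H hh
    rw [orderOf_dvd_iff_pow_eq_one] at h4
    rw [show g⁻¹ * h * g = g⁻¹ * h * g⁻¹⁻¹ by rw [inv_inv], conj_pow, h4, mul_one, mul_inv_cancel]
  exact hg (by simpa using inv_mem (hD.mem_normalizer_of_conj_mem hh h1 h3))

theorem eq_one_of_pointStab (hD : TIData H) {β : Ω} (hβ : β ≠ α) {h : G} (hh : h ∈ H)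
    (hs : h ∈ pointStab H β) : h = 1 :=
  hD.eq_one_of_fix hβ hh (mem_pointStab.1 hs).2

theorem mul_injective (hD : TIData H) {β : Ω} (hβ : β ≠ α) {h h' d d' : G} (hh : h ∈ H)
    (hh' : h' ∈ H) (hd : d ∈ pointStab H β) (hd' : d' ∈ pointStab H β) (he : h * d = h' * d') :
    h = h' ∧ d = d' := by
  have h1 : h'⁻¹ * h = d' * d⁻¹ := by
    calc h'⁻¹ * h = h'⁻¹ * (h * d) * d⁻¹ := by group
      _ = h'⁻¹ * (h' * d') * d⁻¹ := by rw [he]
      _ = d' * d⁻¹ := by group
  have h2 := hD.eq_one_of_pointStab hβ (mul_mem (inv_mem hh') hh)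
    (h1 ▸ mul_mem hd' (inv_mem hd))
  refine ⟨(inv_mul_eq_one.1 h2).symm, ?_⟩
  rw [h1] at h2
  exact (mul_inv_eq_one.1 h2).symm

theorem card_pointStab_le (hD : TIData H) {β : Ω} (hβ : β ≠ α) :
    Nat.card ↥(pointStab H β) ≤ Nat.card {a : G // a ∈ H ∧ orderOf a = 2} := by
  let f : ↥H × ↥(pointStab H β) → ↥(normalizer (H : Set G)) :=
    fun p => ⟨p.1 * p.2, mul_mem (le_normalizer p.1.2) (mem_pointStab.1 p.2.2).1⟩
  have hinj : Function.Injective f := by
    rintro ⟨h, d⟩ ⟨h', d'⟩ he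
    obtain ⟨h1, h2⟩ := hD.mul_injective hβ h.2 h'.2 d.2 d'.2 (congrArg Subtype.val he)
    exact Prod.ext (Subtype.ext h1) (Subtype.ext h2)
  have h := Nat.card_le_card_of_injective f hinj
  rw [Nat.card_prod, hD.card_normalizer] at h
  exact Nat.le_of_mul_le_mul_left h Nat.card_pos

omit [Finite G] in
theorem smul_swap {x : G} (hx : orderOf x = 2) {β : Ω} (h : x • α = β) : x • β = α := by
  rw [← h, smul_smul, Cfsg.Lib.Invol.inv_mul_self hx, one_smul]

/-- The number of involutions moving the base point to `β`. -/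
theorem card_swappers_le (hD : TIData H) {β : Ω} (_hβ : β ≠ α) :
    Nat.card {x : G // orderOf x = 2 ∧ x • α = β} ≤ Nat.card ↥(pointStab H β) := by
  rcases isEmpty_or_nonempty {x : G // orderOf x = 2 ∧ x • α = β} with h | ⟨⟨x, hx2, hxβ⟩⟩
  · rw [Nat.card_of_isEmpty]; exact Nat.zero_le _
  · let f : {x : G // orderOf x = 2 ∧ x • α = β} → ↥(pointStab H β) := fun y =>
      ⟨(y : G) * x, mem_pointStab.2 ⟨smul_base_eq.1 (by
          rw [mul_smul, hxβ, smul_swap y.2.1 y.2.2]),
        by rw [mul_smul, smul_swap hx2 hxβ, y.2.2]⟩⟩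
    exact Nat.card_le_card_of_injective f fun a b he =>
      Subtype.ext (mul_right_cancel (congrArg Subtype.val he))

/-- The number of involutions outside the normalizer. -/
theorem card_outside (hD : TIData H) :
    Nat.card {x : G // orderOf x = 2 ∧ x ∉ normalizer (H : Set G)}
      = Nat.card {β : Ω // β ≠ α} * Nat.card {a : G // a ∈ H ∧ orderOf a = 2} := by
  choose g hg using fun β : {β : Ω // β ≠ α} => exists_smul_base (β : Ω)
  have hgM : ∀ β, g β ∉ normalizer (H : Set G) := fun β h =>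
    β.2 ((hg β).symm.trans (smul_base_eq.2 h))
  let f : {β : Ω // β ≠ α} × {a : G // a ∈ H ∧ orderOf a = 2} →
      {x : G // orderOf x = 2 ∧ x ∉ normalizer (H : Set G)} := fun p =>
    ⟨g p.1 * p.2 * (g p.1)⁻¹, by rw [Cfsg.Lib.Invol.orderOf_conj_eq, p.2.2.2], fun h =>
      hgM p.1 (hD.mem_normalizer_of_conj_mem p.2.2.1 (Cfsg.Lib.Invol.ne_one p.2.2.2)
        (hD.involution_mem h (by rw [Cfsg.Lib.Invol.orderOf_conj_eq, p.2.2.2])))⟩
  have hinj : Function.Injective f := by
    rintro ⟨β, a⟩ ⟨β', a'⟩ he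
    have he' : g β * a * (g β)⁻¹ = g β' * a' * (g β')⁻¹ := congrArg Subtype.val he
    have h1 : ((g β')⁻¹ * g β) * a * ((g β')⁻¹ * g β)⁻¹ = a' := by
      calc ((g β')⁻¹ * g β) * a * ((g β')⁻¹ * g β)⁻¹
          = (g β')⁻¹ * (g β * a * (g β)⁻¹) * g β' := by group
        _ = (g β')⁻¹ * (g β' * a' * (g β')⁻¹) * g β' := by rw [he']
        _ = a' := by group
    have h2 := hD.mem_normalizer_of_conj_mem a.2.1 (Cfsg.Lib.Invol.ne_one a.2.2) (h1 ▸ a'.2.1)
    rw [← smul_base_eq, mul_smul, inv_smul_eq_iff, hg, hg] at h2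
    obtain rfl : β = β' := Subtype.ext h2
    refine Prod.ext rfl (Subtype.ext ?_)
    exact mul_left_cancel (mul_right_cancel he')
  have hsurj : Function.Surjective f := by
    rintro ⟨x, hx2, hxM⟩
    obtain ⟨z, hz, hz2, -⟩ := hD.central
    obtain ⟨c, hc⟩ := isConj_iff.1 (hD.isConj_outside hz hz2 hx2 hxM)
    have hcM : c ∉ normalizer (H : Set G) := fun h =>
      hxM (hc ▸ mul_mem (mul_mem h (le_normalizer hz)) (inv_mem h))
    set β : {β : Ω // β ≠ α} := ⟨c • α, fun h => hcM (smul_base_eq.1 h)⟩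
    have hm : (g β)⁻¹ * c ∈ normalizer (H : Set G) := by
      rw [← smul_base_eq, mul_smul, inv_smul_eq_iff, hg]
    refine ⟨(β, ⟨((g β)⁻¹ * c) * z * ((g β)⁻¹ * c)⁻¹, (mem_normalizer_iff.1 hm z).1 hz, ?_⟩),
      Subtype.ext ?_⟩
    · rw [Cfsg.Lib.Invol.orderOf_conj_eq, hz2]
    · show g β * (((g β)⁻¹ * c) * z * ((g β)⁻¹ * c)⁻¹) * (g β)⁻¹ = x
      rw [← hc]; group
  rw [← Nat.card_eq_of_bijective f ⟨hinj, hsurj⟩, Nat.card_prod]

/-- Every point other than the base point is the image of it under exactly as many involutions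
as there are involutions in `H`. -/
theorem card_swappers (hD : TIData H) {β : Ω} (hβ : β ≠ α) :
    Nat.card {x : G // orderOf x = 2 ∧ x • α = β}
      = Nat.card {a : G // a ∈ H ∧ orderOf a = 2} := by
  classical
  haveI := Fintype.ofFinite {β : Ω // β ≠ α}
  set k := Nat.card {a : G // a ∈ H ∧ orderOf a = 2}
  let φ : {x : G // orderOf x = 2 ∧ x ∉ normalizer (H : Set G)} → {β : Ω // β ≠ α} := fun x =>
    ⟨(x : G) • α, fun h => x.2.2 (smul_base_eq.1 h)⟩
  have hfib : ∀ γ : {β : Ω // β ≠ α}, Nat.card {x // φ x = γ}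
      = Nat.card {x : G // orderOf x = 2 ∧ x • α = (γ : Ω)} := fun γ =>
    Nat.card_congr
      { toFun := fun x => ⟨x.1.1, x.1.2.1, congrArg Subtype.val x.2⟩
        invFun := fun x => ⟨⟨x.1, x.2.1, fun h => γ.2 (x.2.2.symm.trans (smul_base_eq.2 h))⟩,
          Subtype.ext x.2.2⟩
        left_inv := fun _ => rfl
        right_inv := fun _ => rfl }
  have hle : ∀ γ ∈ (Finset.univ : Finset {β : Ω // β ≠ α}), Nat.card {x // φ x = γ} ≤ k := fun γ _ =>
    (hfib γ).trans_le ((hD.card_swappers_le γ.2).trans (hD.card_pointStab_le γ.2))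
  have hsum : ∑ γ, Nat.card {x // φ x = γ} = ∑ _γ : {β : Ω // β ≠ α}, k := by
    rw [← Nat.card_sigma, Nat.card_congr (Equiv.sigmaFiberEquiv φ), hD.card_outside, Finset.sum_const,
      Finset.card_univ, smul_eq_mul]
    congr 1
    exact Nat.card_eq_fintype_card
  have h := ((Finset.sum_eq_sum_iff_of_le hle).1 hsum) ⟨β, hβ⟩ (Finset.mem_univ _)
  exact (hfib ⟨β, hβ⟩).symm.trans h

theorem card_pointStab (hD : TIData H) {β : Ω} (hβ : β ≠ α) :
    Nat.card ↥(pointStab H β) = Nat.card {a : G // a ∈ H ∧ orderOf a = 2} :=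
  le_antisymm (hD.card_pointStab_le hβ) ((hD.card_swappers hβ).ge.trans (hD.card_swappers_le hβ))

theorem exists_swapper (hD : TIData H) {β : Ω} (hβ : β ≠ α) :
    ∃ x : G, orderOf x = 2 ∧ x • α = β := by
  have h : 0 < Nat.card {x : G // orderOf x = 2 ∧ x • α = β} := by
    rw [hD.card_swappers hβ]; have := hD.two_le_involutions; omega
  obtain ⟨⟨x, hx⟩⟩ := (Nat.card_pos_iff.1 h).1
  exact ⟨x, hx⟩

/-- An involution interchanging the base point and `β` inverts the stabilizer of both. -/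
theorem inverts_pointStab (hD : TIData H) {β : Ω} (hβ : β ≠ α) {x : G} (hx : orderOf x = 2)
    (hxβ : x • α = β) {d : G} (hd : d ∈ pointStab H β) : x * d * x⁻¹ = d⁻¹ := by
  let f : {x : G // orderOf x = 2 ∧ x • α = β} → ↥(pointStab H β) := fun y =>
    ⟨(y : G) * x, mem_pointStab.2 ⟨smul_base_eq.1 (by
        rw [mul_smul, hxβ, smul_swap y.2.1 y.2.2]),
      by rw [mul_smul, smul_swap hx hxβ, y.2.2]⟩⟩
  have hinj : Function.Injective f := fun a b he =>
    Subtype.ext (mul_right_cancel (congrArg Subtype.val he))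
  have hb := hinj.bijective_of_nat_card_le (by rw [hD.card_pointStab hβ, hD.card_swappers hβ])
  obtain ⟨⟨y, hy, hy'⟩, hyd⟩ := hb.2 ⟨d, hd⟩
  obtain rfl : y * x = d := congrArg Subtype.val hyd
  rw [mul_inv_rev, Cfsg.Lib.Invol.inv_eq_self hx, Cfsg.Lib.Invol.inv_eq_self hy]
  rw [mul_assoc, mul_assoc, Cfsg.Lib.Invol.inv_mul_self hx, mul_one]

theorem commute_pointStab (hD : TIData H) {β : Ω} (hβ : β ≠ α) {d e : G}
    (hd : d ∈ pointStab H β) (he : e ∈ pointStab H β) : Commute d e := by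
  obtain ⟨x, hx, hxβ⟩ := hD.exists_swapper hβ
  have h1 := hD.inverts_pointStab hβ hx hxβ hd
  have h2 := hD.inverts_pointStab hβ hx hxβ he
  have h3 := hD.inverts_pointStab hβ hx hxβ (mul_mem hd he)
  have h4 : d⁻¹ * e⁻¹ = (d * e)⁻¹ := by
    rw [← h1, ← h2, ← h3]; group
  have h5 : (d⁻¹ * e⁻¹)⁻¹ = d * e := by rw [h4, inv_inv]
  rw [mul_inv_rev, inv_inv, inv_inv] at h5
  exact h5.symm

theorem exists_decomp (hD : TIData H) {β : Ω} (hβ : β ≠ α) {m : G}
    (hm : m ∈ normalizer (H : Set G)) : ∃ h ∈ H, ∃ d ∈ pointStab H β, m = h * d := by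
  let f : ↥H × ↥(pointStab H β) → ↥(normalizer (H : Set G)) :=
    fun p => ⟨p.1 * p.2, mul_mem (le_normalizer p.1.2) (mem_pointStab.1 p.2.2).1⟩
  have hinj : Function.Injective f := by
    rintro ⟨h, d⟩ ⟨h', d'⟩ he
    obtain ⟨h1, h2⟩ := hD.mul_injective hβ h.2 h'.2 d.2 d'.2 (congrArg Subtype.val he)
    exact Prod.ext (Subtype.ext h1) (Subtype.ext h2)
  have hb := hinj.bijective_of_nat_card_le
    (by rw [Nat.card_prod, hD.card_pointStab hβ, hD.card_normalizer])
  obtain ⟨⟨h, d⟩, he⟩ := hb.2 ⟨m, hm⟩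
  exact ⟨h, h.2, d, d.2, (congrArg Subtype.val he).symm⟩

/-- An element of the normalizer outside `H` fixes at most one point of each `H`-orbit. -/
theorem fixed_unique (hD : TIData H) {β : Ω} (hβ : β ≠ α) {e h h' : G}
    (he : e ∈ normalizer (H : Set G)) (heH : e ∉ H) (hh : h ∈ H) (hh' : h' ∈ H)
    (h1 : e • (h • β) = h • β) (h2 : e • (h' • β) = h' • β) : h = h' := by
  set k := h' * h⁻¹
  have hk : k ∈ H := mul_mem hh' (inv_mem hh)
  set d := h⁻¹ * e * h with hd_def
  set d' := h'⁻¹ * e * h' with hd'_def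
  have hd : d ∈ pointStab H β := mem_pointStab.2
    ⟨mul_mem (mul_mem (inv_mem (le_normalizer hh)) he) (le_normalizer hh),
      by rw [hd_def, mul_smul, mul_smul, h1, inv_smul_smul]⟩
  have hd' : d' ∈ pointStab H β := mem_pointStab.2
    ⟨mul_mem (mul_mem (inv_mem (le_normalizer hh')) he) (le_normalizer hh'),
      by rw [hd'_def, mul_smul, mul_smul, h2, inv_smul_smul]⟩
  have hc : h'⁻¹ * (e * (h' * h⁻¹) * e⁻¹) * h ∈ H :=
    mul_mem (mul_mem (inv_mem hh') ((mem_normalizer_iff.1 he _).1 hk)) hh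
  obtain ⟨-, hdd⟩ := hD.mul_injective hβ hc (one_mem H) hd hd'
    (by rw [hd_def, hd'_def]; group)
  by_contra hne
  refine heH (hD.commute_mem hk (fun e1 => hne (mul_inv_eq_one.1 e1).symm) ?_)
  show e * (h' * h⁻¹) = h' * h⁻¹ * e
  calc e * (h' * h⁻¹) = h' * d' * h⁻¹ := by rw [hd'_def]; group
    _ = h' * d * h⁻¹ := by rw [hdd]
    _ = h' * h⁻¹ * e := by rw [hd_def]; group

/-- An element of the normalizer outside `H` fixes a point of each `H`-orbit. -/
theorem fixed_exists (hD : TIData H) {β : Ω} (hβ : β ≠ α) {e : G}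
    (he : e ∈ normalizer (H : Set G)) (heH : e ∉ H) : ∃ h ∈ H, e • (h • β) = h • β := by
  classical
  let f : ↥H × ↥(pointStab H β) → ↥(normalizer (H : Set G)) := fun p =>
    if (p.2 : G) = 1 then ⟨p.1, le_normalizer p.1.2⟩ else
    ⟨p.1 * p.2 * (p.1 : G)⁻¹, mul_mem (mul_mem (le_normalizer p.1.2) (mem_pointStab.1 p.2.2).1)
      (inv_mem (le_normalizer p.1.2))⟩
  have hnotH : ∀ {h d : G}, h ∈ H → d ∈ pointStab H β → d ≠ 1 → h * d * h⁻¹ ∉ H := by
    intro h d hh hd hd1 hc
    refine hd1 (hD.eq_one_of_pointStab hβ ?_ hd)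
    have := mul_mem (mul_mem (inv_mem hh) hc) hh
    simpa [mul_assoc] using this
  have hinj : Function.Injective f := by
    rintro ⟨h, d⟩ ⟨h', d'⟩ heq
    by_cases hd : (d : G) = 1 <;> by_cases hd' : (d' : G) = 1 <;>
      simp only [f, hd, hd', if_true, if_false, Subtype.mk.injEq] at heq
    · exact Prod.ext (Subtype.ext heq) (Subtype.ext (hd.trans hd'.symm))
    · exact absurd (heq ▸ h.2) (hnotH h'.2 d'.2 hd')
    · exact absurd (heq.symm ▸ h'.2) (hnotH h.2 d.2 hd)
    · have hm : (h : G) * d * (h : G)⁻¹ ∈ normalizer (H : Set G) :=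
        mul_mem (mul_mem (le_normalizer h.2) (mem_pointStab.1 d.2).1) (inv_mem (le_normalizer h.2))
      have e1 : ((h : G) * d * (h : G)⁻¹) • ((h : G) • β) = (h : G) • β := by
        rw [smul_smul, inv_mul_cancel_right, mul_smul, (mem_pointStab.1 d.2).2]
      have e2 : ((h : G) * d * (h : G)⁻¹) • ((h' : G) • β) = (h' : G) • β := by
        rw [heq, smul_smul, inv_mul_cancel_right, mul_smul, (mem_pointStab.1 d'.2).2]
      have hh := hD.fixed_unique hβ hm (hnotH h.2 d.2 hd) h.2 h'.2 e1 e2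
      refine Prod.ext (Subtype.ext hh) (Subtype.ext ?_)
      rw [hh] at heq
      exact mul_left_cancel (mul_right_cancel heq)
  have hb := hinj.bijective_of_nat_card_le
    (by rw [Nat.card_prod, hD.card_pointStab hβ, hD.card_normalizer])
  obtain ⟨⟨h, d⟩, hfe⟩ := hb.2 ⟨e, he⟩
  by_cases hd : (d : G) = 1
  · simp only [f, hd, if_true, Subtype.mk.injEq] at hfe
    exact absurd (hfe ▸ h.2) heH
  · simp only [f, hd, if_false, Subtype.mk.injEq] at hfe
    exact ⟨h, h.2, by rw [← hfe, smul_smul, inv_mul_cancel_right, mul_smul, (mem_pointStab.1 d.2).2]⟩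

/-- The stabilizer of one point fixes a point of each `H`-orbit. -/
theorem pointStab_fix_orbit (hD : TIData H) {β₀ β : Ω} (hβ₀ : β₀ ≠ α) (hβ : β ≠ α) :
    ∃ h ∈ H, ∀ e ∈ pointStab H β₀, e • (h • β) = h • β := by
  have h2 : 1 < Nat.card ↥(pointStab H β₀) := by
    rw [hD.card_pointStab hβ₀]; exact hD.two_le_involutions
  haveI : Nontrivial ↥(pointStab H β₀) := Finite.one_lt_card_iff_nontrivial.1 h2
  obtain ⟨⟨e₀, he₀⟩, hne⟩ := exists_ne (1 : ↥(pointStab H β₀))
  have he₀1 : e₀ ≠ 1 := fun h => hne (Subtype.ext h)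
  have he₀M := (mem_pointStab.1 he₀).1
  have he₀H : e₀ ∉ H := fun h => he₀1 (hD.eq_one_of_pointStab hβ₀ h he₀)
  obtain ⟨h, hh, hfix⟩ := hD.fixed_exists hβ he₀M he₀H
  refine ⟨h, hh, fun e he => ?_⟩
  obtain ⟨h', hh', d, hd, hdec⟩ :=
    hD.exists_decomp hβ (mul_mem (mem_pointStab.1 he).1 (le_normalizer hh))
  have h1 : e • (h • β) = h' • β := by
    rw [smul_smul, hdec, mul_smul, (mem_pointStab.1 hd).2]
  have h2' : e₀ • (h' • β) = h' • β := by
    rw [← h1, smul_smul, (hD.commute_pointStab hβ₀ he₀ he).eq, mul_smul, hfix]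
  rw [h1, hD.fixed_unique hβ he₀M he₀H hh hh' hfix h2']

theorem normalizing_mem_pointStab (hD : TIData H) {β : Ω} (hβ : β ≠ α) {m : G}
    (hm : m ∈ normalizer (H : Set G)) (hn : ∀ e ∈ pointStab H β, m * e * m⁻¹ ∈ pointStab H β) :
    m ∈ pointStab H β := by
  obtain ⟨h, hh, d, hd, rfl⟩ := hD.exists_decomp hβ hm
  suffices h = 1 by rw [this, one_mul]; exact hd
  by_contra h1
  have h2 : 1 < Nat.card ↥(pointStab H β) := by
    rw [hD.card_pointStab hβ]; exact hD.two_le_involutions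
  haveI : Nontrivial ↥(pointStab H β) := Finite.one_lt_card_iff_nontrivial.1 h2
  obtain ⟨⟨e, he⟩, hne⟩ := exists_ne (1 : ↥(pointStab H β))
  have he1 : e ≠ 1 := fun h => hne (Subtype.ext h)
  have h3 : h * e * h⁻¹ ∈ pointStab H β := by
    have := hn e he
    rwa [show h * d * e * (h * d)⁻¹ = h * (d * e * d⁻¹) * h⁻¹ by group,
      (hD.commute_pointStab hβ hd he).eq, mul_inv_cancel_right] at this
  have h4 : h * (e * h⁻¹ * e⁻¹) = 1 := hD.eq_one_of_pointStab hβ
    (mul_mem hh ((mem_normalizer_iff.1 (mem_pointStab.1 he).1 _).1 (inv_mem hh)))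
    (by rw [← mul_assoc, ← mul_assoc]; exact mul_mem h3 (inv_mem he))
  refine he1 (hD.eq_one_of_pointStab hβ (hD.commute_mem hh h1 ?_) he)
  show e * h = h * e
  calc e * h = (h * (e * h⁻¹ * e⁻¹)) * (e * h) := by rw [h4, one_mul]
    _ = h * e := by group

/-- The stabilizer of two points fixes no further point. -/
theorem fixed_eq (hD : TIData H) {β γ : Ω} (hβ : β ≠ α) (hγ : γ ≠ α)
    (hfix : ∀ e ∈ pointStab H β, e • γ = γ) : γ = β := by
  by_contra hne
  have hE : pointStab H β = pointStab H γ :=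
    eq_of_le_of_card_ge (fun e he => mem_pointStab.2 ⟨(mem_pointStab.1 he).1, hfix e he⟩)
      (by rw [hD.card_pointStab hβ, hD.card_pointStab hγ])
  obtain ⟨t, ht, htβ⟩ := hD.exists_swapper hβ
  obtain ⟨s, hs, hsγ⟩ := hD.exists_swapper hγ
  have hδ : t • γ ≠ α := fun h => hne (by
    rw [← htβ, ← h, smul_smul, Cfsg.Lib.Invol.inv_mul_self ht, one_smul])
  have hδE : pointStab H β = pointStab H (t • γ) := by
    refine eq_of_le_of_card_ge (fun e he => mem_pointStab.2 ⟨(mem_pointStab.1 he).1, ?_⟩)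
      (by rw [hD.card_pointStab hβ, hD.card_pointStab hδ])
    have h1 : e * t = t * e⁻¹ := by
      have := hD.inverts_pointStab hβ ht htβ (inv_mem he)
      rw [inv_inv] at this
      calc e * t = (t * e⁻¹ * t⁻¹) * t := by rw [this]
        _ = t * e⁻¹ := by group
    rw [smul_smul, h1, mul_smul, hfix _ (inv_mem he)]
  obtain ⟨r, hr, hrδ⟩ := hD.exists_swapper hδ
  set m := r * (t * s) with hm_def
  have hmM : m ∈ normalizer (H : Set G) := smul_base_eq.1 (by
    rw [hm_def, mul_smul, mul_smul, hsγ, smul_swap hr hrδ])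
  have hconj : ∀ e ∈ pointStab H β, m * e * m⁻¹ = e⁻¹ := by
    intro e he
    have h1 := hD.inverts_pointStab hγ hs hsγ (hE ▸ he)
    have h2 := hD.inverts_pointStab hβ ht htβ (inv_mem he)
    have h3 := hD.inverts_pointStab hδ hr hrδ (hδE ▸ he)
    rw [inv_inv] at h2
    calc m * e * m⁻¹ = r * (t * (s * e * s⁻¹) * t⁻¹) * r⁻¹ := by rw [hm_def]; group
      _ = e⁻¹ := by rw [h1, h2, h3]
  have hmE := hD.normalizing_mem_pointStab hβ hmM fun e he => hconj e he ▸ inv_mem he
  have h2 : 1 < Nat.card ↥(pointStab H β) := by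
    rw [hD.card_pointStab hβ]; exact hD.two_le_involutions
  haveI : Nontrivial ↥(pointStab H β) := Finite.one_lt_card_iff_nontrivial.1 h2
  obtain ⟨⟨e, he⟩, hne'⟩ := exists_ne (1 : ↥(pointStab H β))
  have he1 : e ≠ 1 := fun h => hne' (Subtype.ext h)
  have h3 : e = e⁻¹ := by
    rw [← hconj e he, (hD.commute_pointStab hβ hmE he).eq, mul_inv_cancel_right]
  have he2 : orderOf e = 2 := Cfsg.Lib.Invol.orderOf_eq_two_of he1 (by
    nth_rewrite 1 [h3]; exact inv_mul_cancel e)
  exact he1 (hD.eq_one_of_pointStab hβ (hD.involution_mem (mem_pointStab.1 he).1 he2) he)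

/-- `H` is transitive on the points other than the base point. -/
theorem exists_smul (hD : TIData H) {β γ : Ω} (hβ : β ≠ α) (hγ : γ ≠ α) :
    ∃ h ∈ H, h • β = γ := by
  obtain ⟨h, hh, hfix⟩ := hD.pointStab_fix_orbit hβ hγ
  have hne : h • γ ≠ α := fun e => hγ (by
    rw [← inv_smul_smul h γ, e, smul_base_eq.2 (inv_mem (le_normalizer hh))])
  exact ⟨h⁻¹, inv_mem hh, by rw [← hD.fixed_eq hβ hne hfix, inv_smul_smul]⟩

end TIData

variable [Finite G]

/-- The TI counting theorem: `N(H)` has index `|H| + 1`, and a complement `E` of `H` in it is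
abelian, regular on the involutions of `H` and inverted by an involution outside. -/
theorem exists_tiShape {H : Subgroup G} (hD : TIData H) : ∃ E t, TIShape H E t := by
  classical
  obtain ⟨s, hs2, hsM⟩ := hD.exists_involution_outside
  set a₀ : G ⧸ normalizer (H : Set G) := ((1 : G) : G ⧸ normalizer (H : Set G)) with ha₀
  set b₀ : G ⧸ normalizer (H : Set G) := s • a₀ with hb₀
  have hb : b₀ ≠ a₀ := fun e => hsM (TIData.smul_base_eq.1 e)
  set E := TIData.pointStab H b₀ with hE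
  refine ⟨E, s, ⟨inf_le_left, hD.card_pointStab hb, ?_, ?_, ?_, ?_, hs2, hsM, ?_, ?_, ?_, ?_⟩⟩
  · exact eq_bot_iff.2 fun x hx => mem_bot.2 (hD.eq_one_of_pointStab hb hx.1 hx.2)
  · refine le_antisymm (sup_le le_normalizer inf_le_left) fun m hm => ?_
    obtain ⟨h, hh, d, hd, rfl⟩ := hD.exists_decomp hb hm
    exact mul_mem (mem_sup_left hh) (mem_sup_right hd)
  · intro a ha b hb' ha2 hb2
    obtain ⟨m, hm, hmab⟩ := hD.exists_conj ha hb' ha2 hb2
    obtain ⟨h, hh, d, hd, rfl⟩ := hD.exists_decomp hb hm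
    have hdM := (TIData.mem_pointStab.1 hd).1
    have hcen := hD.central_of_involution ((mem_normalizer_iff.1 hdM a).1 ha)
      (by rw [Cfsg.Lib.Invol.orderOf_conj_eq, ha2]) hh
    refine ⟨⟨d, hd⟩, ?_, ?_⟩
    · show d * a * d⁻¹ = b
      rw [← hmab, show h * d * a * (h * d)⁻¹ = h * (d * a * d⁻¹) * h⁻¹ by group, hcen,
        mul_inv_cancel_right]
    · rintro ⟨e, he⟩ (hea : e * a * e⁻¹ = b)
      have h1 : d * a * d⁻¹ = b := by
        rw [← hmab, show h * d * a * (h * d)⁻¹ = h * (d * a * d⁻¹) * h⁻¹ by group, hcen,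
          mul_inv_cancel_right]
      have hc : Commute (d⁻¹ * e) a := by
        show d⁻¹ * e * a = a * (d⁻¹ * e)
        calc d⁻¹ * e * a = d⁻¹ * (e * a * e⁻¹) * e := by group
          _ = d⁻¹ * (d * a * d⁻¹) * e := by rw [hea, h1]
          _ = a * (d⁻¹ * e) := by group
      exact Subtype.ext (inv_mul_eq_one.1 (hD.eq_one_of_pointStab hb
        (hD.commute_mem ha (Cfsg.Lib.Invol.ne_one ha2) hc) (mul_mem (inv_mem hd) he))).symm
  · exact ⟨⟨fun x y => Subtype.ext (hD.commute_pointStab hb x.2 y.2).eq⟩⟩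
  · exact fun e he => hD.inverts_pointStab hb hs2 rfl he
  · let f : Option ↥H → G ⧸ normalizer (H : Set G) := fun o => o.elim a₀ fun h => (h : G) • b₀
    have hne : ∀ h : ↥H, (h : G) • b₀ ≠ a₀ := fun h e => hb (by
      rw [← inv_smul_smul (h : G) b₀, e, TIData.smul_base_eq.2 (inv_mem (le_normalizer h.2))])
    have hinj : Function.Injective f := by
      rintro (_ | h) (_ | h') e
      · rfl
      · exact absurd e.symm (hne h')
      · exact absurd e (hne h)
      · refine congrArg some (Subtype.ext ?_)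
        have h1 : ((h' : G)⁻¹ * h) • b₀ = b₀ := by
          rw [mul_smul]; exact inv_smul_eq_iff.2 e
        exact (inv_mul_eq_one.1 (hD.eq_one_of_fix hb (mul_mem (inv_mem h'.2) h.2) h1)).symm
    have hsurj : Function.Surjective f := fun γ => by
      by_cases hγ : γ = a₀
      · exact ⟨none, hγ.symm⟩
      · obtain ⟨h, hh, he⟩ := hD.exists_smul hb hγ
        exact ⟨some ⟨h, hh⟩, he⟩
    rw [index, ← Nat.card_eq_of_bijective f ⟨hinj, hsurj⟩, Finite.card_option]
  · intro g hg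
    obtain ⟨h, hh, he⟩ := hD.exists_smul hb (γ := g • a₀) fun e => hg (TIData.smul_base_eq.1 e)
    refine ⟨h, hh, (h * s)⁻¹ * g, TIData.smul_base_eq.1 ?_, by group⟩
    rw [mul_smul, ← he, hb₀, ← mul_smul h s, inv_smul_smul]
  · intro hexp
    obtain ⟨z, hz, hz2, -⟩ := hD.central
    obtain ⟨c, hc⟩ := isConj_iff.1 (hD.isConj_outside hz hz2 hs2 hsM)
    set γ := c • a₀ with hγ_def
    have hsγ : s • γ = γ := by
      rw [hγ_def, smul_smul, ← hc, inv_mul_cancel_right, mul_smul,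
        TIData.smul_base_eq.2 (le_normalizer hz)]
    have hγa : γ ≠ a₀ := fun e => hb (by rw [hb₀, ← e, hsγ])
    have hγb : γ ≠ b₀ := fun e => hb (by
      rw [← e, ← hsγ, e, hb₀, smul_smul, Cfsg.Lib.Invol.inv_mul_self hs2, one_smul])
    obtain ⟨u, hu, huγ⟩ := hD.exists_smul hb hγa
    have hu1 : u ≠ 1 := fun e => hγb (by rw [← huγ, e, one_smul])
    have huu : u * u = 1 := by rw [← pow_two]; exact hexp u hu
    have hu' : u⁻¹ = u := inv_eq_of_mul_eq_one_left huu
    have hsb : s • b₀ = a₀ := TIData.smul_swap hs2 rfl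
    have hua : u • a₀ = a₀ := TIData.smul_base_eq.2 (le_normalizer hu)
    have huγ' : u • γ = b₀ := by rw [← huγ, smul_smul, huu, one_smul]
    set v := s * (u * s * u) * s with hv_def
    have hv2 : orderOf v = 2 := by
      rw [hv_def, show s * (u * s * u) * s = (s * u) * s * (s * u)⁻¹ by
        rw [mul_inv_rev, hu', Cfsg.Lib.Invol.inv_eq_self hs2]; group,
        Cfsg.Lib.Invol.orderOf_conj_eq, hs2]
    have hvM : v ∈ normalizer (H : Set G) := TIData.smul_base_eq.1 (by
      show v • a₀ = a₀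
      rw [hv_def]; simp only [mul_smul]
      rw [← hb₀, huγ, hsγ, huγ', hsb])
    have hvb : v • b₀ = γ := by
      rw [hv_def]; simp only [mul_smul]
      rw [hsb, hua, ← hb₀, huγ, hsγ]
    have hvu : v = u := by
      have h1 : (u⁻¹ * v) • b₀ = b₀ := by rw [mul_smul, hvb, ← huγ, inv_smul_smul]
      exact (inv_mul_eq_one.1
        (hD.eq_one_of_fix hb (mul_mem (inv_mem hu) (hD.involution_mem hvM hv2)) h1)).symm
    refine ⟨u, hu, hu1, ?_⟩
    calc (u * s) ^ 3 = u * v := by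
          rw [hv_def]; simp only [pow_succ, pow_zero, one_mul, mul_assoc]
      _ = 1 := by rw [hvu, huu]

/-- The three-point stabilizers of the action on the cosets of the normalizer are trivial. -/
theorem TIData.eq_one_of_three {H : Subgroup G} (hD : TIData H) {g : G}
    {a b c : G ⧸ normalizer (H : Set G)} (hab : a ≠ b) (hbc : b ≠ c) (hac : a ≠ c)
    (ha : g • a = a) (hb : g • b = b) (hc : g • c = c) : g = 1 := by
  obtain ⟨k, rfl⟩ := TIData.exists_smul_base a
  set g' := k⁻¹ * g * k with hg'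
  suffices g' = 1 by
    have : k * g' * k⁻¹ = g := by rw [hg']; group
    rw [← this, ‹g' = 1›, mul_one, mul_inv_cancel]
  have hg'M : g' ∈ normalizer (H : Set G) := TIData.smul_base_eq.1 (by
    rw [hg', mul_smul, mul_smul, ha, inv_smul_smul])
  have hfix : ∀ x : G ⧸ normalizer (H : Set G), g • x = x → g' • (k⁻¹ • x) = k⁻¹ • x := fun x hx => by
    rw [hg', mul_smul, mul_smul, smul_inv_smul, hx]
  have hb' : k⁻¹ • b ≠ ((1 : G) : G ⧸ normalizer (H : Set G)) := fun e =>
    hab (by rw [← e, smul_inv_smul])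
  have hc' : k⁻¹ • c ≠ ((1 : G) : G ⧸ normalizer (H : Set G)) := fun e =>
    hac (by rw [← e, smul_inv_smul])
  obtain ⟨h, hh, he⟩ := hD.exists_smul hb' hc'
  by_contra hg1
  have hgH : g' ∉ H := fun hm => hg1 (hD.eq_one_of_fix hb' hm (hfix b hb))
  have h1 := hD.fixed_unique hb' hg'M hgH hh (one_mem H) (by rw [he]; exact hfix c hc)
    (by rw [one_smul]; exact hfix b hb)
  rw [h1, one_smul] at he
  exact hbc (smul_left_cancel k⁻¹ he)

/-- A simple group with TI data is a Zassenhaus group on the cosets of the normalizer. -/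
theorem isZassenhausGroup [IsSimpleGroup G] {H : Subgroup G} (hD : TIData H) :
    Cfsg.IsZassenhausGroup G (G ⧸ normalizer (H : Set G)) := by
  classical
  set a₀ : G ⧸ normalizer (H : Set G) := ((1 : G) : G ⧸ normalizer (H : Set G)) with ha₀
  obtain ⟨s, hs2, hsM⟩ := hD.exists_involution_outside
  have hb : s • a₀ ≠ a₀ := fun e => hsM (TIData.smul_base_eq.1 e)
  obtain ⟨z, hz, hz2, -⟩ := hD.central
  have hne : ∀ γ : G ⧸ normalizer (H : Set G), γ ≠ a₀ → z • γ ≠ γ := fun γ hγ e =>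
    Cfsg.Lib.Invol.ne_one hz2 (hD.eq_one_of_fix hγ hz e)
  have hzb : z • (s • a₀) ≠ a₀ := fun e => hb (by
    rw [← inv_smul_smul z (s • a₀), e, TIData.smul_base_eq.2 (inv_mem (le_normalizer hz))])
  refine ⟨⟨fun {g g'} h => ?_⟩, ?_, fun g a b c hab hbc hac ha hb hc =>
    hD.eq_one_of_three hab hbc hac ha hb hc, ?_, ?_⟩
  · have h1 : ∀ x : G ⧸ normalizer (H : Set G), (g'⁻¹ * g) • x = x := fun x => by
      rw [mul_smul, h, inv_smul_smul]
    exact (inv_mul_eq_one.1 (hD.eq_one_of_three hb.symm (hne _ hb).symm hzb.symm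
      (h1 _) (h1 _) (h1 _))).symm
  · rw [MulAction.is_two_pretransitive_iff]
    intro a b c d hab hcd
    obtain ⟨ka, rfl⟩ := TIData.exists_smul_base a
    obtain ⟨kc, rfl⟩ := TIData.exists_smul_base c
    obtain ⟨h, hh, he⟩ := hD.exists_smul (β := ka⁻¹ • b) (γ := kc⁻¹ • d)
      (fun e => hab (by rw [← e, smul_inv_smul]))
      (fun e => hcd (by rw [← e, smul_inv_smul]))
    refine ⟨kc * h * ka⁻¹, ?_, ?_⟩
    · rw [mul_smul, mul_smul, inv_smul_smul, TIData.smul_base_eq.2 (le_normalizer hh)]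
    · rw [mul_smul, mul_smul, he, smul_inv_smul]
  · have h2 : 1 < Nat.card ↥(TIData.pointStab H (s • a₀)) := by
      rw [hD.card_pointStab hb]; exact hD.two_le_involutions
    haveI : Nontrivial ↥(TIData.pointStab H (s • a₀)) := Finite.one_lt_card_iff_nontrivial.1 h2
    obtain ⟨⟨e, he⟩, hne'⟩ := exists_ne (1 : ↥(TIData.pointStab H (s • a₀)))
    exact ⟨e, fun h => hne' (Subtype.ext h), a₀, s • a₀, hb.symm,
      TIData.smul_base_eq.2 (TIData.mem_pointStab.1 he).1, (TIData.mem_pointStab.1 he).2⟩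
  · intro N hN htr
    refine ⟨a₀, fun hbot => ?_⟩
    rcases hN.eq_bot_or_eq_top with rfl | rfl
    · obtain ⟨⟨n, hn⟩, he⟩ := htr.exists_smul_eq a₀ (s • a₀)
      rw [mem_bot] at hn
      subst hn
      exact hb (by rw [← he]; exact one_smul G a₀)
    · have hm : (⟨z, mem_top z⟩ : ↥(⊤ : Subgroup G)) ∈ MulAction.stabilizer ↥(⊤ : Subgroup G) a₀ :=
        TIData.smul_base_eq.2 (le_normalizer hz)
      have hm1 : (⟨z, mem_top z⟩ : ↥(⊤ : Subgroup G)) ∈ (⊥ : Subgroup ↥(⊤ : Subgroup G)) := hbot ▸ hm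
      exact Cfsg.Lib.Invol.ne_one hz2 (congrArg Subtype.val (mem_bot.1 hm1))

end Cfsg.Lib.CIT
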