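import Cfsg.Agent.Lib.CIT.Final
import Cfsg.Agent.Lib.Invol.Basic

/-!
The two surviving cases of the amalgam step: `q = 2` gives dihedral Sylow subgroups of order 8, and
`q = 4` gives the plane configuration.
-/

set_option autoImplicit false
set_option linter.style.haveILetI false

namespace Cfsg.Lib.CIT

open Subgroup
open Cfsg.Lib

universe u

variable {G : Type u} [Group G] [Finite G] {S : Sylow 2 G} {P Q : Subgroup G} {q : ℕ}

namespace PairFacts

omit [Finite G] in
theorem vee_right_le (h : PairFacts S P Q q) : vee Q ≤ (S : Subgroup G) :=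
  h.sup_eq ▸ le_sup_right

theorem exists_not_inf (h : PairFacts S P Q q) : ∃ v ∈ vee P, v ∉ vee P ⊓ vee Q := by
  by_contra hcon
  push Not at hcon
  have h1 : Nat.card ↥(vee P) ≤ Nat.card ↥(vee P ⊓ vee Q) :=
    Nat.card_le_card_of_injective _ (inclusion_injective hcon)
  rw [h.card_inf, h.shape_left.card_vee, pow_two] at h1
  have := h.shape_left.two_le
  nlinarith

theorem exists_inf_ne_one (h : PairFacts S P Q q) : ∃ a ∈ vee P ⊓ vee Q, a ≠ (1 : G) := by
  refine (bot_or_exists_ne_one (vee P ⊓ vee Q)).resolve_left fun e => ?_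
  have h1 := h.card_inf
  rw [e, card_bot] at h1
  have := h.shape_left.two_le
  omega

/-- `q = 2` gives dihedral Sylow subgroups. -/
theorem hasDihedralSylow (h : PairFacts S P Q 2) : HasDihedralSylow G := by
  haveI : Fact (Nat.Prime 2) := ⟨Nat.prime_two⟩
  obtain ⟨a, ha, haW⟩ := h.exists_not_inf
  obtain ⟨b, hb, hbW⟩ := h.swap.exists_not_inf
  have hord : ∀ {x : G}, x ^ 2 = 1 → x ≠ 1 → orderOf x = 2 := fun hx hx1 =>
    orderOf_eq_prime hx hx1
  have ha2 : orderOf a = 2 := hord (vee_sq ha) fun e => haW (e ▸ one_mem _)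
  have hb2 : orderOf b = 2 := hord (vee_sq hb) fun e => hbW (e ▸ one_mem _)
  have haS := h.vee_left_le ha
  have hbS := h.vee_right_le hb
  have hnc : ¬ Commute b a := fun hc =>
    hbW ⟨hb, h.mem_vee_of_commute ha haW hbS hc⟩
  have habS : a * b ∈ (S : Subgroup G) := mul_mem haS hbS
  have hsq : (a * b) ^ 2 ≠ 1 := by
    intro e
    refine hnc ?_
    rw [pow_two] at e
    show b * a = a * b
    calc b * a = b⁻¹ * a⁻¹ := by rw [inv_eq_self_of_two ha2, inv_eq_self_of_two hb2]
      _ = (a * b) * ((a * b) * (a * b))⁻¹ := by group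
      _ = a * b := by rw [e, inv_one, mul_one]
  have h4 : (a * b) ^ 4 = 1 := by
    rw [show 4 = 2 * 2 from rfl, pow_mul]
    exact vee_sq (h.rad_left ▸ h.shape_left.sq_mem _ habS)
  have ho : orderOf (a * b) = 4 := by
    have := orderOf_eq_prime_pow (p := 2) (n := 1) (x := a * b) (by simpa using hsq) (by simpa using h4)
    simpa using this
  have hanot : a ∉ zpowers (a * b) := by
    intro hm
    refine hnc ?_
    have hb' : b ∈ zpowers (a * b) := by
      have := mul_mem (inv_mem hm) (mem_zpowers (a * b))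
      rwa [inv_mul_cancel_left] at this
    obtain ⟨i, hi⟩ := mem_zpowers_iff.1 hb'
    obtain ⟨j, hj⟩ := mem_zpowers_iff.1 hm
    have := (Commute.refl (a * b)).zpow_zpow i j
    rwa [hi, hj] at this
  set f := Invol.dihedralHom (orderOf (a * b)) (pow_orderOf_eq_one _) (Invol.inv_mul_self ha2)
    (Invol.conj_mul_left ha2 hb2) with hf
  have hfinj : Function.Injective f := Invol.dihedralHom_injective _ _ hanot
  have hrange : f.range = (S : Subgroup G) := by
    refine eq_of_le_of_card_ge ?_ ?_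
    · rw [hf, Invol.dihedralHom_range ha2 hb2, closure_le]
      exact Set.insert_subset haS (Set.singleton_subset_iff.2 hbS)
    · rw [← Nat.card_congr (MonoidHom.ofInjective hfinj).toEquiv, h.card_sylow, DihedralGroup.nat_card, ho]
      norm_num
  have e : DihedralGroup (orderOf (a * b)) ≃* (S : Subgroup G) :=
    (MonoidHom.ofInjective hfinj).trans (MulEquiv.subgroupCongr hrange)
  intro T
  refine ⟨2, le_rfl, ?_⟩
  rw [show 2 ^ 2 = orderOf (a * b) by rw [ho]; norm_num]
  exact ⟨(T.equiv S).trans e.symm⟩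

/-- A maximal local is transitive on the non-identity elements of its `vee`. -/
theorem trans_vee (hG : IsCIT G) (h : PairFacts S P Q q) (hP : Nat.card ↥P = q ^ 2 * (q * ((q - 1) * (q + 1))))
    {a b : G} (ha : a ∈ vee P) (hb : b ∈ vee P) (ha1 : a ≠ 1) (hb1 : b ≠ 1) :
    ∃ g ∈ P, g * a * g⁻¹ = b := by
  classical
  obtain ⟨c, hc, hc1⟩ := h.exists_inf_ne_one
  have hq := h.shape_left.two_le
  set H : Subgroup ↥P := (centralizer ({c} : Set G)).subgroupOf P with hH
  have hmem : ∀ g g' : ↥P, g⁻¹ * g' ∈ H ↔ (g : G) * c * (g : G)⁻¹ = (g' : G) * c * (g' : G)⁻¹ := by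
    intro g g'
    rw [hH, mem_subgroupOf, mem_centralizer_singleton_iff, Subgroup.coe_mul, Subgroup.coe_inv]
    constructor <;> intro e
    · calc (g : G) * c * (g : G)⁻¹ = g * (c * ((g : G)⁻¹ * g')) * (g' : G)⁻¹ := by group
        _ = g * (((g : G)⁻¹ * g') * c) * (g' : G)⁻¹ := by rw [e]
        _ = g' * c * (g' : G)⁻¹ := by group
    · calc (g : G)⁻¹ * g' * c = (g : G)⁻¹ * ((g' : G) * c * (g' : G)⁻¹) * g' := by group
        _ = (g : G)⁻¹ * ((g : G) * c * (g : G)⁻¹) * g' := by rw [e]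
        _ = c * ((g : G)⁻¹ * g') := by group
  let F : ↥P ⧸ H → G := Quotient.lift (fun g : ↥P => (g : G) * c * (g : G)⁻¹) fun g g' hgg =>
    (hmem g g').1 (QuotientGroup.leftRel_apply.1 hgg)
  have hFinj : Function.Injective F := by
    intro x y
    induction x using QuotientGroup.induction_on with
    | H g => induction y using QuotientGroup.induction_on with
      | H g' => exact fun e => QuotientGroup.eq.2 ((hmem g g').2 e)
  have hsub : Set.range F ⊆ (vee P : Set G) \ {1} := by
    rintro _ ⟨x, rfl⟩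
    induction x using QuotientGroup.induction_on with
    | H g =>
      refine ⟨(mem_normalizer_iff.1 (le_normalizer_vee P g.2) c).1 hc.1, fun e => hc1 ?_⟩
      have e' : (g : G) * c * (g : G)⁻¹ = 1 := e
      rwa [mul_inv_eq_one, mul_eq_left] at e'
  have hcard : Nat.card (↥P ⧸ H) = (q - 1) * (q + 1) := by
    have h1 := Subgroup.card_eq_card_quotient_mul_card_subgroup H
    rw [hH, h.centralizer_inf hG hc hc1, Nat.card_congr (subgroupOfEquivOfLe h.le_left).toEquiv,
      h.card_sylow, hP] at h1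
    refine Nat.eq_of_mul_eq_mul_right (show 0 < q ^ 3 by positivity) ?_
    rw [hH, h.centralizer_inf hG hc hc1, ← h1]
    ring
  have heq : Set.range F = (vee P : Set G) \ {1} := by
    refine Set.eq_of_subset_of_ncard_le hsub (le_of_eq ?_) (Set.toFinite _)
    rw [Set.ncard_diff_singleton_of_mem (one_mem (vee P)), ← Nat.card_coe_set_eq, ← Nat.card_coe_set_eq,
      Nat.card_range_of_injective hFinj, hcard]
    show Nat.card ↥(vee P) - 1 = _
    rw [h.shape_left.card_vee]
    obtain ⟨r, rfl⟩ : ∃ r, q = r + 1 := ⟨q - 1, by omega⟩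
    rw [Nat.add_sub_cancel]
    ring_nf
    omega
  have key : ∀ x : G, x ∈ vee P → x ≠ 1 → ∃ g ∈ P, g * c * g⁻¹ = x := by
    intro x hx hx1
    obtain ⟨y, hy⟩ := heq.ge ⟨hx, hx1⟩
    induction y using QuotientGroup.induction_on with
    | H g => exact ⟨g, g.2, hy⟩
  obtain ⟨g, hg, rfl⟩ := key a ha ha1
  obtain ⟨g', hg', rfl⟩ := key b hb hb1
  exact ⟨g' * g⁻¹, mul_mem hg' (inv_mem hg), by group⟩

theorem card_maxLocal_four (h : PairFacts S P Q 4) : Nat.card ↥P = 960 := by
  obtain ⟨F, _, _, hF, hiso⟩ := h.shape_left.quot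
  haveI hn : ((rad P).subgroupOf P).Normal := normal_subgroupOf_of_le_normalizer (le_normalizer_rad P)
  obtain ⟨e⟩ := hiso hn
  rw [Subgroup.card_eq_card_quotient_mul_card_subgroup ((rad P).subgroupOf P), Nat.card_congr e.toEquiv,
    Nat.card_congr (subgroupOfEquivOfLe (rad_le P)).toEquiv, h.rad_left, h.shape_left.card_vee,
    ClassSizePSL.card_psl_even (by rw [hF]; norm_num), hF]
  norm_num

theorem not_conj (hG : IsCIT G) (hFF : FFProvider G) (hP : IsMaxLocal P) (hQ : IsMaxLocal Q)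
    (h : PairFacts S P Q q) (g : G) : P.map (MulAut.conj g).toMonoidHom ≠ Q := by
  haveI : Fact (Nat.Prime 2) := ⟨Nat.prime_two⟩
  intro e
  let T : Sylow 2 G := S.mapSurjective (f := (MulAut.conj g).toMonoidHom) (MulAut.conj g).surjective
  have hTQ : (T : Subgroup G) ≤ Q := e ▸ map_mono h.le_left
  obtain ⟨x, hx⟩ := MulAction.exists_smul_eq ↥Q (T.subtype hTQ) (S.subtype h.le_right)
  have hx' : (T : Subgroup G).map (MulAut.conj (x : G)).toMonoidHom = (S : Subgroup G) := by
    ext y
    rw [Core.mem_map_conj]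
    constructor <;> intro hy
    · have hyQ : y ∈ Q := by
        have := Q.mul_mem (Q.mul_mem x.2 (hTQ hy)) (Q.inv_mem x.2)
        simpa [mul_assoc] using this
      have h1 : (⟨y, hyQ⟩ : ↥Q) ∈ ((x • T.subtype hTQ : Sylow 2 ↥Q) : Subgroup ↥Q) := by
        rw [Sylow.coe_subgroup_smul, Sylow.coe_subtype, mem_pointwise_smul_iff_inv_smul_mem]
        simpa [mem_subgroupOf, MulAut.smul_def] using hy
      rw [hx, Sylow.coe_subtype, mem_subgroupOf] at h1
      exact h1
    · have h1 : (⟨y, h.le_right hy⟩ : ↥Q) ∈ ((x • T.subtype hTQ : Sylow 2 ↥Q) : Subgroup ↥Q) := by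
        rw [hx, Sylow.coe_subtype, mem_subgroupOf]; exact hy
      rw [Sylow.coe_subgroup_smul, Sylow.coe_subtype, mem_pointwise_smul_iff_inv_smul_mem] at h1
      simpa [mem_subgroupOf, MulAut.smul_def] using h1
  have hxg : (x : G) * g ∈ normalizer ((S : Subgroup G) : Set G) := by
    refine Core.mem_normalizer_iff_map_conj.2 ?_
    rw [Core.map_conj_mul]
    exact hx'
  have h1 := Core.map_conj_eq_of_mem_normalizer (le_normalizer (normalizer_le hG hFF hP hQ h hxg).1)
  rw [Core.map_conj_mul, e, Core.map_conj_eq_of_mem_normalizer (le_normalizer x.2)] at h1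
  exact h.ne (by rw [h1])

theorem unique_left (hG : IsCIT G) (hFF : FFProvider G) (hP : IsMaxLocal P) (hQ : IsMaxLocal Q)
    (h : PairFacts S P Q q) {g : G}
    (hg : (S : Subgroup G) ≤ P.map (MulAut.conj g).toMonoidHom) : g ∈ P :=
  hP.normalizer_self ▸ Core.mem_normalizer_iff_map_conj.2
    ((maxLocal_eq hG hFF hP hQ h (hP.map _) hg).resolve_right (not_conj hG hFF hP hQ h g))

theorem centralizer_vee (hG : IsCIT G) (hP : IsMaxLocal P) (h : PairFacts S P Q q) :
    centralizer (vee P : Set G) = vee P := by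
  conv_rhs => rw [← h.rad_left, ← IsMaxLocal.inf_centralizer_vee hG hP]
  exact (inf_eq_right.2 ((centralizer_le_normalizer _).trans hP.normalizer_vee.le)).symm

theorem card_normalizer (hG : IsCIT G) (hFF : FFProvider G) (hP : IsMaxLocal P) (hQ : IsMaxLocal Q)
    (h : PairFacts S P Q 4) : Nat.card ↥(normalizer ((S : Subgroup G) : Set G)) = 192 := by
  obtain ⟨K, t, hKN, hKc, -, hdec, -⟩ := h.shape_left.torus
  set N := normalizer ((S : Subgroup G) : Set G)
  have hK3 : Nat.card ↥K = 3 := by omega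
  let f : ↥(S : Subgroup G) × ↥K → ↥N := fun x =>
    ⟨(x.1 : G) * x.2, mul_mem (le_normalizer x.1.2) (hKN x.2.2).2⟩
  have hf : Function.Bijective f := by
    refine ⟨?_, fun n => ?_⟩
    · rintro ⟨s, k⟩ ⟨s', k'⟩ e
      have e' : (s : G) * k = s' * k' := congrArg Subtype.val e
      have hin : (s' : G)⁻¹ * s = k' * (k : G)⁻¹ := by
        calc (s' : G)⁻¹ * s = (s' : G)⁻¹ * (s * k) * (k : G)⁻¹ := by group
          _ = _ := by rw [e']; group
      have hs : (s' : G)⁻¹ * s ∈ (S : Subgroup G) := mul_mem (inv_mem s'.2) s.2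
      have h1 : (s' : G)⁻¹ * s = 1 := by
        refine eq_one_of_odd_two S.2 hs ?_
        rw [hin, ← Subgroup.coe_inv, ← Subgroup.coe_mul, orderOf_coe]
        exact (show Odd 3 by decide).of_dvd_nat (hK3 ▸ orderOf_dvd_natCard _)
      rw [h1, eq_comm, mul_inv_eq_one] at hin
      exact Prod.ext (Subtype.ext (inv_mul_eq_one.1 h1).symm) (Subtype.ext hin.symm)
    · obtain ⟨s, hs, k, hk, e⟩ := hdec n ⟨(normalizer_le hG hFF hP hQ h n.2).1, n.2⟩
      exact ⟨(⟨s, hs⟩, ⟨k, hk⟩), Subtype.ext e.symm⟩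
  rw [← Nat.card_congr (Equiv.ofBijective f hf), Nat.card_prod, h.card_sylow, hK3]
  norm_num

theorem exists_conj_base (hG : IsCIT G) (h : PairFacts S P Q 4) {a s : G} (ha : a ∈ vee P ⊓ vee Q)
    (ha1 : a ≠ 1) (hs : orderOf s = 2) : IsConj a s := by
  haveI : Fact (Nat.Prime 2) := ⟨Nat.prime_two⟩
  obtain ⟨T, hT⟩ := (IsPGroup.of_card (p := 2) (n := 1)
    (show Nat.card ↥(zpowers s) = 2 ^ 1 by rw [Nat.card_zpowers, hs, pow_one])).exists_le_sylow
  obtain ⟨g, hg⟩ := MulAction.exists_smul_eq G T S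
  have hmem : g * s * g⁻¹ ∈ (S : Subgroup G) := by
    rw [← hg, Sylow.coe_subgroup_smul, mem_pointwise_smul_iff_inv_smul_mem]
    simpa [MulAut.smul_def, mul_assoc] using hT (mem_zpowers s)
  have hs2 : (g * s * g⁻¹) ^ 2 = 1 := by rw [conj_pow, ← hs, pow_orderOf_eq_one]; group
  have hs1 : g * s * g⁻¹ ≠ 1 := fun e => by
    rw [mul_inv_eq_one, mul_eq_left] at e
    rw [e, orderOf_one] at hs
    exact absurd hs (by norm_num)
  refine IsConj.trans ?_ (isConj_iff.2 ⟨g⁻¹, by group⟩ : IsConj (g * s * g⁻¹) s)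
  rcases h.involution_mem hmem hs2 with hm | hm
  · obtain ⟨x, -, hx⟩ := h.trans_vee hG (by rw [h.card_maxLocal_four]; norm_num) ha.1 hm ha1 hs1
    exact isConj_iff.2 ⟨x, hx⟩
  · obtain ⟨x, -, hx⟩ := h.swap.trans_vee hG (by rw [h.swap.card_maxLocal_four]; norm_num) ha.2 hm ha1 hs1
    exact isConj_iff.2 ⟨x, hx⟩

/-- `q = 4` gives the plane configuration. -/
theorem planeConfig (hG : IsCIT G) (hFF : FFProvider G) (hP : IsMaxLocal P) (hQ : IsMaxLocal Q)
    (h : PairFacts S P Q 4) : PlaneConfig S P Q (vee P) (vee Q) where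
  le_P := h.le_left
  le_Q := h.le_right
  card_S := by rw [h.card_sylow]; norm_num
  card_P := h.card_maxLocal_four
  card_Q := h.swap.card_maxLocal_four
  norm_P := hP.normalizer_vee
  norm_Q := hQ.normalizer_vee
  self_P := hP.normalizer_self
  self_Q := hQ.normalizer_self
  card_VP := by rw [h.shape_left.card_vee]; norm_num
  card_VQ := by rw [h.shape_right.card_vee]; norm_num
  sq_VP := fun _ => vee_sq
  sq_VQ := fun _ => vee_sq
  le_VP := h.vee_left_le
  le_VQ := h.vee_right_le
  sup_eq := h.sup_eq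
  card_inf := h.card_inf
  involutions := fun t ht ht2 => h.involution_mem ht (by rw [← ht2, pow_orderOf_eq_one])
  center := fun z hz s hs => (h.commute_inf hz hs).symm.eq
  conjugate := fun s t hs ht => by
    obtain ⟨a, ha, ha1⟩ := h.exists_inf_ne_one
    exact (h.exists_conj_base hG ha ha1 hs).symm.trans (h.exists_conj_base hG ha ha1 ht)
  centralizer_eq := fun z hz hz1 => h.centralizer_inf hG hz hz1
  trans_VP := fun a ha b hb ha1 hb1 => h.trans_vee hG (by rw [h.card_maxLocal_four]; norm_num) ha hb ha1 hb1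
  trans_VQ := fun a ha b hb ha1 hb1 =>
    h.swap.trans_vee hG (by rw [h.swap.card_maxLocal_four]; norm_num) ha hb ha1 hb1
  cent_VP := h.centralizer_vee hG hP
  cent_VQ := h.swap.centralizer_vee hG hQ
  norm_S := normalizer_le hG hFF hP hQ h
  card_norm_S := card_normalizer hG hFF hP hQ h
  unique_P := fun _ => unique_left hG hFF hP hQ h
  unique_Q := fun _ => unique_left hG hFF hQ hP h.swap
  not_conj := not_conj hG hFF hP hQ h

end PairFacts

end Cfsg.Lib.CIT
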