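import Cfsg.Agent.Lib.CIT.Main
import Cfsg.Agent.Lib.CIT.TIBranch
import Cfsg.Agent.Lib.CIT.Quot.Lift

/-!
The classification of simple CIT groups from the failure of factorization provider and the TI counting
theorem.
-/

set_option autoImplicit false

namespace Cfsg.Lib.CIT

open Subgroup
open Cfsg.Lib

universe u

/-- The list of simple CIT groups. -/
def CITList (G : Type u) [Group G] : Prop :=
  (∃ (F : Type) (_ : Field F) (_ : Fintype F),
      (Fintype.card F = 9 ∨ (∃ n : ℕ, Fintype.card F = 2 ^ n) ∨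
        ((Fintype.card F).Prime ∧ ∃ k : ℕ, Fintype.card F = 2 ^ k + 1 ∨ Fintype.card F + 1 = 2 ^ k)) ∧
      Nonempty (G ≃* Matrix.ProjectiveSpecialLinearGroup (Fin 2) F)) ∨
    IsoPSLThreeFour G ∨ Cfsg.IsSuzuki G

theorem citList_of_trichotomy (hti : TIHolds.{u}) {G : Type u} [Group G] [Finite G] [IsSimpleGroup G]
    (hna : ¬ IsMulCommutative G) (hG : IsCIT G) (h : Trichotomy G) : CITList G := by
  have hpsl : (∃ (F : Type) (_ : Field F) (_ : Fintype F),
      Nonempty (G ≃* Matrix.ProjectiveSpecialLinearGroup (Fin 2) F)) → CITList G :=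
    fun ⟨F, i, j, ⟨e⟩⟩ => Or.inl ⟨F, i, j, psl_list hna hG e, ⟨e⟩⟩
  rcases h with h | h | h
  · exact (of_sylowTI hti hna hG h).elim hpsl fun hs => Or.inr (Or.inr hs)
  · exact hpsl (psl_of_dihedral hna hG h)
  · exact Or.inr (Or.inl h)

theorem zassenhausHolds (hti : TIHolds.{u}) : ZassenhausHolds.{u} := fun Y _ _ _ H hD => by
  obtain ⟨E, t, hE⟩ := hti Y H hD
  exact zassenhaus_of_shape hD hE

theorem ffHolds (hti : TIHolds.{u}) : FFHolds.{u} := by
  intro G _ _ _ _ hG hK M T A hM hT hA hAR h2 hle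
  exact ffShape_of hG hK hti (zassenhausHolds hti) hM hT hA hAR (fun a ha => (h2 a ha).1) hle

/-- The simple CIT groups, given the TI counting theorem. -/
theorem citList (hti : TIHolds.{u}) {G : Type u} [Group G] [Finite G] [IsSimpleGroup G]
    (hna : ¬ IsMulCommutative G) (hG : IsCIT G) : CITList G :=
  citList_of_trichotomy hti hna hG
    (trichotomy (ffHolds hti) (Nat.card G + 1) G hna hG (Nat.lt_succ_self _))

end Cfsg.Lib.CIT
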