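import Mathlib
import Cfsg.Prelude.Def_CaseTheorems
import Cfsg.Prelude.Def_JComponents
import Cfsg.Prelude.Def_LieExceptional

/-!
Shared definitions for the classification of the simple groups in which every involution
centralizer is a 2-group (see `notes/cit_lead.md`). Only definitions live here.
-/

set_option autoImplicit false

namespace Cfsg.Lib.CIT

universe u

variable {G : Type u} [Group G]

/-- Every involution centralizer is a 2-group. -/
def IsCIT (G : Type u) [Group G] : Prop :=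
  ∀ t : G, orderOf t = 2 → IsPGroup 2 (Subgroup.centralizer ({t} : Set G))

/-- Any two different Sylow 2-subgroups meet trivially. -/
def SylowTI (G : Type u) [Group G] : Prop :=
  ∀ S T : Sylow 2 G, S ≠ T → (S : Subgroup G) ⊓ (T : Subgroup G) = ⊥

/-- The Sylow 2-subgroups are dihedral of order at least 8. -/
def HasDihedralSylow (G : Type u) [Group G] : Prop :=
  ∀ S : Sylow 2 G, ∃ k : ℕ, 2 ≤ k ∧ Nonempty ((S : Subgroup G) ≃* DihedralGroup (2 ^ k))

/-- Isomorphic to `PSL(3, 4)`. -/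
def IsoPSLThreeFour (G : Type u) [Group G] : Prop :=
  ∃ (F : Type) (_ : Field F) (_ : Fintype F),
    Fintype.card F = 4 ∧ Nonempty (G ≃* Matrix.ProjectiveSpecialLinearGroup (Fin 3) F)

/-- The three possibilities for a simple CIT group. -/
def Trichotomy (G : Type u) [Group G] : Prop :=
  SylowTI G ∨ HasDihedralSylow G ∨ IsoPSLThreeFour G

/-- Induction hypothesis: the trichotomy holds for the simple CIT groups of order `< n`. -/
def SmallerKnown (n : ℕ) : Prop :=
  ∀ (N : Type u) [Group N] [Finite N] [IsSimpleGroup N], ¬ IsMulCommutative N → IsCIT N →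
    Nat.card N < n → Trichotomy N

/-- `M` has at least two Sylow 2-subgroups. -/
def Nonclosed (M : Subgroup G) : Prop := ∃ P Q : Sylow 2 ↥M, P ≠ Q

/-- A 2-local subgroup with at least two Sylow 2-subgroups. -/
def IsNCLocal (M : Subgroup G) : Prop := Cfsg.IsTwoLocal M ∧ Nonclosed M

/-- A maximal element among the 2-locals with at least two Sylow 2-subgroups. -/
def IsMaxLocal (M : Subgroup G) : Prop :=
  IsNCLocal M ∧ ∀ N : Subgroup G, IsNCLocal N → M ≤ N → N = M

/-- `O_2(M)` inside `G`. -/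
noncomputable def rad (M : Subgroup G) : Subgroup G := Cfsg.pCoreOf 2 M

/-- `Ω_1(Z(O_2(M)))`. -/
noncomputable def vee (M : Subgroup G) : Subgroup G := Cfsg.omegaCenterOf (rad M)

/-- The shape of a maximal local `M` (Sylow 2-subgroup `T`) which has a failure of factorization
on `vee M`: with `W = vee M ⊓ C(T)` of order `q`, `|vee M| = q ^ 2`, `|T : rad M| = q`. -/
structure FFShape (M T : Subgroup G) (q : ℕ) : Prop where
  two_le : 2 ≤ q
  pow_two : ∃ n : ℕ, q = 2 ^ n
  card_vee : Nat.card ↥(vee M) = q ^ 2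
  rel_index : (rad M).relIndex T = q
  sq_mem : ∀ s ∈ T, s ^ 2 ∈ rad M
  card_fix : Nat.card ↥(vee M ⊓ Subgroup.centralizer (T : Set G)) = q
  fix_eq : ∀ u ∈ T, u ∉ rad M →
    vee M ⊓ Subgroup.centralizer ({u} : Set G) = vee M ⊓ Subgroup.centralizer (T : Set G)
  comm_mem : ∀ v ∈ vee M, ∀ s ∈ T, v⁻¹ * (s⁻¹ * v * s) ∈ vee M ⊓ Subgroup.centralizer (T : Set G)
  quot : ∃ (F : Type) (_ : Field F) (_ : Fintype F), Fintype.card F = q ∧
    ∀ (_ : ((rad M).subgroupOf M).Normal),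
      Nonempty (↥M ⧸ (rad M).subgroupOf M ≃* Matrix.ProjectiveSpecialLinearGroup (Fin 2) F)
  torus : ∃ (K : Subgroup G) (t : G), K ≤ M ⊓ Subgroup.normalizer (T : Set G) ∧
    Nat.card ↥K + 1 = q ∧ IsMulCommutative ↥K ∧
    (∀ n ∈ M ⊓ Subgroup.normalizer (T : Set G), ∃ s ∈ T, ∃ k ∈ K, n = s * k) ∧
    t ∈ M ∧ orderOf t = 2 ∧ t ∉ Subgroup.normalizer (T : Set G) ∧
    (∀ k ∈ K, t * k * t⁻¹ = k⁻¹) ∧
    (∃ u ∈ T, u ∉ rad M ∧ (u * t) ^ 3 ∈ rad M)

/-- Hypotheses of the TI counting theorem: `H` is a nilpotent-like Hall TI subgroup of even order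
containing the centralizer of each of its non-identity elements. -/
structure TIData (H : Subgroup G) : Prop where
  proper : Subgroup.normalizer (H : Set G) ≠ ⊤
  hall : (Nat.card ↥H).Coprime H.index
  ti : ∀ g : G, g ∉ Subgroup.normalizer (H : Set G) → H ⊓ H.map (MulAut.conj g).toMonoidHom = ⊥
  cent : ∀ h ∈ H, h ≠ 1 → Subgroup.centralizer ({h} : Set G) ≤ H
  central : ∃ z ∈ H, orderOf z = 2 ∧ ∀ h ∈ H, h * z = z * h
  two_involutions : ∃ a ∈ H, ∃ b ∈ H, orderOf a = 2 ∧ orderOf b = 2 ∧ a ≠ b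

/-- Conclusion of the TI counting theorem. -/
structure TIShape (H E : Subgroup G) (t : G) : Prop where
  le_normalizer : E ≤ Subgroup.normalizer (H : Set G)
  card_eq : Nat.card ↥E = Nat.card {a : G // a ∈ H ∧ orderOf a = 2}
  inf_eq : H ⊓ E = ⊥
  sup_eq : H ⊔ E = Subgroup.normalizer (H : Set G)
  regular : ∀ a ∈ H, ∀ b ∈ H, orderOf a = 2 → orderOf b = 2 → ∃! e : ↥E, (e : G) * a * (e : G)⁻¹ = b
  comm : IsMulCommutative ↥E
  order_t : orderOf t = 2
  not_mem : t ∉ Subgroup.normalizer (H : Set G)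
  inverts : ∀ e ∈ E, t * e * t⁻¹ = e⁻¹
  index_eq : (Subgroup.normalizer (H : Set G)).index = Nat.card ↥H + 1
  decomp : ∀ g : G, g ∉ Subgroup.normalizer (H : Set G) →
    ∃ h ∈ H, ∃ n ∈ Subgroup.normalizer (H : Set G), g = h * t * n
  cube : (∀ h ∈ H, h ^ 2 = 1) → ∃ u ∈ H, u ≠ 1 ∧ (u * t) ^ 3 = 1

end Cfsg.Lib.CIT
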