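import Cfsg.Agent.Lib.CIT.Defs

/-!
The configuration at the end of the amalgam step (see `notes/cit_lead.md`, §6).
-/

set_option autoImplicit false

namespace Cfsg.Lib.CIT

universe u

variable {G : Type u} [Group G]

/-- Two point/line stabilizers `P`, `Q` over a common Sylow 2-subgroup `S`, of shape `2^4 : A_5`,
with `V_P V_Q = S`, in a group with all involution centralizers Sylow 2-subgroups. -/
structure PlaneConfig (S : Sylow 2 G) (P Q VP VQ : Subgroup G) : Prop where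
  le_P : (S : Subgroup G) ≤ P
  le_Q : (S : Subgroup G) ≤ Q
  card_S : Nat.card ↥(S : Subgroup G) = 64
  card_P : Nat.card ↥P = 960
  card_Q : Nat.card ↥Q = 960
  norm_P : Subgroup.normalizer (VP : Set G) = P
  norm_Q : Subgroup.normalizer (VQ : Set G) = Q
  self_P : Subgroup.normalizer (P : Set G) = P
  self_Q : Subgroup.normalizer (Q : Set G) = Q
  card_VP : Nat.card ↥VP = 16
  card_VQ : Nat.card ↥VQ = 16
  sq_VP : ∀ v ∈ VP, v ^ 2 = 1
  sq_VQ : ∀ v ∈ VQ, v ^ 2 = 1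
  le_VP : VP ≤ (S : Subgroup G)
  le_VQ : VQ ≤ (S : Subgroup G)
  sup_eq : VP ⊔ VQ = (S : Subgroup G)
  card_inf : Nat.card ↥(VP ⊓ VQ) = 4
  involutions : ∀ t ∈ (S : Subgroup G), orderOf t = 2 → t ∈ VP ∨ t ∈ VQ
  center : ∀ z ∈ VP ⊓ VQ, ∀ s ∈ (S : Subgroup G), s * z = z * s
  conjugate : ∀ s t : G, orderOf s = 2 → orderOf t = 2 → IsConj s t
  centralizer_eq : ∀ z ∈ VP ⊓ VQ, z ≠ 1 → Subgroup.centralizer ({z} : Set G) = (S : Subgroup G)
  trans_VP : ∀ a ∈ VP, ∀ b ∈ VP, a ≠ 1 → b ≠ 1 → ∃ g ∈ P, g * a * g⁻¹ = b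
  trans_VQ : ∀ a ∈ VQ, ∀ b ∈ VQ, a ≠ 1 → b ≠ 1 → ∃ g ∈ Q, g * a * g⁻¹ = b
  cent_VP : Subgroup.centralizer (VP : Set G) = VP
  cent_VQ : Subgroup.centralizer (VQ : Set G) = VQ
  norm_S : Subgroup.normalizer ((S : Subgroup G) : Set G) ≤ P ⊓ Q
  card_norm_S : Nat.card ↥(Subgroup.normalizer ((S : Subgroup G) : Set G)) = 192
  unique_P : ∀ g : G, (S : Subgroup G) ≤ P.map (MulAut.conj g).toMonoidHom → g ∈ P
  unique_Q : ∀ g : G, (S : Subgroup G) ≤ Q.map (MulAut.conj g).toMonoidHom → g ∈ Q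
  not_conj : ∀ g : G, P.map (MulAut.conj g).toMonoidHom ≠ Q

end Cfsg.Lib.CIT
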