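import Cfsg.Agent.Lib.CIT.Amalgam
import Cfsg.Agent.Lib.CIT.PlaneData
import Cfsg.Agent.Lib.ClassSizePSL.Values

/-!
The end of the amalgam step: `q = 2` (dihedral Sylow subgroups of order 8) or `q = 4` (the configuration
of `PSL(3, 4)`); see `notes/cit_lead.md`, §5.
-/

set_option autoImplicit false
set_option linter.style.haveILetI false

namespace Cfsg.Lib.CIT

open Subgroup
open Cfsg.Lib

universe u

variable {G : Type u} [Group G] [Finite G] {S : Sylow 2 G} {P Q : Subgroup G} {q : ℕ}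

theorem eq_one_of_mem_conj (hG : IsCIT G) {W : Subgroup G}
    (hW : ∀ w ∈ W, w ≠ 1 → centralizer ({w} : Set G) = (S : Subgroup G)) {t : G}
    (ht : t ∉ normalizer ((S : Subgroup G) : Set G)) {w : G} (hw : w ∈ W) (hw' : t * w * t⁻¹ ∈ W) :
    w = 1 := by
  by_contra h1
  refine ht (Core.mem_normalizer_iff_map_conj.2 ?_)
  have h2 : centralizer ({t * w * t⁻¹} : Set G) = (S : Subgroup G) :=
    hW _ hw' fun h => h1 (by rwa [mul_inv_eq_one, mul_eq_left] at h)
  rw [← hW w hw h1]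
  conv_rhs => rw [hW w hw h1, ← h2]
  ext x
  rw [Core.mem_map_conj, mem_centralizer_singleton_iff, mem_centralizer_singleton_iff]
  constructor <;> intro h
  · calc x * (t * w * t⁻¹) = t * (t⁻¹ * x * t * w) * t⁻¹ := by group
      _ = t * (w * (t⁻¹ * x * t)) * t⁻¹ := by rw [h]
      _ = t * w * t⁻¹ * x := by group
  · calc t⁻¹ * x * t * w = t⁻¹ * (x * (t * w * t⁻¹)) * t := by group
      _ = t⁻¹ * (t * w * t⁻¹ * x) * t := by rw [h]
      _ = w * (t⁻¹ * x * t) := by group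

namespace PairFacts

theorem swap (h : PairFacts S P Q q) : PairFacts S Q P q :=
  ⟨h.le_right, h.le_left, h.shape_right, h.shape_left, h.rad_right, h.rad_left,
    by rw [sup_comm]; exact h.sup_eq, by rw [inf_comm]; exact h.inf_right,
    by rw [inf_comm]; exact h.inf_left⟩

theorem vee_left_le (h : PairFacts S P Q q) : vee P ≤ (S : Subgroup G) :=
  h.sup_eq ▸ le_sup_left

theorem commute_inf (h : PairFacts S P Q q) {w s : G} (hw : w ∈ vee P ⊓ vee Q)
    (hs : s ∈ (S : Subgroup G)) : Commute w s :=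
  (mem_centralizer_iff.1 (h.inf_left.le hw).2 s hs).symm

theorem card_inf (h : PairFacts S P Q q) : Nat.card ↥(vee P ⊓ vee Q) = q := by
  rw [h.inf_left]; exact h.shape_left.card_fix

theorem card_sylow (h : PairFacts S P Q q) : Nat.card ↥(S : Subgroup G) = q ^ 3 := by
  rw [← Core.card_mul_relIndex h.vee_left_le, ← h.rad_left, h.shape_left.rel_index, h.rad_left,
    h.shape_left.card_vee]
  ring

theorem centralizer_inf (hG : IsCIT G) (h : PairFacts S P Q q) {w : G} (hw : w ∈ vee P ⊓ vee Q)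
    (hw1 : w ≠ 1) : centralizer ({w} : Set G) = (S : Subgroup G) :=
  S.3 (hG.isPGroup_centralizer ⟨1, by rw [pow_one]; exact vee_sq hw.1⟩ hw1)
    fun s hs => mem_centralizer_singleton_iff.2 (h.commute_inf hw hs).symm.eq

theorem mem_vee_of_commute (h : PairFacts S P Q q) {v s : G} (hv : v ∈ vee P)
    (hvW : v ∉ vee P ⊓ vee Q) (hs : s ∈ (S : Subgroup G)) (hc : Commute s v) : s ∈ vee P := by
  by_contra hsV
  refine hvW ?_
  rw [h.inf_left, ← h.shape_left.fix_eq s hs (by rwa [h.rad_left])]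
  exact ⟨hv, mem_centralizer_singleton_iff.2 hc.symm.eq⟩

theorem involution_mem (h : PairFacts S P Q q) {t : G} (ht : t ∈ (S : Subgroup G)) (ht2 : t ^ 2 = 1) :
    t ∈ vee P ∨ t ∈ vee Q := by
  have hn : vee Q ≤ normalizer (vee P : Set G) :=
    (h.sup_eq ▸ le_sup_right : vee Q ≤ (S : Subgroup G)).trans (h.le_left.trans (le_normalizer_vee P))
  obtain ⟨a, ha, v, hv, rfl⟩ :=
    (Core.mem_sup_of_le_normalizer hn).1 (by rw [sup_comm, h.sup_eq]; exact ht)
  by_cases hvW : v ∈ vee P ⊓ vee Q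
  · exact Or.inr ((vee Q).mul_mem ha hvW.2)
  left
  refine (vee P).mul_mem (h.mem_vee_of_commute hv hvW (h.sup_eq ▸ mem_sup_right ha) ?_) hv
  have ha2 : a * a = 1 := by rw [← pow_two]; exact vee_sq ha
  have hv2 : v * v = 1 := by rw [← pow_two]; exact vee_sq hv
  rw [pow_two] at ht2
  show a * v = v * a
  calc a * v = a * v * ((a * v) * (a * v))⁻¹ := by rw [ht2, inv_one, mul_one]
    _ = v⁻¹ * a⁻¹ := by group
    _ = v * a := by rw [inv_eq_of_mul_eq_one_right hv2, inv_eq_of_mul_eq_one_right ha2]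

/-- An elementary abelian subgroup of order `q²` of the Sylow subgroup is one of the two `vee`'s. -/
theorem eq_of_elementary (h : PairFacts S P Q q) {B : Subgroup G} (hB : B ≤ (S : Subgroup G))
    (hsq : ∀ b ∈ B, b ^ 2 = 1) (hc : Nat.card ↥B = q ^ 2) : B = vee P ∨ B = vee Q := by
  by_cases hP : B ≤ vee P
  · exact Or.inl (eq_of_le_of_card_ge hP (by rw [hc, h.shape_left.card_vee]))
  · right
    obtain ⟨b, hb, hbP⟩ := SetLike.not_le_iff_exists.1 hP
    have hbQ := (h.involution_mem (hB hb) (hsq b hb)).resolve_left hbP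
    refine eq_of_le_of_card_ge (fun c hc' => ?_) (by rw [hc, h.shape_right.card_vee])
    rcases h.involution_mem (hB hc') (hsq c hc') with hcP | hcQ
    · rcases h.involution_mem (hB (mul_mem hb hc')) (hsq _ (mul_mem hb hc')) with h1 | h1
      · exact absurd (by simpa using (vee P).mul_mem h1 ((vee P).inv_mem hcP)) hbP
      · simpa using (vee Q).mul_mem ((vee Q).inv_mem hbQ) h1
    · exact hcQ

theorem maxLocal_eq (hG : IsCIT G) (hFF : FFProvider G) (hP : IsMaxLocal P) (hQ : IsMaxLocal Q)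
    (h : PairFacts S P Q q) {L : Subgroup G} (hL : IsMaxLocal L) (hSL : (S : Subgroup G) ≤ L) :
    L = P ∨ L = Q := by
  haveI : Fact (Nat.Prime 2) := ⟨Nat.prime_two⟩
  have key : ∀ {P Q : Subgroup G} {q : ℕ}, IsMaxLocal P → IsMaxLocal Q → PairFacts S P Q q →
      ¬ vee P ≤ rad L → L = P ∨ L = Q := by
    intro P Q q hP hQ h hnot
    have hLS : vee L ≤ (S : Subgroup G) := (vee_le_rad L).trans (rad_le_sylow hSL)
    obtain ⟨S₂, q', hq'⟩ := pairFacts_of_mutual hG hFF hP hL h.le_left hSL hLS h.vee_left_le hnot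
    have hS₂ : S₂ = S := Sylow.ext (S₂.3 S.2
      (hq'.sup_eq ▸ sup_le h.vee_left_le hLS)).symm
    subst hS₂
    have hqq : q' = q := by
      have h1 := hq'.shape_left.card_vee
      rw [h.shape_left.card_vee] at h1
      exact (Nat.pow_left_injective (by norm_num) h1).symm
    rcases h.eq_of_elementary hLS (fun b hb => vee_sq hb) (by rw [hq'.shape_right.card_vee, hqq]) with e | e
    · exact Or.inl (by rw [← hL.normalizer_vee, ← hP.normalizer_vee, e])
    · exact Or.inr (by rw [← hL.normalizer_vee, ← hQ.normalizer_vee, e])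
  by_cases h1 : vee P ≤ rad L
  · by_cases h2 : vee Q ≤ rad L
    · exfalso
      have hRS : rad L = (S : Subgroup G) :=
        le_antisymm (rad_le_sylow hSL) (h.sup_eq ▸ sup_le h1 h2)
      obtain ⟨A, B, hAB⟩ := hL.1.2
      have hn : ((S : Subgroup G).subgroupOf L).Normal :=
        normal_subgroupOf_of_le_normalizer (hRS ▸ le_normalizer_rad L)
      haveI : Unique (Sylow 2 ↥L) := Sylow.unique_of_normal (S.subtype hSL) hn
      exact hAB (Subsingleton.elim _ _)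
    · exact (key hQ hP h.swap h2).symm
  · exact key hP hQ h h1

theorem ne (h : PairFacts S P Q q) : vee P ≠ vee Q := by
  intro e
  have h1 := h.card_sylow
  rw [← h.sup_eq, e, sup_idem, h.shape_right.card_vee] at h1
  have h2 := h.shape_left.two_le
  have h3 : q ^ 2 < q ^ 3 := Nat.pow_lt_pow_right (by omega) (by norm_num)
  omega

theorem normalizer_le (hG : IsCIT G) (hFF : FFProvider G) (hP : IsMaxLocal P) (hQ : IsMaxLocal Q)
    (h : PairFacts S P Q q) : normalizer ((S : Subgroup G) : Set G) ≤ P ⊓ Q := by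
  haveI : Fact (Nat.Prime 2) := ⟨Nat.prime_two⟩
  intro n hn
  have himg : ∀ {L : Subgroup G}, IsMaxLocal L → (S : Subgroup G) ≤ L →
      L.map (MulAut.conj n).toMonoidHom = P ∨ L.map (MulAut.conj n).toMonoidHom = Q := by
    intro L hL hSL
    refine maxLocal_eq hG hFF hP hQ h (hL.map _) ?_
    conv_lhs => rw [← Core.map_conj_eq_of_mem_normalizer hn]
    exact map_mono hSL
  have hPQ : P ≠ Q := fun e => h.ne (by rw [e])
  have inj := map_injective (f := (MulAut.conj n).toMonoidHom) (MulAut.conj n).injective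
  rcases himg hP h.le_left with h1 | h1
  · have h2 : Q.map (MulAut.conj n).toMonoidHom = Q :=
      (himg hQ h.le_right).resolve_left fun e => hPQ (inj (h1.trans e.symm))
    exact ⟨hP.normalizer_self ▸ Core.mem_normalizer_iff_map_conj.2 h1,
      hQ.normalizer_self ▸ Core.mem_normalizer_iff_map_conj.2 h2⟩
  · exfalso
    have h2 : Q.map (MulAut.conj n).toMonoidHom = P :=
      (himg hQ h.le_right).resolve_right fun e => hPQ (inj (h1.trans e.symm))
    have hpow : ∀ j : ℕ, P.map (MulAut.conj (n ^ (2 * j + 1))).toMonoidHom = Q := by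
      intro j
      induction j with
      | zero => simpa using h1
      | succ j ih =>
        rw [show 2 * (j + 1) + 1 = 1 + (1 + (2 * j + 1)) by ring, pow_add, pow_add, pow_one,
          Core.map_conj_mul, Core.map_conj_mul, ih, h2, h1]
    set N := normalizer ((S : Subgroup G) : Set G)
    haveI : ((S : Subgroup G).subgroupOf N).Normal := normal_subgroupOf_of_le_normalizer le_rfl
    have hodd : Odd ((S : Subgroup G).subgroupOf N).index :=
      (sylowTwoIn_of_sylow (M := N) le_normalizer).2.2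
    obtain ⟨j, hj⟩ := hodd
    have hmem : n ^ (2 * j + 1) ∈ (S : Subgroup G) := by
      have h3 : (⟨n, hn⟩ : ↥N) ^ (2 * j + 1) ∈ (S : Subgroup G).subgroupOf N := by
        rw [← hj]; exact pow_index_mem _ _
      simpa [mem_subgroupOf] using h3
    exact hPQ ((Core.map_conj_eq_of_mem_normalizer (le_normalizer (h.le_left hmem))).symm.trans (hpow j))

/-- `[a', u] = a` where `a' = t a t⁻¹`, from the relation `(u t) ^ 3 ∈ rad P`. -/
theorem rel (hG : IsCIT G) (h : PairFacts S P Q q) {u t : G} (hu : u ∈ (S : Subgroup G))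
    (ht : t ∈ P) (ht2 : orderOf t = 2) (htS : t ∉ normalizer ((S : Subgroup G) : Set G))
    (h3 : (u * t) ^ 3 ∈ rad P) {a : G} (ha : a ∈ vee P ⊓ vee Q) :
    u * (t * a * t⁻¹) * u⁻¹ = (t * a * t⁻¹) * a := by
  set V := vee P
  set W := vee P ⊓ vee Q
  have hti : t⁻¹ = t := inv_eq_self_of_two ht2
  have htt : t * t = 1 := by rw [← pow_two, ← ht2, pow_orderOf_eq_one]
  have htV : ∀ v ∈ V, t * v * t⁻¹ ∈ V := fun v hv => (mem_normalizer_iff.1 (le_normalizer_vee P ht) v).1 hv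
  have huV : ∀ v ∈ V, u * v * u⁻¹ ∈ V := fun v hv =>
    (mem_normalizer_iff.1 (le_normalizer_vee P (h.le_left hu)) v).1 hv
  have huW : ∀ w ∈ W, u * w * u⁻¹ = w := fun w hw => by
    rw [← (h.commute_inf hw hu).eq, mul_inv_cancel_right]
  have hγ : ∀ v ∈ V, v⁻¹ * (u * v * u⁻¹) ∈ W := fun v hv => by
    show _ ∈ vee P ⊓ vee Q
    rw [h.inf_left]
    simpa using h.shape_left.comm_mem v hv u⁻¹ (inv_mem hu)
  have hVc : ∀ {a b : G}, a ∈ V → b ∈ V → a * b = b * a := fun ha hb =>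
    (vee_commute ha (vee_le_rad P hb)).eq
  have hV2 : ∀ {v : G}, v ∈ V → v * v = 1 := fun hv => by rw [← pow_two]; exact vee_sq hv
  set x := u * t with hx
  have hxV : ∀ v ∈ V, x * v * x⁻¹ ∈ V := fun v hv => by
    rw [show x * v * x⁻¹ = u * (t * v * t⁻¹) * u⁻¹ by rw [hx]; group]
    exact huV _ (htV v hv)
  have hx3 : ∀ v ∈ V, x ^ 3 * v * (x ^ 3)⁻¹ = v := fun v hv => by
    rw [← (vee_commute hv h3).eq, mul_inv_cancel_right]
  have hy : x ^ 2 ≠ 1 := by
    intro e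
    have hxr : x ∈ rad P := by
      rw [pow_succ, e, one_mul] at h3
      exact h3
    refine htS (le_normalizer ?_)
    have : t = u⁻¹ * x := by rw [hx]; group
    rw [this]
    exact mul_mem (inv_mem hu) (rad_le_sylow h.le_left hxr)
  have hy3 : (x ^ 2) ^ 3 = 1 := by
    rw [← pow_mul, show 2 * 3 = 3 * 2 from rfl, pow_mul]
    exact vee_sq (h.rad_left ▸ h3)
  have hyo : Odd (orderOf (x ^ 2)) :=
    (show Odd 3 by decide).of_dvd_nat (orderOf_dvd_of_pow_eq_one hy3)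
  have haV : a ∈ V := ha.1
  set b := x * a * x⁻¹ with hb
  set c := x * b * x⁻¹ with hc
  have hbV : b ∈ V := hxV a haV
  have hcV : c ∈ V := hxV b hbV
  have hfix : x * (a * b * c) * x⁻¹ = a * b * c := by
    have h4 : x * c * x⁻¹ = a := by
      calc x * c * x⁻¹ = x ^ 3 * a * (x ^ 3)⁻¹ := by
            rw [hc, hb]; simp only [pow_succ, pow_zero, one_mul, mul_inv_rev, mul_assoc]
        _ = a := hx3 a haV
    calc x * (a * b * c) * x⁻¹ = b * c * (x * c * x⁻¹) := by rw [hc, hb]; group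
      _ = a * b * c := by rw [h4, hVc (mul_mem hbV hcV) haV, ← mul_assoc]
  have hone : a * b * c = 1 := by
    refine hG.fpf (isPGroup_vee P) hy hyo (mul_mem (mul_mem haV hbV) hcV) (Commute.pow_left ?_ 2)
    exact mul_inv_eq_iff_eq_mul.1 hfix
  set a' := t * a * t⁻¹ with ha'
  set g := a'⁻¹ * (u * a' * u⁻¹) with hg
  have hgW : g ∈ W := hγ a' (htV a haV)
  set g' := t * g * t⁻¹ with hg'
  set g₂ := g'⁻¹ * (u * g' * u⁻¹) with hg₂
  have hg₂W : g₂ ∈ W := hγ g' (htV g hgW.1)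
  have hbeq : b = a' * g := by rw [hb, hg, hx, ha']; group
  have hceq : c = a * (g' * g₂) := by
    calc c = (u * (t * a' * t⁻¹) * u⁻¹) * (u * (t * g * t⁻¹) * u⁻¹) := by
          rw [hc, hbeq, hx]; group
      _ = (u * a * u⁻¹) * (g' * g₂) := by
          have e1 : t * a' * t⁻¹ = a := by
            rw [ha', hti, show t * (t * a * t) * t = (t * t) * a * (t * t) by group, htt, one_mul,
              mul_one]
          rw [e1, hg₂, hg']; group
      _ = a * (g' * g₂) := by rw [huW a ha]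
  have hmix : a' * g' = (g * g₂)⁻¹ := by
    have haa : a * a = 1 := hV2 haV
    rw [hbeq, hceq] at hone
    have : a' * g * (g' * g₂) = 1 := by
      calc a' * g * (g' * g₂) = (a * a) * (a' * g * (g' * g₂)) := by rw [haa, one_mul]
        _ = a * (a * (a' * g)) * (g' * g₂) := by group
        _ = a * ((a' * g) * a) * (g' * g₂) := by rw [hVc haV (mul_mem (htV a haV) hgW.1)]
        _ = a * (a' * g) * (a * (g' * g₂)) := by group
        _ = 1 := hone
    refine eq_inv_of_mul_eq_one_left ?_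
    calc a' * g' * (g * g₂) = a' * (g' * g) * g₂ := by group
      _ = a' * (g * g') * g₂ := by rw [hVc (htV g hgW.1) hgW.1]
      _ = a' * g * (g' * g₂) := by group
      _ = 1 := this
  have hag : a * g = 1 := by
    refine eq_one_of_mem_conj hG (fun w hw h1 => h.centralizer_inf hG hw h1) htS (mul_mem ha hgW) ?_
    rw [show t * (a * g) * t⁻¹ = a' * g' by rw [ha', hg']; group, hmix]
    exact inv_mem (mul_mem hgW hg₂W)
  have hga : g = a := by rw [← inv_eq_of_mul_eq_one_right hag, inv_eq_of_mul_eq_one_right (hV2 haV)]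
  calc u * a' * u⁻¹ = a' * g := by rw [hg]; group
    _ = a' * a := by rw [hga]

theorem q_le_four (hG : IsCIT G) (hFF : FFProvider G) (hP : IsMaxLocal P) (hQ : IsMaxLocal Q)
    (h : PairFacts S P Q q) : q ≤ 4 := by
  classical
  by_contra hlt
  obtain ⟨K, t, hKN, hKcard, hKc, -, htP, ht2, htN, htinv, u, huS, huR, hu3⟩ := h.shape_left.torus
  obtain ⟨K', t', hK'N, -, -, hdec', ht'Q, ht'2, ht'N, ht'inv, -⟩ := h.shape_right.torus
  set V := vee P
  set W := vee P ⊓ vee Q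
  obtain ⟨n, hn⟩ := h.shape_left.pow_two
  have hn1 : n ≠ 0 := by rintro rfl; simp at hn; omega
  have hKodd : Odd (Nat.card ↥K) := by
    have : Even q := hn ▸ (Nat.even_pow.2 ⟨even_two, hn1⟩)
    rw [← hKcard, Nat.even_add_one, Nat.not_even_iff_odd] at this
    exact this
  have hKn : ∀ k ∈ K, k ∈ normalizer ((S : Subgroup G) : Set G) := fun k hk => (hKN hk).2
  have hKQ : ∀ k ∈ K, k ∈ Q := fun k hk => (normalizer_le hG hFF hP hQ h (hKn k hk)).2
  have hKW : ∀ k ∈ K, ∀ w ∈ W, k * w * k⁻¹ ∈ W := fun k hk w hw =>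
    ⟨(mem_normalizer_iff.1 (le_normalizer_vee P (hKN hk).1) w).1 hw.1,
      (mem_normalizer_iff.1 (le_normalizer_vee Q (hKQ k hk)) w).1 hw.2⟩
  have hWc : ∀ {a b : G}, a ∈ W → b ∈ W → a * b = b * a := fun ha hb =>
    (vee_commute ha.1 (vee_le_rad P hb.1)).eq
  have hW2 : ∀ {w : G}, w ∈ W → w * w = 1 := fun hw => by rw [← pow_two]; exact vee_sq hw.1
  have hKcomm : ∀ {j k : G}, j ∈ K → k ∈ K → j * k = k * j := fun {j k} hj hk =>
    congrArg Subtype.val (hKc.is_comm.comm (⟨j, hj⟩ : ↥K) ⟨k, hk⟩)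
  have hKsemi : ∀ k ∈ K, ∀ w ∈ W, w ≠ 1 → k * w * k⁻¹ = w → k = 1 := by
    intro k hk w hw hw1 he
    have hkS : k ∈ (S : Subgroup G) := by
      rw [← h.centralizer_inf hG hw hw1, mem_centralizer_singleton_iff]
      exact mul_inv_eq_iff_eq_mul.1 he
    refine eq_one_of_odd_two S.2 hkS (hKodd.of_dvd_nat ?_)
    have := orderOf_dvd_natCard (⟨k, hk⟩ : ↥K)
    rwa [← orderOf_coe] at this
  obtain ⟨a₀, ha₀, ha₀1⟩ := (bot_or_exists_ne_one W).resolve_left fun e => by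
    have := h.card_inf
    rw [show vee P ⊓ vee Q = (⊥ : Subgroup G) from e, card_bot] at this
    omega
  have horb : ∀ w ∈ W, w ≠ 1 → ∃ k ∈ K, k * a₀ * k⁻¹ = w := by
    intro w hw hw1
    let f : ↥K → {x : ↥W // x ≠ 1} := fun k => ⟨⟨_, hKW k k.2 a₀ ha₀⟩, fun e => ha₀1 (by
      have e' : (k : G) * a₀ * (k : G)⁻¹ = 1 := congrArg Subtype.val e
      rwa [mul_inv_eq_one, mul_eq_left] at e')⟩
    have hinj : Function.Injective f := by
      intro j k e
      have e' : (j : G) * a₀ * (j : G)⁻¹ = (k : G) * a₀ * (k : G)⁻¹ :=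
        congrArg (fun x => ((x.1 : ↥W) : G)) e
      have := hKsemi ((k : G)⁻¹ * j) (mul_mem (inv_mem k.2) j.2) a₀ ha₀ ha₀1 (by
        calc (k : G)⁻¹ * j * a₀ * ((k : G)⁻¹ * j)⁻¹ = (k : G)⁻¹ * ((j : G) * a₀ * (j : G)⁻¹) * k := by group
          _ = a₀ := by rw [e']; group)
      exact Subtype.ext (inv_mul_eq_one.1 this).symm
    haveI : Fintype ↥W := Fintype.ofFinite ↥W
    have hcard : Nat.card {x : ↥W // x ≠ 1} + 1 = q := by
      rw [Nat.card_eq_fintype_card, Fintype.card_subtype_compl, Fintype.card_subtype_eq,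
        ← Nat.card_eq_fintype_card, h.card_inf]
      omega
    obtain ⟨k, hk⟩ := ((Nat.bijective_iff_injective_and_card f).2 ⟨hinj, by omega⟩).2
      ⟨⟨w, hw⟩, fun e => hw1 (congrArg Subtype.val e)⟩
    exact ⟨k, k.2, congrArg (fun x => ((x.1 : ↥W) : G)) hk⟩
  -- the pairing with `t a₀ t⁻¹`
  set a' := t * a₀ * t⁻¹ with ha'
  have ha'V : a' ∈ V := (mem_normalizer_iff.1 (le_normalizer_vee P htP) a₀).1 ha₀.1
  have htS : t ∉ normalizer ((S : Subgroup G) : Set G) := htN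
  have ha'W : a' ∉ W := fun hm =>
    ha₀1 (eq_one_of_mem_conj hG (fun w hw h1 => h.centralizer_inf hG hw h1) htS ha₀ hm)
  set φ : G → G := fun x => a' * (x * a' * x⁻¹) with hφdef
  have hφW : ∀ x ∈ (S : Subgroup G), φ x ∈ W := fun x hx => by
    show _ ∈ vee P ⊓ vee Q
    rw [h.inf_left]
    have h1 := h.shape_left.comm_mem a' ha'V x⁻¹ (inv_mem hx)
    rw [inv_inv, inv_eq_of_mul_eq_one_right
      (show a' * a' = 1 by rw [← pow_two]; exact vee_sq ha'V)] at h1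
    exact h1
  have hφmul : ∀ x ∈ (S : Subgroup G), ∀ y ∈ (S : Subgroup G), φ (x * y) = φ x * φ y := by
    intro x hx y hy
    have h1 : y * a' * y⁻¹ = a' * φ y := by
      rw [hφdef]
      simp only [← mul_assoc, show a' * a' = 1 by rw [← pow_two]; exact vee_sq ha'V, one_mul]
    calc φ (x * y) = a' * (x * (y * a' * y⁻¹) * x⁻¹) := by rw [hφdef]; group
      _ = a' * (x * a' * (φ y * x⁻¹)) := by rw [h1]; group
      _ = a' * (x * a' * (x⁻¹ * φ y)) := by rw [(h.commute_inf (hφW y hy) (inv_mem hx)).eq]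
      _ = φ x * φ y := by rw [hφdef]; group
  have hφV : ∀ x ∈ V, φ x = 1 := fun x hx => by
    show a' * (x * a' * x⁻¹) = 1
    rw [← (vee_commute ha'V (vee_le_rad P hx)).eq, mul_inv_cancel_right, ← pow_two]
    exact vee_sq ha'V
  have hφker : ∀ x ∈ (S : Subgroup G), φ x = 1 → x ∈ V := fun x hx e => by
    refine h.mem_vee_of_commute ha'V ha'W hx ?_
    have h2 : x * a' * x⁻¹ = a' := mul_left_cancel (e.trans
      (show a' * a' = 1 by rw [← pow_two]; exact vee_sq ha'V).symm)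
    exact mul_inv_eq_iff_eq_mul.1 h2
  have hconjS : ∀ k ∈ K, ∀ x ∈ (S : Subgroup G), k * x * k⁻¹ ∈ (S : Subgroup G) := fun k hk x hx =>
    (mem_normalizer_iff.1 (hKn k hk) x).1 hx
  have hφu : ∀ k ∈ K, φ (k * u * k⁻¹) = k * (k * a₀ * k⁻¹) * k⁻¹ := by
    intro k hk
    have hb := h.rel hG huS htP ht2 htS hu3 (hKW k hk a₀ ha₀)
    have htk : t * k⁻¹ = k * t := by
      have e := htinv k⁻¹ (inv_mem hk)
      rw [inv_inv] at e
      exact mul_inv_eq_iff_eq_mul.1 e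
    have e1 : t * (k * a₀ * k⁻¹) * t⁻¹ = k⁻¹ * a' * k := by
      have e := htinv k hk
      calc t * (k * a₀ * k⁻¹) * t⁻¹ = (t * k * t⁻¹) * (t * a₀ * t⁻¹) * (t * k * t⁻¹)⁻¹ := by group
        _ = k⁻¹ * a' * k := by rw [e, inv_inv]
    rw [e1] at hb
    calc φ (k * u * k⁻¹) = a' * (k * (u * (k⁻¹ * a' * k) * u⁻¹) * k⁻¹) := by rw [hφdef]; group
      _ = a' * (k * ((k⁻¹ * a' * k) * (k * a₀ * k⁻¹)) * k⁻¹) := by rw [hb]
      _ = (a' * a') * (k * (k * a₀ * k⁻¹) * k⁻¹) := by group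
      _ = k * (k * a₀ * k⁻¹) * k⁻¹ := by
          rw [show a' * a' = 1 by rw [← pow_two]; exact vee_sq ha'V, one_mul]
  -- squaring is onto
  have hsqrt : ∀ k ∈ K, ∃ j ∈ K, j * j = k := by
    intro k hk
    obtain ⟨m, hm⟩ := hKodd
    refine ⟨k ^ (m + 1), pow_mem hk _, ?_⟩
    rw [← pow_add, show m + 1 + (m + 1) = Nat.card ↥K + 1 by omega, pow_succ]
    have : (⟨k, hk⟩ : ↥K) ^ Nat.card ↥K = 1 := pow_card_eq_one'
    rw [show k ^ Nat.card ↥K = 1 from congrArg Subtype.val this, one_mul]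
  have hφequiv : ∀ k ∈ K, ∀ y ∈ (S : Subgroup G),
      φ (k⁻¹ * y * k) = k⁻¹ * (k⁻¹ * φ y * k) * k := by
    intro k hk y hy
    have hky : k⁻¹ * y * k ∈ (S : Subgroup G) := by
      simpa using hconjS k⁻¹ (inv_mem hk) y hy
    by_cases hy1 : φ y = 1
    · rw [hy1, hφV _ (by
        simpa using (mem_normalizer_iff.1 (le_normalizer_vee P (inv_mem (hKN hk).1)) y).1 (hφker y hy hy1))]
      group
    · obtain ⟨j, hj, hjy⟩ := horb _ (hφW y hy) hy1
      obtain ⟨i, hi, rfl⟩ := hsqrt j hj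
      have hyu : y * (i * u * i⁻¹) ∈ V := by
        refine hφker _ (mul_mem hy (hconjS i hi u huS)) ?_
        rw [hφmul y hy _ (hconjS i hi u huS), hφu i hi,
          show i * (i * a₀ * i⁻¹) * i⁻¹ = φ y by rw [← hjy]; group]
        exact hW2 (hφW y hy)
      have hki : k⁻¹ * i ∈ K := mul_mem (inv_mem hk) hi
      have h1 : φ ((k⁻¹ * y * k) * ((k⁻¹ * i) * u * (k⁻¹ * i)⁻¹)) = 1 := by
        refine hφV _ ?_
        rw [show (k⁻¹ * y * k) * ((k⁻¹ * i) * u * (k⁻¹ * i)⁻¹) = k⁻¹ * (y * (i * u * i⁻¹)) * k by group]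
        simpa using (mem_normalizer_iff.1 (le_normalizer_vee P (inv_mem (hKN hk).1)) _).1 hyu
      rw [hφmul _ hky _ (hconjS _ hki u huS), hφu _ hki] at h1
      rw [eq_inv_of_mul_eq_one_left h1, inv_eq_of_mul_eq_one_right (hW2 (hKW _ hki _ (hKW _ hki a₀ ha₀))),
        ← hjy]
      have e : k⁻¹ * i = i * k⁻¹ := hKcomm (inv_mem hk) hi
      have e2 : k⁻¹ * i * (k⁻¹ * i) = k⁻¹ * k⁻¹ * (i * i) := by
        calc k⁻¹ * i * (k⁻¹ * i) = k⁻¹ * (i * k⁻¹) * i := by group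
          _ = k⁻¹ * (k⁻¹ * i) * i := by rw [← e]
          _ = k⁻¹ * k⁻¹ * (i * i) := by group
      calc k⁻¹ * i * (k⁻¹ * i * a₀ * (k⁻¹ * i)⁻¹) * (k⁻¹ * i)⁻¹
          = (k⁻¹ * i * (k⁻¹ * i)) * a₀ * (k⁻¹ * i * (k⁻¹ * i))⁻¹ := by group
        _ = (k⁻¹ * k⁻¹ * (i * i)) * a₀ * (k⁻¹ * k⁻¹ * (i * i))⁻¹ := by rw [e2]
        _ = _ := by simp only [mul_inv_rev, inv_inv, mul_assoc]
  -- the twisted additive bijection
  have ht'S : t' ∉ normalizer ((S : Subgroup G) : Set G) := ht'N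
  have hAS : vee Q ≤ (S : Subgroup G) := h.sup_eq ▸ le_sup_right
  set Φ : G → G := fun a => φ (t' * a * t'⁻¹) with hΦdef
  have hθ : ∀ a ∈ W, t' * a * t'⁻¹ ∈ (S : Subgroup G) := fun a ha =>
    hAS ((mem_normalizer_iff.1 (le_normalizer_vee Q ht'Q) a).1 ha.2)
  have hΦW : ∀ a ∈ W, Φ a ∈ W := fun a ha => hφW _ (hθ a ha)
  have hΦmul : ∀ a ∈ W, ∀ b ∈ W, Φ (a * b) = Φ a * Φ b := fun a ha b hb => by
    rw [hΦdef]; dsimp only
    rw [show t' * (a * b) * t'⁻¹ = (t' * a * t'⁻¹) * (t' * b * t'⁻¹) by group]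
    exact hφmul _ (hθ a ha) _ (hθ b hb)
  have hΦk : ∀ k ∈ K, ∀ a ∈ W, Φ (k * a * k⁻¹) = k⁻¹ * (k⁻¹ * Φ a * k) * k := by
    intro k hk a ha
    obtain ⟨s, hs, k', hk', hks⟩ := hdec' k ⟨hKQ k hk, hKn k hk⟩
    have hk'a : k' * a * k'⁻¹ = k * a * k⁻¹ := by
      have hmem : k' * a * k'⁻¹ ∈ W := by
        have hk'P := normalizer_le hG hFF hP hQ h (hK'N hk').2
        exact ⟨(mem_normalizer_iff.1 (le_normalizer_vee P hk'P.1) a).1 ha.1,
          (mem_normalizer_iff.1 (le_normalizer_vee Q hk'P.2) a).1 ha.2⟩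
      rw [hks, show s * k' * a * (s * k')⁻¹ = s * (k' * a * k'⁻¹) * s⁻¹ by group,
        ← (h.commute_inf hmem hs).eq, mul_inv_cancel_right]
    set y := t' * a * t'⁻¹ with hy
    have hyS := hθ a ha
    have hsy : φ (s * y * s⁻¹) = φ y := by
      rw [hφmul _ (mul_mem hs hyS) _ (inv_mem hs), hφmul _ hs _ hyS, hWc (hφW _ hs) (hφW _ hyS),
        mul_assoc, ← hφmul _ hs _ (inv_mem hs), mul_inv_cancel, hφV 1 (one_mem _), mul_one]
    show φ (t' * (k * a * k⁻¹) * t'⁻¹) = _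
    have e : t' * k' * t'⁻¹ = k'⁻¹ := ht'inv k' hk'
    rw [← hk'a, show t' * (k' * a * k'⁻¹) * t'⁻¹
        = (t' * k' * t'⁻¹) * y * (t' * k' * t'⁻¹)⁻¹ by rw [hy]; group, e, inv_inv,
      show k'⁻¹ * y * k' = k⁻¹ * (s * y * s⁻¹) * k by rw [hks]; group,
      hφequiv k hk _ (mul_mem (mul_mem hs hyS) (inv_mem hs)), hsy]
  have hΦa₀ : Φ a₀ ≠ 1 := by
    intro e
    refine ha₀1 (eq_one_of_mem_conj hG (fun w hw h1 => h.centralizer_inf hG hw h1) ht'S ha₀ ?_)
    exact ⟨hφker _ (hθ a₀ ha₀) e, (mem_normalizer_iff.1 (le_normalizer_vee Q ht'Q) a₀).1 ha₀.2⟩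
  -- arithmetic in `K`
  have hext : ∀ {i j : G}, i ∈ K → j ∈ K → ∀ {c : G}, c ∈ W → c ≠ 1 →
      c * (i * c * i⁻¹) = j * c * j⁻¹ → ∀ b ∈ W, b * (i * b * i⁻¹) = j * b * j⁻¹ := by
    intro i j hi hj c hc hc1 he b hb
    by_cases hb1 : b = 1
    · subst hb1; group
    obtain ⟨k, hk, rfl⟩ := horb b hb hb1
    obtain ⟨m, hm, rfl⟩ := horb c hc hc1
    have hkm : k * m⁻¹ ∈ K := mul_mem hk (inv_mem hm)
    have h1 : k * a₀ * k⁻¹ = (k * m⁻¹) * (m * a₀ * m⁻¹) * (k * m⁻¹)⁻¹ := by group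
    have conj_comm : ∀ {l : G}, l ∈ K → ∀ z : G,
        l * ((k * m⁻¹) * z * (k * m⁻¹)⁻¹) * l⁻¹ = (k * m⁻¹) * (l * z * l⁻¹) * (k * m⁻¹)⁻¹ := by
      intro l hl z
      calc l * ((k * m⁻¹) * z * (k * m⁻¹)⁻¹) * l⁻¹
          = (l * (k * m⁻¹)) * z * (l * (k * m⁻¹))⁻¹ := by group
        _ = ((k * m⁻¹) * l) * z * ((k * m⁻¹) * l)⁻¹ := by rw [hKcomm hl hkm]
        _ = _ := by group
    rw [h1, conj_comm hi, conj_comm hj, ← he]
    group
  have key : ∀ k ∈ K, k ≠ 1 → ∀ b ∈ W, b * (k * b * k⁻¹) = k * (k * b * k⁻¹) * k⁻¹ := by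
    intro k hk hk1
    have hne : a₀ * (k * a₀ * k⁻¹) ≠ 1 := fun e => hk1 (hKsemi k hk a₀ ha₀ ha₀1
      (mul_left_cancel (e.trans (hW2 ha₀).symm)))
    obtain ⟨j, hj, hja⟩ := horb _ (mul_mem ha₀ (hKW k hk a₀ ha₀)) hne
    have A1 : ∀ b ∈ W, b * (k * b * k⁻¹) = j * b * j⁻¹ := hext hk hj ha₀ ha₀1 hja.symm
    have A2 : ∀ b ∈ W, b * (k⁻¹ * (k⁻¹ * b * k) * k) = j⁻¹ * (j⁻¹ * b * j) * j := by
      have e0 : Φ a₀ * (k⁻¹ * (k⁻¹ * Φ a₀ * k) * k) = j⁻¹ * (j⁻¹ * Φ a₀ * j) * j := by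
        rw [← hΦk k hk a₀ ha₀, ← hΦk j hj a₀ ha₀, ← hΦmul a₀ ha₀ _ (hKW k hk a₀ ha₀), hja]
      intro b hb
      have cc : ∀ x z : G, x⁻¹ * x⁻¹ * z * (x⁻¹ * x⁻¹)⁻¹ = x⁻¹ * (x⁻¹ * z * x) * x := fun x z => by
        simp only [mul_inv_rev, inv_inv, mul_assoc]
      have := hext (i := k⁻¹ * k⁻¹) (j := j⁻¹ * j⁻¹) (mul_mem (inv_mem hk) (inv_mem hk))
        (mul_mem (inv_mem hj) (inv_mem hj)) (hΦW a₀ ha₀) hΦa₀
        (by rw [cc, cc]; exact e0) b hb
      rw [cc, cc] at this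
      exact this
    have A3 : ∀ b ∈ W, b * (k * (k * b * k⁻¹) * k⁻¹) = j * (j * b * j⁻¹) * j⁻¹ := by
      intro b hb
      have hkb := hKW k hk b hb
      have hkk := hKW k hk _ hkb
      rw [← A1 b hb, show j * (b * (k * b * k⁻¹)) * j⁻¹
          = (j * b * j⁻¹) * (j * (k * b * k⁻¹) * j⁻¹) by group,
        ← A1 b hb, ← A1 _ hkb]
      calc b * (k * (k * b * k⁻¹) * k⁻¹)
          = b * ((k * b * k⁻¹) * (k * b * k⁻¹)) * (k * (k * b * k⁻¹) * k⁻¹) := by
            rw [hW2 hkb, mul_one]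
        _ = _ := by group
    have hkj : ∀ b ∈ W, j⁻¹ * (j⁻¹ * (k * (k * b * k⁻¹) * k⁻¹) * j) * j = j * (j * b * j⁻¹) * j⁻¹ := by
      intro b hb
      have hkk := hKW k hk _ (hKW k hk b hb)
      rw [← A2 _ hkk, ← A3 b hb, hWc hb hkk]
      group
    have h2 : j⁻¹ * j⁻¹ * k * k = j * j := by
      have hm : (j * j)⁻¹ * (j⁻¹ * j⁻¹ * k * k) ∈ K := mul_mem (inv_mem (mul_mem hj hj))
        (mul_mem (mul_mem (mul_mem (inv_mem hj) (inv_mem hj)) hk) hk)
      refine (inv_mul_eq_one.1 (hKsemi _ hm a₀ ha₀ ha₀1 ?_)).symm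
      calc (j * j)⁻¹ * (j⁻¹ * j⁻¹ * k * k) * a₀ * ((j * j)⁻¹ * (j⁻¹ * j⁻¹ * k * k))⁻¹
          = (j * j)⁻¹ * (j⁻¹ * (j⁻¹ * (k * (k * a₀ * k⁻¹) * k⁻¹) * j) * j) * (j * j) := by
            simp only [mul_inv_rev, inv_inv, mul_assoc]
        _ = a₀ := by rw [hkj a₀ ha₀]; group
    have hkeq : k = j * j := by
      obtain ⟨m, hm⟩ := hKodd
      have hsq : (j * j) * (j * j) = k * k := by
        calc (j * j) * (j * j) = (j * j) * (j⁻¹ * j⁻¹ * k * k) := by rw [h2]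
          _ = k * k := by group
      have hinj : ∀ x ∈ K, ∀ y ∈ K, x * x = y * y → x = y := by
        intro x hx y hy e
        have h1 : ∀ z ∈ K, z = (z * z) ^ (m + 1) := fun z hz => by
          rw [← pow_two, ← pow_mul, show 2 * (m + 1) = Nat.card ↥K + 1 by omega, pow_succ]
          have : (⟨z, hz⟩ : ↥K) ^ Nat.card ↥K = 1 := pow_card_eq_one'
          rw [show z ^ Nat.card ↥K = 1 from congrArg Subtype.val this, one_mul]
        rw [h1 x hx, h1 y hy, e]
      exact (hinj _ (mul_mem hj hj) k hk hsq).symm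
    have hj3 : j * j * j = 1 := by
      refine hKsemi _ (mul_mem (mul_mem hj hj) hj) a₀ ha₀ ha₀1 ?_
      have e1 := A1 a₀ ha₀
      rw [hkeq] at e1
      have e3 : (j * a₀ * j⁻¹) * (j * j * j * a₀ * (j * j * j)⁻¹) = j * (j * a₀ * j⁻¹) * j⁻¹ := by
        conv_rhs => rw [← e1]
        group
      have e4 : j * (j * a₀ * j⁻¹) * j⁻¹ = a₀ * (j * a₀ * j⁻¹) := by
        calc j * (j * a₀ * j⁻¹) * j⁻¹ = (a₀ * a₀) * (j * j * a₀ * (j * j)⁻¹) := by
              rw [hW2 ha₀]; group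
          _ = a₀ * (a₀ * (j * j * a₀ * (j * j)⁻¹)) := by group
          _ = _ := by rw [e1]
      rw [e4, hWc ha₀ (hKW j hj a₀ ha₀)] at e3
      exact mul_left_cancel e3
    intro b hb
    rw [A1 b hb, hkeq]
    have e5 : j * j * (j * j) = j := by
      rw [← mul_assoc, hj3, one_mul]
    calc j * b * j⁻¹ = (j * j * (j * j)) * b * (j * j * (j * j))⁻¹ := by rw [e5]
      _ = _ := by group
  -- so `K` has at most three elements
  have hsmall : ∀ i ∈ K, ∀ k ∈ K, i ≠ 1 → k ≠ 1 → i * k ≠ 1 → i = k := by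
    intro i hi k hk hi1 hk1 hik
    have h1 := key i hi hi1 a₀ ha₀
    have hka := hKW k hk a₀ ha₀
    have h2 := key k hk hk1 a₀ ha₀
    have h3 := key (i * k) (mul_mem hi hk) hik a₀ ha₀
    have hia := hKW i hi a₀ ha₀
    have hc : i * k = k * i := hKcomm hi hk
    have L : (i * k) * ((i * k) * a₀ * (i * k)⁻¹) * (i * k)⁻¹
        = a₀ * (i * a₀ * i⁻¹) * (k * a₀ * k⁻¹) * ((i * k) * a₀ * (i * k)⁻¹) := by
      calc (i * k) * ((i * k) * a₀ * (i * k)⁻¹) * (i * k)⁻¹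
          = (i * k) * ((k * i) * a₀ * (k * i)⁻¹) * (i * k)⁻¹ := by rw [← hc]
        _ = i * (k * k * i * a₀ * i⁻¹ * (k * k)⁻¹) * i⁻¹ := by group
        _ = i * ((k * k) * i * a₀ * ((k * k) * i)⁻¹) * i⁻¹ := by group
        _ = i * (i * (k * k) * a₀ * (i * (k * k))⁻¹) * i⁻¹ := by
            rw [hKcomm (mul_mem hk hk) hi]
        _ = i * (i * (k * (k * a₀ * k⁻¹) * k⁻¹) * i⁻¹) * i⁻¹ := by group
        _ = i * (i * (a₀ * (k * a₀ * k⁻¹)) * i⁻¹) * i⁻¹ := by rw [h2]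
        _ = (i * (i * a₀ * i⁻¹) * i⁻¹) * (i * (i * (k * a₀ * k⁻¹) * i⁻¹) * i⁻¹) := by group
        _ = (a₀ * (i * a₀ * i⁻¹)) * ((k * a₀ * k⁻¹) * (i * (k * a₀ * k⁻¹) * i⁻¹)) := by
            rw [h1, key i hi hi1 _ hka]
        _ = _ := by group
    rw [← h3] at L
    have h5 : (i * a₀ * i⁻¹) * (k * a₀ * k⁻¹) = 1 := by
      have := mul_right_cancel (show a₀ * ((i * a₀ * i⁻¹) * (k * a₀ * k⁻¹)) * ((i * k) * a₀ * (i * k)⁻¹)
        = a₀ * ((i * k) * a₀ * (i * k)⁻¹) by rw [L]; group)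
      exact mul_eq_left.1 this
    have h6 : i * a₀ * i⁻¹ = k * a₀ * k⁻¹ := by
      rw [eq_inv_of_mul_eq_one_left h5]
      exact inv_eq_of_mul_eq_one_right (hW2 hka)
    have := hKsemi (k⁻¹ * i) (mul_mem (inv_mem hk) hi) a₀ ha₀ ha₀1 (by
      calc k⁻¹ * i * a₀ * (k⁻¹ * i)⁻¹ = k⁻¹ * (i * a₀ * i⁻¹) * k := by group
        _ = a₀ := by rw [h6]; group)
    exact (inv_mul_eq_one.1 this).symm
  have hK3 : Nat.card ↥K ≤ 3 := by
    by_cases hK : K = ⊥
    · rw [hK, card_bot]; omega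
    obtain ⟨k, hk, hk1⟩ := (bot_or_exists_ne_one K).resolve_left hK
    let f : ↥K → Fin 3 := fun x => if (x : G) = 1 then 0 else if (x : G) = k then 1 else 2
    have hf : Function.Injective f := by
      intro x y e
      apply Subtype.ext
      have other : ∀ z : ↥K, (z : G) ≠ 1 → (z : G) ≠ k → (z : G) = k⁻¹ := fun z h1 h2 =>
        eq_inv_of_mul_eq_one_left (by_contra fun h3 => h2 (hsmall z z.2 k hk h1 hk1 h3))
      by_cases x1 : (x : G) = 1 <;> by_cases xk : (x : G) = k <;>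
        by_cases y1 : (y : G) = 1 <;> by_cases yk : (y : G) = k <;>
        first
          | (rw [x1, y1])
          | (rw [xk, yk])
          | exact (hk1 (xk.symm.trans x1)).elim
          | exact (hk1 (yk.symm.trans y1)).elim
          | (rw [other x x1 xk, other y y1 yk])
          | exact absurd e (by simp only [f]; split_ifs <;> first | decide | contradiction)
    have := Nat.card_le_card_of_injective f hf
    simpa using this
  omega

end PairFacts

end Cfsg.Lib.CIT
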