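import Cfsg.Agent.Lib.CIT.TIBranch
import Cfsg.Agent.Lib.CIT.TICount
import Cfsg.Agent.Lib.CIT.Quot.Shape
import Cfsg.Agent.Lib.Dickson.Involutions
import Cfsg.Agent.Lib.Linear.Suzuki.LieForm
import Cfsg.Agent.Lib.Concrete.MTwentyOne
import Cfsg.Agent.S0324
import Cfsg.Agent.S0144
import Cfsg.Agent.S0253
import Cfsg.Agent.S0254
import Cfsg.Prelude.Def_LieExceptional

/-!
# Simple groups with at most five orbits of the automorphism group on elements
-/

set_option autoImplicit false
set_option linter.style.haveILetI false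
set_option linter.unusedSectionVars false

namespace Cfsg.Lib.CIT.FiveOrbits

open Subgroup
open Cfsg.Lib

universe u

variable {G : Type u} [Group G] [Finite G]

/-- The list of the simple groups with at most one composite element order, as used here. -/
def OneCompositeList (G : Type u) [Group G] : Prop :=
    (Nat.card G).Prime ∨
    (∃ (F : Type) (_ : Field F) (_ : Fintype F), (Fintype.card F = 5 ∨ Fintype.card F = 7 ∨ Fintype.card F = 8 ∨ Fintype.card F = 9 ∨
        Fintype.card F = 11 ∨ Fintype.card F = 13 ∨ Fintype.card F = 16) ∧ Nonempty (G ≃* Matrix.ProjectiveSpecialLinearGroup (Fin 2) F)) ∨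
    (∃ (F : Type) (_ : Field F) (_ : Fintype F), Fintype.card F = 4 ∧ Nonempty (G ≃* Matrix.ProjectiveSpecialLinearGroup (Fin 3) F)) ∨
    (∃ (F : Type) (_ : Field F) (_ : Fintype F), Fintype.card F = 8 ∧ Nonempty (G ≃* ↥(Cfsg.Lie.Sz F 4))) ∨
    (∃ (F : Type) (_ : Field F) (_ : Fintype F), ∃ n r s : ℕ, r.Prime ∧ s.Prime ∧ 3 ^ n - 1 = 2 * r ∧ 3 ^ n + 1 = 4 * s ∧
        Fintype.card F = 3 ^ n ∧ Nonempty (G ≃* Matrix.ProjectiveSpecialLinearGroup (Fin 2) F)) ∨
    (∃ (F : Type) (_ : Field F) (_ : Fintype F), ∃ n r : ℕ, (2 ^ n - 1).Prime ∧ r.Prime ∧ 2 ^ n + 1 = 3 * r ∧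
        Fintype.card F = 2 ^ n ∧ Nonempty (G ≃* Matrix.ProjectiveSpecialLinearGroup (Fin 2) F))

/-- Element orders are constant on the orbits. -/
theorem card_orders_le (h : Nat.card (MulAction.orbitRel.Quotient (MulAut G) G) ≤ 5) (s : Finset ℕ)
    (hs : ∀ n ∈ s, ∃ g : G, orderOf g = n) : s.card ≤ 5 := by
  classical
  refine le_trans ?_ h
  let f : MulAction.orbitRel.Quotient (MulAut G) G → ℕ := Quotient.lift (fun g : G => orderOf g)
    (fun a b hab => by
      obtain ⟨φ, hφ⟩ := (MulAction.orbitRel_apply.mp hab : a ∈ MulAction.orbit (MulAut G) b)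
      show orderOf a = orderOf b
      rw [← hφ]
      exact MulEquiv.orderOf_eq φ b)
  haveI := Fintype.ofFinite (MulAction.orbitRel.Quotient (MulAut G) G)
  rw [Nat.card_eq_fintype_card]
  calc s.card ≤ (Finset.univ.image f).card := Finset.card_le_card fun n hn => by
        obtain ⟨g, hg⟩ := hs n hn
        exact Finset.mem_image.mpr ⟨Quotient.mk'' g, Finset.mem_univ _, hg⟩
    _ ≤ _ := Finset.card_image_le.trans (by rw [Finset.card_univ])

theorem exists_orderOf {p : ℕ} (hp : p ∈ insert 1 (Nat.card G).primeFactors) : ∃ g : G, orderOf g = p := by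
  rcases Finset.mem_insert.mp hp with rfl | hp
  · exact ⟨1, orderOf_one⟩
  · haveI := Fact.mk (Nat.prime_of_mem_primeFactors hp)
    exact exists_prime_orderOf_dvd_card' p (Nat.dvd_of_mem_primeFactors hp)

theorem three_le_primeFactors [IsSimpleGroup G] (hna : ¬ IsMulCommutative G) :
    3 ≤ (Nat.card G).primeFactors.card := by
  by_contra h
  obtain ⟨p, q, hp, hq, hpq⟩ : ∃ p q, p.Prime ∧ q.Prime ∧ (Nat.card G).primeFactors ⊆ {p, q} := by
    have hall : ∀ x ∈ (Nat.card G).primeFactors, x.Prime := fun x hx => Nat.prime_of_mem_primeFactors hx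
    rcases (show (Nat.card G).primeFactors.card = 0 ∨ (Nat.card G).primeFactors.card = 1 ∨
        (Nat.card G).primeFactors.card = 2 by omega) with e | e | e
    · exact ⟨2, 2, Nat.prime_two, Nat.prime_two, by rw [Finset.card_eq_zero.mp e]; simp⟩
    · obtain ⟨a, ha⟩ := Finset.card_eq_one.mp e
      exact ⟨a, a, hall a (by simp [ha]), hall a (by simp [ha]), by rw [ha]; simp⟩
    · obtain ⟨a, b, -, hab⟩ := Finset.card_eq_two.mp e
      exact ⟨a, b, hall a (by simp [hab]), hall b (by simp [hab]), by rw [hab]⟩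
  have hfac := Nat.prod_factorization_pow_eq_self (n := Nat.card G) Nat.card_pos.ne'
  rcases eq_or_ne p q with rfl | hne
  · haveI : Group.IsSolvable G := Cfsg.Agent.S0144.result p p ((Nat.card G).factorization p) 0 hp hp (by
      conv_lhs => rw [← hfac, Finsupp.prod, Nat.support_factorization]
      rw [Finset.prod_subset (hpq.trans (by simp : ({p, p} : Finset ℕ) ⊆ {p})) fun x _ hx => by
        rw [Finsupp.notMem_support_iff.mp (by rwa [Nat.support_factorization]), pow_zero],
        Finset.prod_singleton, pow_zero, mul_one])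
    exact hna ⟨⟨IsSimpleGroup.comm_iff_isSolvable.2 inferInstance⟩⟩
  · haveI : Group.IsSolvable G := Cfsg.Agent.S0144.result p q ((Nat.card G).factorization p)
      ((Nat.card G).factorization q) hp hq (by
      conv_lhs => rw [← hfac, Finsupp.prod, Nat.support_factorization]
      rw [Finset.prod_subset hpq fun x _ hx => by
        rw [Finsupp.notMem_support_iff.mp (by rwa [Nat.support_factorization]), pow_zero],
        Finset.prod_pair hne])
    exact hna ⟨⟨IsSimpleGroup.comm_iff_isSolvable.2 inferInstance⟩⟩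

/-- With all element orders prime the group has only three prime divisors. -/
theorem false_of_prime_orders [IsSimpleGroup G] (hna : ¬ IsMulCommutative G)
    (hall : ∀ g : G, g ≠ 1 → (orderOf g).Prime) (h4 : 4 ≤ (Nat.card G).primeFactors.card) : False := by
  haveI : Fact (Nat.Prime 2) := ⟨Nat.prime_two⟩
  have hsq : ∀ g : G, (∃ k : ℕ, g ^ 2 ^ k = 1) → g * g = 1 := by
    rintro g ⟨k, hk⟩
    rcases eq_or_ne g 1 with rfl | hg
    · exact one_mul 1
    · have hd := orderOf_dvd_of_pow_eq_one hk
      have hp := hall g hg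
      rw [(Nat.prime_dvd_prime_iff_eq hp Nat.prime_two).mp (hp.dvd_of_dvd_pow hd)] at hp
      have ho : orderOf g = 2 := (Nat.prime_dvd_prime_iff_eq (hall g hg) Nat.prime_two).mp
        ((hall g hg).dvd_of_dvd_pow hd)
      exact Invol.inv_mul_self ho
  have hG : IsCIT G := by
    intro t ht c
    refine ⟨1, Subtype.ext ?_⟩
    show (c : G) ^ 2 ^ 1 = 1
    rw [pow_one, sq]
    rcases eq_or_ne (c : G) 1 with hc | hc
    · rw [hc, one_mul]
    · have hp := hall c hc
      by_cases h2 : orderOf (c : G) = 2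
      · exact Invol.inv_mul_self h2
      · exfalso
        have hct : Commute (c : G) t := mem_centralizer_singleton_iff.mp c.2
        have hco : (orderOf (c : G)).Coprime (orderOf t) := by
          rw [ht]; exact (Nat.coprime_primes hp Nat.prime_two).mpr h2
        have h1 := hct.orderOf_mul_eq_mul_orderOf_of_coprime hco
        have hne : (c : G) * t ≠ 1 := fun e => by
          rw [e, orderOf_one, ht] at h1; omega
        have hp' := hall _ hne
        rw [h1] at hp'
        rcases Nat.prime_mul_iff.mp hp' with ⟨-, e⟩ | ⟨-, e⟩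
        · rw [ht] at e; omega
        · exact hp.ne_one e
  have hcomm : ∀ S : Sylow 2 G, ∀ a ∈ (S : Subgroup G), ∀ b ∈ (S : Subgroup G), a * b = b * a := by
    intro S a ha b hb
    have hsq' : ∀ x ∈ (S : Subgroup G), x * x = 1 := fun x hx => hsq x (by
      obtain ⟨k, hk⟩ := S.2 ⟨x, hx⟩
      exact ⟨k, congrArg Subtype.val hk⟩)
    calc a * b = (a * b)⁻¹ := eq_inv_of_mul_eq_one_left (hsq' _ (mul_mem ha hb))
      _ = b * a := by
        rw [mul_inv_rev, inv_eq_of_mul_eq_one_right (hsq' a ha), inv_eq_of_mul_eq_one_right (hsq' b hb)]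
  have hTI : SylowTI G := sylowTI_of_central hG fun S z hz _ s hs => hcomm S s hs z hz
  obtain ⟨S⟩ : Nonempty (Sylow 2 G) := inferInstance
  have hD := tiData hna hG hTI S
  obtain ⟨E, t, hE⟩ := exists_tiShape hD
  have hsqS : ∀ x ∈ (S : Subgroup G), x * x = 1 := fun x hx => hsq x (by
    obtain ⟨k, hk⟩ := S.2 ⟨x, hx⟩
    exact ⟨k, congrArg Subtype.val hk⟩)
  have hEc : Nat.card E + 1 = Nat.card (S : Subgroup G) := by
    refine le_antisymm ?_ (hE.card_eq ▸ card_le_involutions le_rfl hsqS)
    rw [hE.card_eq, ← Finite.card_option]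
    refine Nat.card_le_card_of_injective
      (fun o : Option {a : G // a ∈ (S : Subgroup G) ∧ orderOf a = 2} =>
        o.elim (1 : (S : Subgroup G)) fun a => ⟨a.1, a.2.1⟩) ?_
    rintro (_ | a) (_ | b) e
    · rfl
    · exact absurd (congrArg Subtype.val e).symm (Invol.ne_one b.2.2)
    · exact absurd (congrArg Subtype.val e) (Invol.ne_one a.2.2)
    · have e' := congrArg (fun z : (S : Subgroup G) => (z : G)) e
      exact congrArg some (Subtype.ext e')
  obtain ⟨n, hn⟩ := IsPGroup.iff_card.mp S.2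
  have hn2 : 2 ≤ n := by
    by_contra hn2
    obtain ⟨a, ha, b, hb, ha2, hb2, hab⟩ := hD.two_involutions
    haveI : Nontrivial {a : G // a ∈ (S : Subgroup G) ∧ orderOf a = 2} :=
      ⟨⟨⟨a, ha, ha2⟩, ⟨b, hb, hb2⟩, fun h => hab (congrArg Subtype.val h)⟩⟩
    have h2 : 2 ≤ Nat.card E := by rw [hE.card_eq]; exact Finite.one_lt_card
    interval_cases n <;> omega
  have hcard : Nat.card G = 2 ^ n * ((2 ^ n) ^ 2 - 1) := by
    rw [← Subgroup.card_mul_index (normalizer ((S : Subgroup G) : Set G)), hE.index_eq, ← hE.sup_eq,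
      card_sup_eq_mul_of_inf_bot hE.le_normalizer hE.inf_eq, ← hn, show Nat.card E = Nat.card (S : Subgroup G) - 1 by omega,
      mul_assoc]
    congr 1
    rw [mul_comm]
    simpa using (Nat.sq_sub_sq (Nat.card (S : Subgroup G)) 1).symm
  obtain ⟨F, iF, iFt, hF, ⟨e⟩⟩ := psl_of_zassenhaus (isZassenhausGroup hD) hn2 hcard
  obtain ⟨p, hpp, hp, m, hm0, hm⟩ := Dickson.exists_char (F := F)
  haveI := Fact.mk hpp
  have h4q : 4 ≤ Fintype.card F := by
    rw [hF]
    calc (4 : ℕ) = 2 ^ 2 := rfl
      _ ≤ 2 ^ n := Nat.pow_le_pow_right two_pos hn2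
  have hg : Nat.gcd 2 (Fintype.card F - 1) = 1 := by
    rw [hF]
    exact Nat.coprime_two_left.mpr (Nat.Even.sub_odd (Nat.one_le_two_pow)
      ((Nat.even_pow).mpr ⟨even_two, by omega⟩) odd_one)
  have hpr : (2 ^ n - 1).Prime ∧ (2 ^ n + 1).Prime := by
    have key : ∀ k, k ≠ 1 → (k ∣ Fintype.card F - 1 ∨ k ∣ Fintype.card F + 1) → k.Prime := by
      intro k hk hkd
      obtain ⟨x, hx⟩ : k ∈ Set.range (orderOf : Matrix.ProjectiveSpecialLinearGroup (Fin 2) F → ℕ) := by
        rw [Cfsg.Lib.Spec.psl_two_spectrum p h4q, hg, Nat.div_one, Nat.div_one]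
        exact Or.inr hkd
      have hx1 : e.symm x ≠ 1 := fun h => hk (by
        rw [← hx, ← MulEquiv.orderOf_eq e.symm x, h, orderOf_one])
      have := hall _ hx1
      rwa [MulEquiv.orderOf_eq, hx] at this
    rw [← hF]
    exact ⟨key _ (by omega) (Or.inl dvd_rfl), key _ (by omega) (Or.inr dvd_rfl)⟩
  have hn' : n = 2 := by
    by_contra hne
    have h8 : 8 ≤ 2 ^ n := by
      calc (8 : ℕ) = 2 ^ 3 := rfl
        _ ≤ 2 ^ n := Nat.pow_le_pow_right two_pos (by omega)
    have hmod : 2 ^ n % 3 = 1 ∨ 2 ^ n % 3 = 2 := by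
      clear * -
      induction n with
      | zero => left; rfl
      | succ k ih => rw [pow_succ]; omega
    rcases hmod with h | h
    · have := (Nat.prime_dvd_prime_iff_eq Nat.prime_three hpr.1).mp (Nat.dvd_of_mod_eq_zero (by omega))
      omega
    · have := (Nat.prime_dvd_prime_iff_eq Nat.prime_three hpr.2).mp (Nat.dvd_of_mod_eq_zero (by omega))
      omega
  rw [hcard, hn'] at h4
  have hsub : ((2 : ℕ) ^ 2 * ((2 ^ 2) ^ 2 - 1)).primeFactors ⊆ {2, 3, 5} := by
    intro x hx
    have hp := Nat.prime_of_mem_primeFactors hx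
    have hd := Nat.dvd_of_mem_primeFactors hx
    norm_num at hd
    have : x ≤ 60 := Nat.le_of_dvd (by norm_num) hd
    interval_cases x <;> first | decide | omega | (exfalso; norm_num at hp)
  have := Finset.card_le_card hsub
  have hc : ({2, 3, 5} : Finset ℕ).card = 3 := rfl
  omega

theorem dvd_card_psl (F : Type) [Field F] [Fintype F] (e : G ≃* Matrix.ProjectiveSpecialLinearGroup (Fin 2) F)
    {p : ℕ} (hp : p.Prime) (hd : p ∣ Fintype.card F * (Fintype.card F ^ 2 - 1)) (hp2 : p ≠ 2) :
    p ∈ (Nat.card G).primeFactors := by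
  refine Nat.mem_primeFactors.mpr ⟨hp, ?_, Nat.card_pos.ne'⟩
  rw [← Linear.Two.card_PSL_two, ← Nat.card_congr e.toEquiv] at hd
  rcases hp.dvd_mul.mp hd with h | h
  · exfalso
    have := Nat.le_of_dvd two_pos (h.trans (Nat.gcd_dvd_left _ _))
    have := hp.two_le
    omega
  · exact h

/-- The four groups. -/
theorem main [IsSimpleGroup G] (hna : ¬ IsMulCommutative G)
    (h5 : Nat.card (MulAction.orbitRel.Quotient (MulAut G) G) ≤ 5)
    (h1 : {n : ℕ | n ∈ Set.range (orderOf : G → ℕ) ∧ 1 < n ∧ ¬ n.Prime}.Subsingleton → OneCompositeList G) :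
    Nonempty (G ≃* ↥(alternatingGroup (Fin 5))) ∨ Nonempty (G ≃* ↥(alternatingGroup (Fin 6))) ∨
      (∃ (F : Type) (_ : Field F) (_ : Fintype F), (Fintype.card F = 7 ∨ Fintype.card F = 8) ∧
        Nonempty (G ≃* Matrix.ProjectiveSpecialLinearGroup (Fin 2) F)) := by
  classical
  set P := (Nat.card G).primeFactors with hP
  have hP1 : 1 ∉ P := fun h => Nat.not_prime_one (Nat.prime_of_mem_primeFactors h)
  have h3 : 3 ≤ P.card := three_le_primeFactors hna
  have hb : ∀ t : Finset ℕ, (∀ n ∈ t, (∃ g : G, orderOf g = n) ∧ 1 < n ∧ ¬ n.Prime) → P.card + t.card ≤ 4 := by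
    intro t ht
    have hdis : Disjoint (insert 1 P) t := by
      rw [Finset.disjoint_left]
      intro x hx hxt
      rcases Finset.mem_insert.mp hx with rfl | hx
      · exact absurd (ht 1 hxt).2.1 (lt_irrefl 1)
      · exact (ht x hxt).2.2 (Nat.prime_of_mem_primeFactors hx)
    have h := card_orders_le h5 (insert 1 P ∪ t) (fun n hn => by
      rcases Finset.mem_union.mp hn with hn | hn
      · exact exists_orderOf hn
      · exact (ht n hn).1)
    rw [Finset.card_union_of_disjoint hdis, Finset.card_insert_of_notMem hP1] at h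
    omega
  rcases Nat.lt_or_ge P.card 4 with hlt | h4
  swap
  · exfalso
    refine false_of_prime_orders hna (fun g hg => ?_) h4
    by_contra hnp
    have := hb {orderOf g} (fun n hn => by
      rw [Finset.mem_singleton] at hn
      subst hn
      exact ⟨⟨g, rfl⟩, by
        have h1 : orderOf g ≠ 1 := fun h => hg (orderOf_eq_one_iff.mp h)
        have := orderOf_pos g
        omega, hnp⟩)
    rw [Finset.card_singleton] at this
    omega
  have hsub : ∀ s : Finset ℕ, (∀ x ∈ s, x ∈ P) → s.card ≤ 3 := fun s hs =>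
    (Finset.card_le_card hs).trans (by omega)
  have hsubs : {n : ℕ | n ∈ Set.range (orderOf : G → ℕ) ∧ 1 < n ∧ ¬ n.Prime}.Subsingleton := by
    rintro a ⟨ha, ha1, ha2⟩ b ⟨hb', hb1, hb2⟩
    by_contra hne
    have h := hb {a, b} (fun n hn => by
      rcases Finset.mem_insert.mp hn with rfl | hn
      · exact ⟨ha, ha1, ha2⟩
      · rw [Finset.mem_singleton] at hn; subst hn; exact ⟨hb', hb1, hb2⟩)
    rw [Finset.card_pair hne] at h
    omega
  have h2P : 2 ∈ P := Nat.mem_primeFactors.mpr ⟨Nat.prime_two, two_dvd_card hna, Nat.card_pos.ne'⟩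
  rcases h1 hsubs with hp | ⟨F, iF, iFt, hF, ⟨e⟩⟩ | ⟨F, iF, iFt, hF, ⟨e⟩⟩ | ⟨F, iF, iFt, hF, ⟨e⟩⟩ |
    ⟨F, iF, iFt, n, r, s, hr, hs, hnr, hns, hF, ⟨e⟩⟩ | ⟨F, iF, iFt, n, r, hm, hr, hnr, hF, ⟨e⟩⟩
  · exfalso
    rw [hP, Nat.Prime.primeFactors hp, Finset.card_singleton] at h3
    omega
  · have key : ∀ a b c : ℕ, a.Prime → b.Prime → c.Prime → a ≠ 2 → b ≠ 2 → c ≠ 2 → a ≠ b → a ≠ c → b ≠ c →
        a ∣ Fintype.card F * (Fintype.card F ^ 2 - 1) → b ∣ Fintype.card F * (Fintype.card F ^ 2 - 1) →
        c ∣ Fintype.card F * (Fintype.card F ^ 2 - 1) → False := by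
      intro a b c ha hb hc ha2 hb2 hc2 hab hac hbc da db dc
      have h := hsub {2, a, b, c} (by
        intro x hx
        simp only [Finset.mem_insert, Finset.mem_singleton] at hx
        rcases hx with rfl | rfl | rfl | rfl
        · exact h2P
        · exact dvd_card_psl F e ha da ha2
        · exact dvd_card_psl F e hb db hb2
        · exact dvd_card_psl F e hc dc hc2)
      rw [Finset.card_insert_of_notMem (by simp [Ne.symm ha2, Ne.symm hb2, Ne.symm hc2]),
        Finset.card_insert_of_notMem (by simp [hab, hac]), Finset.card_pair hbc] at h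
      omega
    rcases hF with hF | hF | hF | hF | hF | hF | hF
    · obtain ⟨f⟩ := Cfsg.Agent.S0253.result hF
      exact Or.inl ⟨e.trans f⟩
    · exact Or.inr (Or.inr ⟨F, iF, iFt, Or.inl hF, ⟨e⟩⟩)
    · exact Or.inr (Or.inr ⟨F, iF, iFt, Or.inr hF, ⟨e⟩⟩)
    · obtain ⟨f⟩ := Cfsg.Agent.S0254.result hF
      exact Or.inr (Or.inl ⟨e.trans f⟩)
    · rw [hF] at key
      exact (key 3 5 11 (by norm_num) (by norm_num) (by norm_num) (by norm_num) (by norm_num) (by norm_num)
        (by norm_num) (by norm_num) (by norm_num) (by norm_num) (by norm_num) (by norm_num)).elim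
    · rw [hF] at key
      exact (key 3 7 13 (by norm_num) (by norm_num) (by norm_num) (by norm_num) (by norm_num) (by norm_num)
        (by norm_num) (by norm_num) (by norm_num) (by norm_num) (by norm_num) (by norm_num)).elim
    · rw [hF] at key
      exact (key 3 5 17 (by norm_num) (by norm_num) (by norm_num) (by norm_num) (by norm_num) (by norm_num)
        (by norm_num) (by norm_num) (by norm_num) (by norm_num) (by norm_num) (by norm_num)).elim
  · exfalso
    have hc : Nat.card G = 20160 := by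
      rw [Nat.card_congr e.toEquiv]
      exact Cfsg.Lib.Concrete.MTwentyOne.card_psl34 F hF
    have h := hsub {2, 3, 5, 7} (fun x hx => Nat.mem_primeFactors.mpr (by
      simp only [Finset.mem_insert, Finset.mem_singleton] at hx
      rw [hc]
      rcases hx with rfl | rfl | rfl | rfl <;> norm_num))
    norm_num at h
  · exfalso
    have hc : Nat.card G = 29120 := by
      obtain ⟨f, -⟩ := Cfsg.Lib.Linear.Suz.exists_lie_equiv (F := F) (m := 1) ⟨le_rfl, by rw [hF]; norm_num⟩
      rw [Nat.card_congr (e.trans f.symm).toEquiv,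
        Cfsg.Agent.S0324.result (F := F) (m := 1) le_rfl (by rw [hF]; norm_num)]
      norm_num
    have h := hsub {2, 5, 7, 13} (fun x hx => Nat.mem_primeFactors.mpr (by
      simp only [Finset.mem_insert, Finset.mem_singleton] at hx
      rw [hc]
      rcases hx with rfl | rfl | rfl | rfl <;> norm_num))
    norm_num at h
  · exfalso
    have hn2 : 2 ≤ n := by
      by_contra hn
      interval_cases n
      · simp at hnr; exact absurd (hnr ▸ hr) (by norm_num)
      · have h1 : r = 1 := by omega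
        exact hr.ne_one h1
    have hq9 : 9 ≤ 3 ^ n := by
      calc (9 : ℕ) = 3 ^ 2 := rfl
        _ ≤ 3 ^ n := Nat.pow_le_pow_right (by norm_num) hn2
    have h3n : 3 ∣ 3 ^ n := dvd_pow_self 3 (by omega)
    have hr2 : r ≠ 2 := fun h => by omega
    have hs2 : s ≠ 2 := fun h => by omega
    have hr3 : r ≠ 3 := fun h => by omega
    have hs3 : s ≠ 3 := fun h => by omega
    have hrs : r ≠ s := fun h => by omega
    have hfac : Fintype.card F ^ 2 - 1 = (3 ^ n + 1) * (3 ^ n - 1) := by
      rw [hF]; simpa using Nat.sq_sub_sq (3 ^ n) 1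
    have h := hsub {2, 3, r, s} (by
      intro x hx
      simp only [Finset.mem_insert, Finset.mem_singleton] at hx
      rcases hx with rfl | rfl | rfl | rfl
      · exact h2P
      · exact dvd_card_psl F e Nat.prime_three (hF ▸ h3n.mul_right _) (by norm_num)
      · exact dvd_card_psl F e hr (by rw [hfac, hnr]; exact ((Nat.dvd_mul_left x 2).mul_left _).mul_left _) hr2
      · exact dvd_card_psl F e hs (by rw [hfac, hns]; exact ((Nat.dvd_mul_left x 4).mul_right _).mul_left _) hs2)
    rw [Finset.card_insert_of_notMem (by simp [Ne.symm hr2, Ne.symm hs2]),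
      Finset.card_insert_of_notMem (by simp [Ne.symm hr3, Ne.symm hs3]), Finset.card_pair hrs] at h
    omega
  · by_cases hn3 : n = 3
    · subst hn3
      exact Or.inr (Or.inr ⟨F, iF, iFt, Or.inr (by rw [hF]; rfl), ⟨e⟩⟩)
    exfalso
    have hn4 : 4 ≤ n := by
      by_contra hn
      interval_cases n
      · exact absurd hm (by norm_num)
      · exact absurd hm (by norm_num)
      · omega
      · omega
    have hq : 16 ≤ 2 ^ n := by
      calc (16 : ℕ) = 2 ^ 4 := rfl
        _ ≤ 2 ^ n := Nat.pow_le_pow_right two_pos hn4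
    have h2n : Even (2 ^ n) := (Nat.even_pow).mpr ⟨even_two, by omega⟩
    obtain ⟨k, hk⟩ := h2n
    have hr2 : r ≠ 2 := fun h => by omega
    have hr3 : r ≠ 3 := fun h => by omega
    have hrm : r ≠ 2 ^ n - 1 := fun h => by omega
    have hfac : Fintype.card F ^ 2 - 1 = (2 ^ n + 1) * (2 ^ n - 1) := by
      rw [hF]; simpa using Nat.sq_sub_sq (2 ^ n) 1
    have h := hsub {2, 3, r, 2 ^ n - 1} (by
      intro x hx
      simp only [Finset.mem_insert, Finset.mem_singleton] at hx
      rcases hx with rfl | rfl | rfl | rfl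
      · exact h2P
      · exact dvd_card_psl F e Nat.prime_three
          (by rw [hfac, hnr]; exact ((Nat.dvd_mul_right 3 r).mul_right _).mul_left _) (by norm_num)
      · exact dvd_card_psl F e hr
          (by rw [hfac, hnr]; exact ((Nat.dvd_mul_left x 3).mul_right _).mul_left _) hr2
      · exact dvd_card_psl F e hm (by rw [hfac]; exact (Nat.dvd_mul_left _ _).mul_left _) (by omega))
    rw [Finset.card_insert_of_notMem (by simp; omega), Finset.card_insert_of_notMem (by simp; omega),
      Finset.card_pair hrm] at h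
    omega

end Cfsg.Lib.CIT.FiveOrbits
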