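import Cfsg.Agent.Lib.CIT.Basic
import Cfsg.Agent.Lib.Local.SubBlock.Transport
import Cfsg.Agent.Lib.Fusion.Alperin

/-!
Maximal locals of a simple CIT group all of which contain a Sylow 2-subgroup: there are at least two
over a Sylow 2-subgroup (see `notes/cit_lead.md`, §5).
-/

set_option autoImplicit false
set_option linter.style.haveILetI false

namespace Cfsg.Lib.CIT

open Subgroup
open Cfsg.Lib

universe u

variable {G : Type u} [Group G] [Finite G]

/-- Every maximal local contains a Sylow 2-subgroup of the group. -/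
def FullSylow (G : Type u) [Group G] : Prop :=
  ∀ M : Subgroup G, IsMaxLocal M → ∃ S : Sylow 2 G, (S : Subgroup G) ≤ M

/-- Failure of factorization on `vee` gives the shape of `L₂(q)` on a natural module. -/
def FFProvider (G : Type u) [Group G] : Prop :=
  ∀ M T A : Subgroup G, IsMaxLocal M → Cfsg.IsSylowTwoIn T M → A ≤ T → ¬ A ≤ rad M →
    (∀ a ∈ A, a ^ 2 ∈ rad M ∧ ∀ b ∈ A, a⁻¹ * b⁻¹ * a * b ∈ rad M) →
    Nat.card ↥(vee M) ≤
      (A ⊓ rad M).relIndex A * Nat.card ↥(vee M ⊓ centralizer (A : Set G)) →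
    ∃ q, FFShape M T q

/-! ### Conjugation -/

omit [Finite G] in
theorem rad_map_aux (φ : G ≃* G) {M N : Subgroup G} :
    (N.map φ.toMonoidHom = M) → N = M.map φ.symm.toMonoidHom := by
  rintro rfl
  rw [map_map]
  ext x
  simp [mem_map]

theorem rad_map (φ : G ≃* G) (M : Subgroup G) :
    rad (M.map φ.toMonoidHom) = (rad M).map φ.toMonoidHom :=
  (Local.SubBlock.map_pCoreOf φ M).symm

theorem vee_map (φ : G ≃* G) (M : Subgroup G) :
    vee (M.map φ.toMonoidHom) = (vee M).map φ.toMonoidHom := by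
  show Cfsg.omegaCenterOf _ = (Cfsg.omegaCenterOf _).map _
  rw [rad_map]
  exact (Local.SubBlock.map_omegaOneCenter φ _).symm

theorem IsNCLocal.map (φ : G ≃* G) {M : Subgroup G} (h : IsNCLocal M) :
    IsNCLocal (M.map φ.toMonoidHom) := by
  obtain ⟨⟨R, hR, hR1, rfl⟩, P, Q, hPQ⟩ := h
  let e : ↥(normalizer (R : Set G)) ≃* ↥((normalizer (R : Set G)).map φ.toMonoidHom) :=
    φ.subgroupMap _
  refine ⟨⟨R.map φ.toMonoidHom, hR.map _, fun h => hR1 ((map_eq_bot_iff_of_injective _ φ.injective).1 h), ?_⟩,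
    P.mapSurjective (f := e.toMonoidHom) e.surjective, Q.mapSurjective (f := e.toMonoidHom) e.surjective, fun he => hPQ (Sylow.ext ?_)⟩
  · exact map_equiv_normalizer_eq R φ
  · exact map_injective e.injective (congrArg Sylow.toSubgroup he)

theorem IsMaxLocal.map (φ : G ≃* G) {M : Subgroup G} (h : IsMaxLocal M) :
    IsMaxLocal (M.map φ.toMonoidHom) := by
  refine ⟨h.1.map φ, fun N hN hle => ?_⟩
  have h1 : M ≤ N.map φ.symm.toMonoidHom := fun x hx =>
    ⟨φ x, hle (mem_map_of_mem _ hx), φ.symm_apply_apply x⟩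
  rw [← h.2 _ (hN.map φ.symm) h1, map_map]
  ext x
  simp [mem_map]

/-- A 2-subgroup of a maximal local lies in a Sylow 2-subgroup of the group inside that local. -/
theorem exists_sylow_between (hF : FullSylow G) {M Q : Subgroup G} (hM : IsMaxLocal M)
    (hQ : IsPGroup 2 ↥Q) (hQM : Q ≤ M) :
    ∃ S : Sylow 2 G, Q ≤ (S : Subgroup G) ∧ (S : Subgroup G) ≤ M := by
  haveI : Fact (Nat.Prime 2) := ⟨Nat.prime_two⟩
  obtain ⟨S₀, hS₀⟩ := hF M hM
  obtain ⟨P, hP⟩ := (hQ.comap_subtype : IsPGroup 2 ↥(Q.subgroupOf M)).exists_le_sylow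
  obtain ⟨g, hg⟩ := MulAction.exists_smul_eq ↥M (S₀.subtype hS₀) P
  refine ⟨(g : G) • S₀, fun x hx => ?_, ?_⟩
  · have h1 : (⟨x, hQM hx⟩ : ↥M) ∈ (P : Subgroup ↥M) := hP (mem_subgroupOf.2 hx)
    rw [← hg, Sylow.smul_subtype, Sylow.coe_subtype] at h1
    exact mem_subgroupOf.1 h1
  · exact (Sylow.smul_le hS₀ g)

/-! ### An involution outside `O_2` -/

theorem exists_involution_outside (hG : IsCIT G) {M : Subgroup G} (hM : IsMaxLocal M) :
    ∃ u ∈ M, orderOf u = 2 ∧ u ∉ rad M := by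
  classical
  haveI : Fact (Nat.Prime 2) := ⟨Nat.prime_two⟩
  haveI hn : (Cfsg.pCore 2 ↥M).Normal := inferInstance
  set R := Cfsg.pCore 2 ↥M with hRdef
  have hR2 : IsPGroup 2 ↥R := Core.pCore_isPGroup 2 ↥M
  have hmem : ∀ m : ↥M, (m : G) ∈ rad M ↔ m ∈ R := fun m =>
    ⟨fun h => (Local.mem_pCoreOf.1 h).2, fun h => Local.mem_pCoreOf.2 ⟨m.2, h⟩⟩
  -- the quotient has even order
  obtain ⟨P, Q, hPQ⟩ := hM.1.2
  have heven : 2 ∣ R.index := by
    by_contra hodd
    have hle : ∀ S : Sylow 2 ↥M, (S : Subgroup ↥M) = R := fun S => by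
      obtain ⟨S', hS'⟩ := hR2.exists_le_sylow
      have h1 : (R.relIndex (S' : Subgroup ↥M)) = 1 := by
        obtain ⟨k, hk⟩ := S'.2.index (R.subgroupOf (S' : Subgroup ↥M))
        have h2 : R.relIndex (S' : Subgroup ↥M) ∣ R.index := relIndex_dvd_index_of_normal _ _
        rcases k with _ | k
        · simpa [relIndex] using hk
        · exact absurd ((dvd_pow_self 2 (Nat.succ_ne_zero k)).trans (dvd_of_eq hk.symm |>.trans h2)) hodd
      have h3 : (S' : Subgroup ↥M) = R := le_antisymm (relIndex_eq_one.1 h1) hS'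
      obtain ⟨g, rfl⟩ := MulAction.exists_smul_eq ↥M S' S
      rw [Sylow.smul_def, Sylow.pointwise_smul_def, h3]
      exact Normal.conjAct hn g
    exact hPQ (Sylow.ext ((hle P).trans (hle Q).symm))
  obtain ⟨ub, hub⟩ := exists_prime_orderOf_dvd_card' (G := ↥M ⧸ R) 2
    (by rw [← Subgroup.index_eq_card]; exact heven)
  -- it inverts an element of odd prime order
  obtain ⟨xb, hx1, hxo, hxinv⟩ := Invol.exists_inverted_odd hub fun N hN hN2 huN => by
    have hc : IsPGroup 2 ↥(N.comap (QuotientGroup.mk' R)) :=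
      IsPGroup.comap_of_ker_isPGroup hN2 _ (by rw [QuotientGroup.ker_mk']; exact hR2)
    have hle := Core.le_pCore' (Normal.comap hN _) hc
    obtain ⟨a, rfl⟩ := QuotientGroup.mk_surjective ub
    have : (a : ↥M ⧸ R) = 1 := (QuotientGroup.eq_one_iff a).2 (hle huN)
    rw [this, orderOf_one] at hub
    norm_num at hub
  obtain ⟨p, hp, hpd⟩ := Nat.exists_prime_and_dvd (n := orderOf xb)
    (fun h => hx1 (orderOf_eq_one_iff.1 h))
  haveI : Fact p.Prime := ⟨hp⟩
  set yb := xb ^ (orderOf xb / p) with hybdef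
  have hy : orderOf yb = p := orderOf_pow_orderOf_div (orderOf_pos _).ne' hpd
  have hyinv : ub * yb * ub⁻¹ = yb⁻¹ := by rw [hybdef, ← conj_pow, hxinv, inv_pow]
  have hpne : p ≠ 2 := by
    rintro rfl
    exact (Nat.not_even_iff_odd.2 hxo) (even_iff_two_dvd.2 hpd)
  set π := QuotientGroup.mk' R
  set L := (zpowers yb).comap π with hLdef
  obtain ⟨a, ha⟩ := QuotientGroup.mk_surjective ub
  have haL : a ∈ normalizer (L : Set ↥M) := by
    have h1 : ub ∈ normalizer ((zpowers yb : Subgroup (↥M ⧸ R)) : Set (↥M ⧸ R)) := by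
      refine Core.mem_normalizer_iff_map_conj.2 ?_
      rw [MonoidHom.map_zpowers]
      show zpowers (ub * yb * ub⁻¹) = zpowers yb
      rw [hyinv, zpowers_inv]
    rw [hLdef, ← comap_normalizer_eq_of_surjective (zpowers yb) (QuotientGroup.mk'_surjective R)]
    rw [mem_comap, show QuotientGroup.mk' R a = ub from ha]
    exact h1
  obtain ⟨Pp⟩ : Nonempty (Sylow p ↥L) := inferInstance
  set Pg : Subgroup ↥M := (Pp : Subgroup ↥L).map L.subtype with hPg
  -- Frattini: normalize a Sylow p-subgroup of the preimage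
  obtain ⟨l, hlL, hl⟩ : ∃ l ∈ L, (l * a) ∈ normalizer (Pg : Set ↥M) := by
    have hmap : L.map (MulAut.conj a).toMonoidHom = L := Core.map_conj_eq_of_mem_normalizer haL
    let e : ↥L ≃* ↥L := ((MulAut.conj a).subgroupMap L).trans (MulEquiv.subgroupCongr hmap)
    obtain ⟨g, hg⟩ := MulAction.exists_smul_eq ↥L (Pp.mapSurjective (f := e.toMonoidHom) e.surjective) Pp
    refine ⟨g, g.2, Core.mem_normalizer_iff_map_conj.2 ?_⟩
    have h2 : ((Pp : Subgroup ↥L).map e.toMonoidHom).map (MulAut.conj g).toMonoidHom = Pp := by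
      conv_rhs => rw [← hg]
      rfl
    conv_rhs => rw [hPg, ← h2]
    rw [hPg, map_map, map_map, map_map]
    congr 1
    ext y
    show (((g : ↥M) * a * (y : ↥M) * ((g : ↥M) * a)⁻¹ : ↥M) : G) =
      (((g : ↥M) * (a * (y : ↥M) * a⁻¹) * (g : ↥M)⁻¹ : ↥M) : G)
    exact congrArg Subtype.val (by group)
  have hpdvd : p ∣ Nat.card ↥L := by
    have h1 : Nat.card ↥(L.map π) ∣ Nat.card ↥L := Core.card_map_dvd π L
    rw [hLdef, map_comap_eq_self_of_surjective (QuotientGroup.mk'_surjective R),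
      Nat.card_zpowers, hy] at h1
    exact h1
  obtain ⟨c, hc⟩ := exists_prime_orderOf_dvd_card' (G := ↥(Pp : Subgroup ↥L)) p
    (Pp.dvd_card_of_dvd_card hpdvd)
  set x : ↥M := ((c : ↥L) : ↥M) with hxdef
  have hxo' : orderOf x = p := by rw [hxdef, orderOf_coe, orderOf_coe, hc]
  have hxP : x ∈ Pg := mem_map_of_mem _ c.2
  have hPR : Disjoint Pg R :=
    IsPGroup.disjoint_of_ne p 2 hpne _ _ (Pp.2.map _) hR2
  -- the 2-part of the lift
  set b := l * a with hb
  have hbbar : π b = π l * ub := by rw [hb, map_mul, show π a = ub from ha]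
  obtain ⟨i, hi⟩ := hlL
  have hb2 : orderOf (π b) = 2 := by
    apply orderOf_eq_prime
    · rw [hbbar, ← hi, pow_two]
      have h1 : ub * yb ^ i * ub⁻¹ = (yb ^ i)⁻¹ := by rw [← conj_zpow, hyinv, inv_zpow]
      calc yb ^ i * ub * (yb ^ i * ub) = yb ^ i * (ub * yb ^ i * ub⁻¹) * (ub * ub) := by group
        _ = 1 := by rw [h1, ← pow_two ub, ← hub, pow_orderOf_eq_one, mul_inv_cancel, one_mul]
    · intro h
      rw [hbbar, ← hi] at h
      have h1 : ub = (yb ^ i)⁻¹ := eq_inv_of_mul_eq_one_right h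
      have h2 : orderOf ub ∣ orderOf yb := by
        rw [h1, orderOf_inv]; exact orderOf_dvd_of_mem_zpowers (zpow_mem_zpowers yb i)
      rw [hub, hy] at h2
      exact hpne ((Nat.prime_dvd_prime_iff_eq Nat.prime_two hp).1 h2).symm
  obtain ⟨k, m, hm, hr⟩ := Nat.exists_eq_two_pow_mul_odd (n := orderOf b) (orderOf_pos _).ne'
  set u := b ^ m with hu
  have huN : u ∈ normalizer (Pg : Set ↥M) := pow_mem hl m
  have hubar : π u = π b := by
    obtain ⟨j, hj⟩ := hm
    rw [hu, map_pow, hj, pow_succ, pow_mul, ← hb2, pow_orderOf_eq_one, one_pow, one_mul]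
  have huR : u ∉ R := fun h => by
    have h1 : π u = 1 := (QuotientGroup.eq_one_iff u).2 h
    rw [hubar] at h1
    rw [h1, orderOf_one] at hb2
    norm_num at hb2
  have hu2 : u * u ∈ R := by
    have h1 : π (u * u) = 1 := by rw [map_mul, hubar, ← pow_two, ← hb2, pow_orderOf_eq_one]
    exact (QuotientGroup.eq_one_iff _).1 h1
  -- its square centralizes `x`
  have hcomm : Commute x (u * u) := by
    have h1 : x * (u * u) * x⁻¹ * (u * u)⁻¹ ∈ R :=
      mul_mem (hn.conj_mem _ hu2 x) (inv_mem hu2)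
    have h2 : x * (u * u) * x⁻¹ * (u * u)⁻¹ ∈ Pg := by
      rw [show x * (u * u) * x⁻¹ * (u * u)⁻¹ = x * ((u * u) * x⁻¹ * (u * u)⁻¹) by group]
      exact mul_mem hxP ((mem_normalizer_iff.1 (mul_mem huN huN) _).1 (inv_mem hxP))
    have h3 : x * (u * u) * x⁻¹ * (u * u)⁻¹ = 1 := disjoint_def.1 hPR h2 h1
    exact mul_inv_eq_iff_eq_mul.1 (mul_inv_eq_one.1 h3)
  have hx1' : (x : G) ≠ 1 := fun h => hp.ne_one (by rw [← hxo', orderOf_eq_one_iff.2 (Subtype.ext h)])
  have hxodd : Odd (orderOf (x : G)) := by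
    rw [orderOf_coe, hxo']; exact hp.odd_of_ne_two hpne
  have h4 : ((u * u : ↥M) : G) = 1 :=
    hG.fpf (isPGroup_rad M) hx1' hxodd ((hmem _).2 hu2) (congrArg Subtype.val hcomm.eq)
  refine ⟨u, u.2, ?_, fun h => huR ((hmem u).1 h)⟩
  refine orderOf_eq_prime (by rw [pow_two]; exact h4) fun h => huR ?_
  rw [show u = 1 from Subtype.ext h]
  exact one_mem R

/-! ### Strong embedding is impossible -/

theorem not_stronglyEmbedded [IsSimpleGroup G] (hG : IsCIT G) {P : Subgroup G} (hP : IsMaxLocal P)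
    (hF : FullSylow G) (hodd : ∀ g ∉ P, Odd (Nat.card ↥(P ⊓ P.map (MulAut.conj g).toMonoidHom))) :
    False := by
  classical
  haveI : Fact (Nat.Prime 2) := ⟨Nat.prime_two⟩
  obtain ⟨u, huP, hu, hur⟩ := exists_involution_outside hG hP
  have hPtop : P ≠ ⊤ := by
    intro h
    have hn : (rad P).Normal := normalizer_eq_top_iff.1 (hP.normalizer_rad.trans h)
    rcases hn.eq_bot_or_eq_top with h1 | h1
    · exact hP.rad_ne_bot h1
    · exact hur (h1 ▸ mem_top u)
  -- a central involution of a Sylow 2-subgroup inside `P` lies in `vee P`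
  obtain ⟨S, hS⟩ := hF P hP
  haveI : Nontrivial ↥(S : Subgroup G) := by
    obtain ⟨T, hT, -⟩ := exists_sylow_between hF hP (isPGroup_rad P) (rad_le P)
    refine (nontrivial_iff_ne_bot _).2 fun h => hP.rad_ne_bot (le_bot_iff.1 (hT.trans (le_of_eq ?_)))
    exact card_eq_one.1 (T.card_eq_multiplicity.trans (S.card_eq_multiplicity.symm.trans (card_eq_one.2 h)))
  haveI := IsPGroup.center_nontrivial S.2
  obtain ⟨c, hc⟩ : ∃ c : ↥(center ↥(S : Subgroup G)), orderOf c = 2 := by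
    obtain ⟨k, hk⟩ := (S.2.to_subgroup (center ↥(S : Subgroup G))).exists_card_eq
    refine exists_prime_orderOf_dvd_card' 2 ?_
    rcases k with _ | k
    · have := Finite.one_lt_card (α := ↥(center ↥(S : Subgroup G)))
      rw [hk] at this; simp at this
    · rw [hk]; exact dvd_pow_self 2 (Nat.succ_ne_zero k)
  set z : G := ((c : ↥(S : Subgroup G)) : G) with hzdef
  have hz : orderOf z = 2 := by rw [hzdef, orderOf_coe, orderOf_coe, hc]
  have hradS : rad P ≤ (S : Subgroup G) := rad_le_of_sylow ⟨hS, S.2, by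
    have h1 : (S : Subgroup G).relIndex P ∣ (S : Subgroup G).index :=
      ⟨P.index, (relIndex_mul_index hS).symm⟩
    exact (Nat.odd_iff.2 (Nat.two_dvd_ne_zero.1 S.not_dvd_index)).of_dvd_nat h1⟩
  have hzC : z ∈ centralizer (rad P : Set G) := mem_centralizer_iff.2 fun r hr =>
    congrArg Subtype.val (mem_center_iff.1 c.2 ⟨r, hradS hr⟩)
  have hzV : z ∈ vee P := subset_closure
    ⟨⟨hP.centralizer_rad_le hG hzC, hzC⟩, by rw [← hz, pow_orderOf_eq_one]⟩
  have hzP : z ∈ P := vee_le P hzV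
  -- centralizers of involutions of `P` lie in `P`
  have hcent : ∀ t ∈ P, orderOf t = 2 → ∀ g : G, g * t * g⁻¹ ∈ P → g ∈ P := by
    intro t ht ho g hg
    by_contra hgP
    have h2 : g * t * g⁻¹ ∈ P ⊓ P.map (MulAut.conj g).toMonoidHom := ⟨hg, t, ht, rfl⟩
    have h3 : orderOf (g * t * g⁻¹) ∣ Nat.card ↥(P ⊓ P.map (MulAut.conj g).toMonoidHom) := by
      have := orderOf_dvd_natCard (⟨_, h2⟩ : ↥(P ⊓ P.map (MulAut.conj g).toMonoidHom))
      rwa [← orderOf_coe] at this
    rw [Invol.orderOf_conj_eq, ho] at h3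
    exact Nat.not_even_iff_odd.2 (hodd g hgP) (even_iff_two_dvd.2 h3)
  -- an involution outside `P`
  obtain ⟨g, hg⟩ : ∃ g : G, g * z * g⁻¹ ∉ P := by
    by_contra hall
    push Not at hall
    exact hPtop (eq_top_iff.2 fun g _ => hcent z hzP hz g (hall g))
  set s := g * z * g⁻¹ with hs
  have hso : orderOf s = 2 := by rw [hs, Invol.orderOf_conj_eq, hz]
  have hconj : ∀ t ∈ P, orderOf t = 2 → IsConj t s := by
    intro t ht ho
    rcases Nat.even_or_odd (orderOf (t * s)) with he | ho'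
    swap
    · exact Invol.isConj_of_odd ho hso ho'
    obtain ⟨hw, hwt, hws⟩ := Invol.central_involution ho hso he
    set w := (t * s) ^ (orderOf (t * s) / 2)
    · refine absurd ?_ hg
      have hwP : w ∈ P := hcent t ht ho w (by rw [hwt.eq, mul_inv_cancel_right]; exact ht)
      exact hcent w hwP hw s (by rw [← hws.eq, mul_inv_cancel_right]; exact hwP)
  -- all involutions of `P` lie in `vee P`
  apply hur
  obtain ⟨h, hh⟩ := isConj_iff.1 ((hconj u huP hu).trans (hconj z hzP hz).symm)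
  have hhP : h ∈ P := hcent u huP hu h (by rw [hh]; exact hzP)
  have : h * u * h⁻¹ ∈ vee P := hh ▸ hzV
  exact vee_le_rad P ((mem_normalizer_iff.1 (le_normalizer_vee P hhP) u).2 this)

/-- If a single maximal local contains a given Sylow 2-subgroup, it is strongly embedded. -/
theorem exists_two_maxLocal [IsSimpleGroup G] (hG : IsCIT G) (hF : FullSylow G) {P : Subgroup G}
    (hP : IsMaxLocal P) {S : Sylow 2 G} (hS : (S : Subgroup G) ≤ P) :
    ∃ Q, IsMaxLocal Q ∧ Q ≠ P ∧ (S : Subgroup G) ≤ Q := by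
  classical
  haveI : Fact (Nat.Prime 2) := ⟨Nat.prime_two⟩
  by_contra hne
  push Not at hne
  -- every maximal local is a conjugate, the only one over each of its Sylow subgroups
  have huniq : ∀ M N : Subgroup G, IsMaxLocal M → IsMaxLocal N → ∀ T : Sylow 2 G,
      (T : Subgroup G) ≤ M → (T : Subgroup G) ≤ N → M = N := by
    intro M N hM hN T hTM hTN
    obtain ⟨g, hg⟩ := MulAction.exists_smul_eq G S T
    have key : ∀ L : Subgroup G, IsMaxLocal L → (T : Subgroup G) ≤ L →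
        L.map (MulAut.conj g⁻¹).toMonoidHom = P := by
      intro L hL hTL
      by_contra hLP
      refine hne _ (hL.map (MulAut.conj g⁻¹)) hLP fun x hx => ⟨g * x * g⁻¹, hTL ?_, by simp [mul_assoc]⟩
      rw [← hg, Sylow.coe_subgroup_smul]
      exact ⟨x, hx, rfl⟩
    exact map_injective (MulAut.conj g⁻¹).injective ((key M hM hTM).trans (key N hN hTN).symm)
  have hconjP : ∀ M : Subgroup G, IsMaxLocal M → ∃ k : G, M = P.map (MulAut.conj k).toMonoidHom := by
    intro M hM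
    obtain ⟨T, hT⟩ := hF M hM
    obtain ⟨k, hk⟩ := MulAction.exists_smul_eq G S T
    refine ⟨k, huniq _ _ hM (hP.map (MulAut.conj k)) T hT ?_⟩
    rw [← hk, Sylow.coe_subgroup_smul]
    exact map_mono hS
  refine not_stronglyEmbedded hG hP hF ?_
  -- a largest 2-subgroup in the intersection of two different maximal locals
  let Φ : Set (Subgroup G) := {Q | IsPGroup 2 ↥Q ∧
    ∃ M N, IsMaxLocal M ∧ IsMaxLocal N ∧ M ≠ N ∧ Q ≤ M ∧ Q ≤ N}
  suffices hΦ : ∀ Q ∈ Φ, Q = ⊥ by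
    intro g hg
    rw [← Nat.not_even_iff_odd, even_iff_two_dvd]
    intro h2
    obtain ⟨c, hc⟩ := exists_prime_orderOf_dvd_card' 2 h2
    have hcg : orderOf (c : G) = 2 := by rw [orderOf_coe, hc]
    have : zpowers (c : G) = ⊥ := hΦ _ ⟨IsPGroup.of_card (n := 1) (by rw [Nat.card_zpowers, hcg, pow_one]),
      P, P.map (MulAut.conj g).toMonoidHom, hP, hP.map _, fun h => hg (hP.normalizer_self ▸
        Core.mem_normalizer_iff_map_conj.2 h.symm), zpowers_le.2 c.2.1, zpowers_le.2 c.2.2⟩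
    rw [zpowers_eq_bot] at this
    rw [this, orderOf_one] at hcg
    norm_num at hcg
  by_contra hex
  push Not at hex
  obtain ⟨Q₀, hQ₀, hQ₀1⟩ := hex
  obtain ⟨Q, hle, hQmax⟩ := exists_maximal_ge_of_wellFoundedGT (· ∈ Φ) Q₀ hQ₀
  have hQ1 : Q ≠ ⊥ := fun h => hQ₀1 (le_bot_iff.1 (h ▸ hle))
  obtain ⟨hQ2, M, N, hM, hN, hMN, hQM, hQN⟩ := hQmax.prop
  -- in each of the two it grows
  have grow : ∀ L : Subgroup G, IsMaxLocal L → Q ≤ L → (∃ L', IsMaxLocal L' ∧ L' ≠ L ∧ Q ≤ L') →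
      ∃ Q' : Subgroup G, IsPGroup 2 ↥Q' ∧ Q < Q' ∧ Q' ≤ L ∧ Q' ≤ normalizer (Q : Set G) := by
    intro L hL hQL hL'
    obtain ⟨L', hL', hne', hQL'⟩ := hL'
    obtain ⟨T, hQT, hTL⟩ := exists_sylow_between hF hL hQ2 hQL
    have hlt : Q < (T : Subgroup G) := by
      refine lt_of_le_of_ne hQT fun e => hne' (huniq L' L hL' hL T ?_ hTL)
      rw [← e]; exact hQL'
    refine ⟨(T : Subgroup G) ⊓ normalizer (Q : Set G), T.2.to_le inf_le_left, ?_,
      inf_le_left.trans hTL, inf_le_right⟩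
    exact Fusion.lt_inf_normalizer T.2 hlt
  obtain ⟨Q₁, hQ₁, hlt₁, hQ₁M, hQ₁N⟩ := grow M hM hQM ⟨N, hN, Ne.symm hMN, hQN⟩
  obtain ⟨Q₂, hQ₂, hlt₂, hQ₂N, hQ₂n⟩ := grow N hN hQN ⟨M, hM, hMN, hQM⟩
  -- a maximal local containing both
  obtain ⟨L, hL, h1L, h2L⟩ : ∃ L, IsMaxLocal L ∧ Q₁ ≤ L ∧ Q₂ ≤ L := by
    by_cases hnc : Nonclosed (normalizer (Q : Set G))
    · obtain ⟨L, hL, hle⟩ := exists_maxLocal_ge ⟨isTwoLocal_normalizer hQ2 hQ1, hnc⟩
      exact ⟨L, hL, hQ₁N.trans hle, hQ₂n.trans hle⟩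
    · obtain ⟨T₁, hT₁⟩ := (hQ₁.comap_subtype : IsPGroup 2 ↥(Q₁.subgroupOf
        (normalizer (Q : Set G)))).exists_le_sylow
      obtain ⟨T₂, hT₂⟩ := (hQ₂.comap_subtype : IsPGroup 2 ↥(Q₂.subgroupOf
        (normalizer (Q : Set G)))).exists_le_sylow
      have he : T₁ = T₂ := by_contra fun h => hnc ⟨T₁, T₂, h⟩
      obtain ⟨T, hT⟩ := (T₁.2.map (normalizer (Q : Set G)).subtype).exists_le_sylow
      obtain ⟨k, hk⟩ := MulAction.exists_smul_eq G S T
      refine ⟨P.map (MulAut.conj k).toMonoidHom, hP.map _, ?_, ?_⟩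
      all_goals
        have hTk : (T : Subgroup G) ≤ P.map (MulAut.conj k).toMonoidHom := by
          rw [← hk, Sylow.coe_subgroup_smul]; exact map_mono hS
      · exact fun x hx => hTk (hT ⟨⟨x, hQ₁N hx⟩, hT₁ (mem_subgroupOf.2 hx), rfl⟩)
      · exact fun x hx => hTk (hT ⟨⟨x, hQ₂n hx⟩, he ▸ hT₂ (mem_subgroupOf.2 hx), rfl⟩)
  have key : ∀ (A : Subgroup G) (L' : Subgroup G), IsMaxLocal L' → IsPGroup 2 ↥A → Q < A → A ≤ L' →
      A ≤ L → L' = L := by
    intro A L' hL' hA hlt hAL' hAL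
    by_contra hne'
    exact absurd (hQmax.2 ⟨hA, L', L, hL', hL, hne', hAL', hAL⟩ hlt.le) (not_le_of_gt hlt)
  exact hMN ((key Q₁ M hM hQ₁ hlt₁ hQ₁M h1L).trans (key Q₂ N hN hQ₂ hlt₂ hQ₂N h2L).symm)

end Cfsg.Lib.CIT
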