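import Cfsg.Agent.Lib.CIT.PlaneCount
import Cfsg.Agent.Lib.Concrete.MTwentyOne

/-!
A plane configuration in a simple CIT group gives the group PSL(3, 4).
-/

set_option autoImplicit false
set_option linter.unusedSectionVars false

namespace Cfsg.Lib.CIT

open Cfsg.Lib.Concrete Cfsg.Lib.Concrete.MTwentyOne
open scoped Pointwise

universe u

variable {G : Type u} [Group G] [Finite G] [IsSimpleGroup G] {S : Sylow 2 G} {P Q VP VQ : Subgroup G}

/-- A finite simple CIT group with a plane configuration is `PSL(3, 4)`. -/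
theorem isoPSLThreeFour_of_config (hc : IsCIT G) (h : PlaneConfig S P Q VP VQ) : IsoPSLThreeFour G := by
  classical
  haveI : Fintype (G ⧸ P) := Fintype.ofFinite _
  obtain ⟨hN21, -⟩ := h.card_points hc
  have hα : Fintype.card (G ⧸ P) = 21 := Nat.card_eq_fintype_card.symm.trans hN21
  have hG : Nat.card G = 20160 := by rw [h.card_eq_mul, hN21]
  -- the lines
  let line : G → Finset (G ⧸ P) := fun g => Finset.univ.filter fun x => OnLine P Q g x
  have hline : ∀ g x, x ∈ line g ↔ OnLine P Q g x := fun g x => by simp [line]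
  let L : Set (Finset (G ⧸ P)) := Set.range line
  have hL : IsSteinerSystem 2 5 L := by
    refine ⟨?_, fun s hs => ?_⟩
    · rintro _ ⟨g, rfl⟩
      rw [← h.ncard_onLine g, ← Set.ncard_coe_finset]
      congr 1
      ext x
      simp [line]
    · obtain ⟨x, y, hxy, rfl⟩ := Finset.card_eq_two.1 hs
      obtain ⟨g, hx, hy⟩ := h.exists_line hc x y
      refine ⟨line g, ⟨⟨g, rfl⟩, ?_⟩, ?_⟩
      · intro w hw
        rcases Finset.mem_insert.1 hw with rfl | hw
        · exact (hline g _).2 hx
        · rw [Finset.mem_singleton.1 hw]; exact (hline g _).2 hy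
      · rintro l ⟨⟨g', rfl⟩, hsub⟩
        have hm := h.line_unique hc hxy hx hy ((hline g' x).1 (hsub (by simp))) ((hline g' y).1 (hsub (by simp)))
        ext w
        rw [hline, hline]
        exact ⟨fun hw => hw.of_mul_mem (by simpa using inv_mem hm), fun hw => hw.of_mul_mem hm⟩
  -- the action
  have hmem : ∀ g : G, MulAction.toPermHom G (G ⧸ P) g ∈ setSystemAut L := fun g => by
    refine mem_setSystemAut_of_subset ?_
    rintro _ ⟨a, rfl⟩
    refine ⟨g * a, ?_⟩
    ext x
    rw [hline, Finset.mem_smul_finset]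
    refine ⟨fun hx => ⟨g⁻¹ • x, (hline a _).2 (by simpa using hx.smul g⁻¹), smul_inv_smul g x⟩, ?_⟩
    rintro ⟨w, hw, rfl⟩
    exact ((hline a w).1 hw).smul g
  let ρ : G →* setSystemAut L := (MulAction.toPermHom G (G ⧸ P)).codRestrict _ hmem
  have hρ : Function.Injective ρ := by
    refine (MonoidHom.ker_eq_bot_iff ρ).1 ((ρ.normal_ker).eq_bot_or_eq_top.resolve_right fun e => ?_)
    have hP : P = ⊤ := by
      refine (Subgroup.eq_top_iff' P).2 fun g => mem_of_coe_eq_base ?_
      have hg : ρ g = 1 := MonoidHom.mem_ker.1 (e.ge (Subgroup.mem_top g))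
      have := Equiv.ext_iff.1 (congrArg Subtype.val hg) ((1 : G) : G ⧸ P)
      rw [← smul_base g]
      exact this
    have := h.card_P
    rw [hP, Subgroup.card_top, hG] at this
    omega
  -- the model
  let F := GaloisField 2 2
  haveI : Fintype F := Fintype.ofFinite F
  have hF : Fintype.card F = 4 := by
    rw [← Nat.card_eq_fintype_card, GaloisField.card 2 2 two_ne_zero]; rfl
  haveI : Fintype (PPt F) := Fintype.ofFinite _
  obtain ⟨e, he⟩ := plane_iso (card_PPt F hF) hα (projLines_steiner F hF) hL
  let ψ : Matrix.ProjectiveSpecialLinearGroup (Fin 3) F →* setSystemAut L :=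
    (autEquivOfIso e he).toMonoidHom.comp ((pslPerm F).codRestrict _ (pslPerm_mem F))
  have hψ : Function.Injective ψ :=
    (autEquivOfIso e he).injective.comp fun a b hab => pslPerm_injective F (congrArg Subtype.val hab)
  have hcard : Nat.card ψ.range = 20160 := by
    rw [← Nat.card_congr (MonoidHom.ofInjective hψ).toEquiv, card_psl34 F hF]
  have hidx : ψ.range.index ≤ 6 := by
    have h1 := card_plane_aut_le hα hL
    rw [← Subgroup.card_mul_index ψ.range, hcard] at h1
    omega
  have hHidx : (ψ.range.comap ρ).index ≤ 6 := by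
    rw [Subgroup.index_comap]
    refine le_trans ?_ hidx
    have h0 : ψ.range.relIndex ⊤ ≠ 0 := by
      rw [Subgroup.relIndex_top_right]; exact Subgroup.index_ne_zero_of_finite
    have := Subgroup.relIndex_le_of_le_right (le_top (a := ρ.range)) h0
    rwa [Subgroup.relIndex_top_right] at this
  have hH : ψ.range.comap ρ = ⊤ := by
    by_contra hne
    set H := ψ.range.comap ρ
    have hcore : H.normalCore = ⊥ :=
      H.normalCore_normal.eq_bot_or_eq_top.resolve_right fun e => hne (top_unique (e ▸ H.normalCore_le))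
    have hinj : Function.Injective (MulAction.toPermHom G (G ⧸ H)) :=
      (MonoidHom.ker_eq_bot_iff _).1 ((Subgroup.normalCore_eq_ker H).symm.trans hcore)
    have := Nat.card_le_card_of_injective _ hinj
    rw [Nat.card_perm, ← Subgroup.index, hG] at this
    have h720 : H.index.factorial ≤ Nat.factorial 6 := Nat.factorial_le hHidx
    norm_num [Nat.factorial] at h720
    omega
  have hle : ρ.range ≤ ψ.range := by
    rintro _ ⟨g, rfl⟩
    exact hH.ge (Subgroup.mem_top g)
  have heq : ρ.range = ψ.range := Subgroup.eq_of_le_of_card_ge hle (by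
    rw [hcard, ← Nat.card_congr (MonoidHom.ofInjective hρ).toEquiv, hG])
  exact ⟨F, inferInstance, inferInstance, hF,
    ⟨(MonoidHom.ofInjective hρ).trans ((MulEquiv.subgroupCongr heq).trans (MonoidHom.ofInjective hψ).symm)⟩⟩

end Cfsg.Lib.CIT
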