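import Cfsg.Agent.Lib.CIT.PushUp
import Cfsg.Agent.Lib.CIT.Global

/-!
The pushing-up result in the form used by the global argument.
-/

set_option autoImplicit false
set_option linter.style.haveILetI false

namespace Cfsg.Lib.CIT

open Subgroup
open Cfsg.Lib

universe u

variable {G : Type u} [Group G] [Finite G]

omit [Finite G] in
theorem FFProvider.ffHyp (hp : FFProvider G) : FFHyp G := by
  intro M T A hM hT hAT hAe hAR hle
  refine hp M T A hM hT hAT hAR (fun a ha => ⟨?_, fun b hb => ?_⟩) hle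
  · rw [hAe.2 a ha]; exact one_mem _
  · rw [show a⁻¹ * b⁻¹ * a * b = (b * a)⁻¹ * (a * b) by group, comm_of_elementary hAe ha hb,
      inv_mul_cancel]
    exact one_mem _

theorem fullSylow [IsSimpleGroup G] (hna : ¬ IsMulCommutative G) (hG : IsCIT G)
    (hnd : ¬ HasDihedralSylow G) (hp : FFProvider G) : FullSylow G := by
  haveI : Fact (Nat.Prime 2) := ⟨Nat.prime_two⟩
  intro M hM
  obtain ⟨P⟩ : Nonempty (Sylow 2 ↥M) := inferInstance
  have hT : Cfsg.IsSylowTwoIn ((P : Subgroup ↥M).map M.subtype) M := by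
    refine ⟨map_subtype_le _, P.2.map _, ?_⟩
    show Odd (((P : Subgroup ↥M).map M.subtype).subgroupOf M).index
    rw [subgroupOf, comap_map_eq_self_of_injective M.subtype_injective]
    exact Nat.odd_iff.2 (Nat.two_dvd_ne_zero.1 P.not_dvd_index)
  obtain ⟨S, hS⟩ := hT.2.1.exists_le_sylow
  exact ⟨S, (Subgroup.eq_of_le_of_card_ge hS
    (card_sylowTwoIn_eq hna hG hnd hp.ffHyp hM hT S).ge).ge.trans hT.1⟩

end Cfsg.Lib.CIT
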