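import Cfsg.Agent.Lib.CIT.Cases
import Cfsg.Agent.Lib.CIT.Plane
import Cfsg.Agent.Lib.CIT.PushUpFull
import Cfsg.Agent.Lib.CIT.PSLList
import Cfsg.Agent.Lib.CIT.Quot.Structure
import Cfsg.Agent.Lib.GW.Main
import Cfsg.Agent.Lib.Local.QuadTorus.Basic

/-!
The trichotomy for simple CIT groups, and the dihedral branch.
-/

set_option autoImplicit false
set_option linter.style.haveILetI false

namespace Cfsg.Lib.CIT

open Subgroup
open Cfsg.Lib

universe u

/-- The failure of factorization provider, relative to the induction hypothesis. -/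
def FFHolds : Prop :=
  ∀ (G : Type u) [Group G] [Finite G] [IsSimpleGroup G], ¬ IsMulCommutative G → IsCIT G →
    SmallerKnown.{u} (Nat.card G) → FFProvider G

variable {G : Type u} [Group G] [Finite G]

/-- If the Sylow 2-subgroups are not TI, some maximal local exists. -/
theorem exists_maxLocal (hTI : ¬ SylowTI G) : ∃ M : Subgroup G, IsMaxLocal M := by
  classical
  haveI : Fact (Nat.Prime 2) := ⟨Nat.prime_two⟩
  simp only [SylowTI, not_forall] at hTI
  obtain ⟨S₀, T₀, hne₀, hD₀⟩ := hTI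
  let 𝒮 : Set (Sylow 2 G × Sylow 2 G) :=
    {x | x.1 ≠ x.2 ∧ (x.1 : Subgroup G) ⊓ (x.2 : Subgroup G) ≠ ⊥}
  obtain ⟨⟨S, T⟩, ⟨hne, hD⟩, hmax⟩ := Set.exists_max_image 𝒮
    (fun x => Nat.card ↥((x.1 : Subgroup G) ⊓ (x.2 : Subgroup G))) (Set.toFinite _)
    ⟨(S₀, T₀), hne₀, hD₀⟩
  set D := (S : Subgroup G) ⊓ (T : Subgroup G) with hDdef
  have hDS : D < (S : Subgroup G) := lt_of_le_of_ne inf_le_left fun e =>
    hne (Sylow.ext (S.3 T.2 (inf_eq_left.1 e)).symm)
  have hDT : D < (T : Subgroup G) := lt_of_le_of_ne inf_le_right fun e =>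
    hne (Sylow.ext (T.3 S.2 (inf_eq_right.1 e)))
  have hN : Nonclosed (normalizer (D : Set G)) := by
    by_contra hc
    set N := normalizer (D : Set G)
    have huniq : Subsingleton (Sylow 2 ↥N) := ⟨fun a b => by_contra fun hab => hc ⟨a, b, hab⟩⟩
    obtain ⟨U₀⟩ : Nonempty (Sylow 2 ↥N) := inferInstance
    obtain ⟨U, hU⟩ := (U₀.2.map N.subtype).exists_le_sylow
    have key : ∀ R : Sylow 2 G, D < (R : Subgroup G) → U = R := by
      intro R hR
      by_contra hUR
      have h1 : (R : Subgroup G) ⊓ N ≤ (U : Subgroup G) := by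
        intro x hx
        obtain ⟨V, hV⟩ := (R.2.comap_of_injective N.subtype N.subtype_injective).exists_le_sylow
        rw [Subsingleton.elim V U₀] at hV
        exact hU ⟨⟨x, hx.2⟩, hV hx.1, rfl⟩
      have h2 := Local.QuadTorus.lt_inf_normalizer' R.2 hR
      have h3 : D < (U : Subgroup G) ⊓ (R : Subgroup G) := h2.trans_le (le_inf h1 inf_le_left)
      have h4 := hmax (U, R) ⟨hUR, fun e => hD (le_bot_iff.1 (h3.le.trans e.le))⟩
      exact h3.ne (eq_of_le_of_card_ge h3.le h4)
    exact hne ((key S hDS).symm.trans (key T hDT))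
  obtain ⟨M, hM, -⟩ := exists_maxLocal_ge
    ⟨isTwoLocal_normalizer (S.2.to_le inf_le_left) hD, hN⟩
  exact ⟨M, hM⟩

theorem trichotomy_of_provider [IsSimpleGroup G] (hna : ¬ IsMulCommutative G) (hG : IsCIT G)
    (hFF : FFProvider G) : Trichotomy G := by
  by_cases hTI : SylowTI G
  · exact Or.inl hTI
  by_cases hdi : HasDihedralSylow G
  · exact Or.inr (Or.inl hdi)
  obtain ⟨S, P, Q, q, hP, hQ, h⟩ :=
    exists_pairFacts hG (fullSylow hna hG hdi hFF) hFF (exists_maxLocal hTI)
  obtain ⟨n, hn⟩ := h.shape_left.pow_two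
  have h2 := h.shape_left.two_le
  have h4 := h.q_le_four hG hFF hP hQ
  rcases (show n = 1 ∨ n = 2 by
    rcases n with _ | _ | _ | n
    · norm_num at hn; omega
    · exact Or.inl rfl
    · exact Or.inr rfl
    · have := Nat.one_le_two_pow (n := n)
      rw [pow_succ, pow_succ, pow_succ] at hn
      omega) with rfl | rfl
  · rw [pow_one] at hn
    subst hn
    exact absurd h.hasDihedralSylow hdi
  · norm_num at hn
    subst hn
    exact Or.inr (Or.inr (isoPSLThreeFour_of_config hG (h.planeConfig hG hFF hP hQ)))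

/-- The trichotomy by induction on the order. -/
theorem trichotomy (hff : FFHolds.{u}) (n : ℕ) : SmallerKnown.{u} n := by
  induction n with
  | zero => intro N _ _ _ _ _ h; omega
  | succ n ih =>
    intro N _ _ _ hna hG h
    rcases Nat.lt_succ_iff_lt_or_eq.1 h with hlt | heq
    · exact ih N hna hG hlt
    · exact trichotomy_of_provider hna hG (hff N hna hG (heq ▸ ih))

omit [Finite G] in
theorem HasDihedralSylow.sylowDihedral (h : HasDihedralSylow G) : GW.SylowDihedral G := fun S => by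
  obtain ⟨k, hk, e⟩ := h S
  exact ⟨2 ^ k, by calc 2 = 2 ^ 1 := rfl
                        _ ≤ 2 ^ k := Nat.pow_le_pow_right two_pos (by omega), e⟩

theorem not_isCIT_alternating_seven : ¬ IsCIT (alternatingGroup (Fin 7)) := by
  intro h
  let t : alternatingGroup (Fin 7) :=
    ⟨Equiv.swap 0 1 * Equiv.swap 2 3, by rw [Equiv.Perm.mem_alternatingGroup]; decide +kernel⟩
  let c : alternatingGroup (Fin 7) :=
    ⟨Equiv.swap 4 5 * Equiv.swap 5 6, by rw [Equiv.Perm.mem_alternatingGroup]; decide +kernel⟩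
  haveI : Fact (Nat.Prime 2) := ⟨Nat.prime_two⟩
  haveI : Fact (Nat.Prime 3) := ⟨Nat.prime_three⟩
  have ht : orderOf t = 2 := orderOf_eq_prime (Subtype.ext (by decide +kernel)) fun e =>
    absurd (congrArg Subtype.val e) (by decide +kernel)
  have hc : orderOf c = 3 := orderOf_eq_prime (Subtype.ext (by decide +kernel)) fun e =>
    absurd (congrArg Subtype.val e) (by decide +kernel)
  have hct : c * t = t * c := Subtype.ext (by decide +kernel)
  obtain ⟨k, hk⟩ := h t ht ⟨c, mem_centralizer_singleton_iff.2 hct⟩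
  have hd : 3 ∣ 2 ^ k := by
    rw [← hc]
    exact orderOf_dvd_of_pow_eq_one (congrArg Subtype.val hk)
  exact absurd (Nat.Prime.dvd_of_dvd_pow Nat.prime_three hd) (by norm_num)

/-- The dihedral branch. -/
theorem psl_of_dihedral [IsSimpleGroup G] (hna : ¬ IsMulCommutative G) (hG : IsCIT G)
    (hd : HasDihedralSylow G) :
    ∃ (F : Type) (_ : Field F) (_ : Fintype F),
      Nonempty (G ≃* Matrix.ProjectiveSpecialLinearGroup (Fin 2) F) := by
  rcases GW.simpleGW G hna hd.sylowDihedral with ⟨F, i, j, -, -, e⟩ | ⟨⟨e⟩⟩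
  · exact ⟨F, i, j, e⟩
  · refine (not_isCIT_alternating_seven fun t ht x => ?_).elim
    have ho : orderOf (e.symm t) = 2 := (MulEquiv.orderOf_eq e.symm t).trans ht
    have hx : e.symm x ∈ centralizer ({e.symm t} : Set G) := mem_centralizer_singleton_iff.2 (by
      rw [← map_mul, ← map_mul, mem_centralizer_singleton_iff.1 x.2])
    obtain ⟨k, hk⟩ := hG _ ho ⟨_, hx⟩
    refine ⟨k, Subtype.ext (e.symm.injective ?_)⟩
    have h2 : e.symm (x : alternatingGroup (Fin 7)) ^ 2 ^ k = 1 := congrArg Subtype.val hk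
    simpa using h2

end Cfsg.Lib.CIT
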