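import Cfsg.Agent.Lib.CIT.Consumers.Inputs
import Cfsg.Agent.Lib.Dickson.OddProduct
import Cfsg.Agent.S0820
import Cfsg.Agent.S0205
import Cfsg.Agent.S0325

/-!
Non-solvable groups in which the centralizer of every involution is a 2-group: modulo the 2-core there is
a normal simple subgroup of 2-power index, known by the classification of simple CIT groups.
-/

set_option autoImplicit false
set_option linter.style.haveILetI false

namespace Cfsg.Lib.CIT.NonSolv

open Subgroup
open Cfsg.Lib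

universe u

variable {X : Type u} [Group X] [Finite X]

/-- The odd core of a non-solvable CIT group is trivial. -/
theorem oddCore_eq_bot (hG : IsCIT X) (hns : ¬ Group.IsSolvable X) : oddCore X = ⊥ := by
  haveI : Fact (Nat.Prime 2) := ⟨Nat.prime_two⟩
  by_contra hO
  haveI hn : (oddCore X).Normal := (inferInstance : (Cfsg.pPrimeCore 2 X).Normal)
  have h2 : (Nat.card ↥(oddCore X)).Coprime 2 := Core.pPrimeCore_coprime 2 X
  haveI hOs : Group.IsSolvable ↥(oddCore X) :=
    Cfsg.Agent.S0205.result (Nat.Coprime.odd_of_left h2.symm)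
  obtain ⟨S⟩ : Nonempty (Sylow 2 X) := inferInstance
  have hdvd : 2 ∣ Nat.card X := by
    by_contra h
    exact hns (Cfsg.Agent.S0205.result (Nat.odd_iff.2 (Nat.two_dvd_ne_zero.1 h)))
  haveI : Nontrivial (S : Subgroup X) := (nontrivial_iff_ne_bot _).mpr (S.ne_bot_of_dvd_card hdvd)
  obtain ⟨z, -, hzc, hz⟩ := PGroup.exists_mem_center_orderOf_eq S.2
    (N := (⊤ : Subgroup (S : Subgroup X))) top_ne_bot
  have hz' : orderOf (z : X) = 2 := by rw [Subgroup.orderOf_coe, hz]
  have hiso : Cfsg.IsIsolatedInvolution (z : X) := ZStar.isolated_of_unique_involution S hz' fun x hx hx2 =>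
    eq_of_commute_of_oddCore hG hO hx2 hz' (congrArg Subtype.val (mem_center_iff.mp hzc ⟨x, hx⟩))
  set w : X := (z : X) with hw
  let f : ↥(oddCore X) → ↥(oddCore X) := fun n =>
    ⟨(n : X) * (w * (n : X)⁻¹ * w⁻¹), mul_mem n.2 (hn.conj_mem _ (inv_mem n.2) w)⟩
  have hinj : Function.Injective f := by
    intro a b e
    have e' : (a : X) * (w * (a : X)⁻¹ * w⁻¹) = (b : X) * (w * (b : X)⁻¹ * w⁻¹) := congrArg Subtype.val e
    have hc : ((b : X)⁻¹ * a) * w = w * ((b : X)⁻¹ * a) := by
      calc ((b : X)⁻¹ * a) * w = (b : X)⁻¹ * ((a : X) * (w * (a : X)⁻¹ * w⁻¹)) * w * (a : X) := by group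
        _ = _ := by rw [e']; group
    exact Subtype.ext (inv_mul_eq_one.mp (eq_one_of_oddCore (mul_mem (inv_mem b.2) a.2) (hG w hz')
      (mem_centralizer_singleton_iff.mpr hc))).symm
  have hsurj : Function.Surjective ((QuotientGroup.mk' (oddCore X)).comp (centralizer ({w} : Set X)).subtype) := by
    intro q
    obtain ⟨x, rfl⟩ := QuotientGroup.mk'_surjective _ q
    have ho : w * x * w⁻¹ * x⁻¹ ∈ oddCore X := ZStar.zStarHolds X w hiso x
    have ho' : x * w * x⁻¹ * w⁻¹ ∈ oddCore X := by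
      have := hn.conj_mem _ (inv_mem ho) (w⁻¹ * w⁻¹)
      have hww : w⁻¹ = w := Invol.inv_eq_self hz'
      have hw2 : w * w = 1 := Invol.inv_mul_self hz'
      rw [hww, hw2, inv_one, one_mul, mul_one] at this
      simpa [mul_inv_rev, hww, mul_assoc] using this
    obtain ⟨n, hn'⟩ := (Finite.injective_iff_surjective.mp hinj) ⟨_, ho'⟩
    have e : (n : X) * (w * (n : X)⁻¹ * w⁻¹) = x * w * x⁻¹ * w⁻¹ := congrArg Subtype.val hn'
    have hc : ((n : X)⁻¹ * x) * w = w * ((n : X)⁻¹ * x) := by
      calc ((n : X)⁻¹ * x) * w = (n : X)⁻¹ * (x * w * x⁻¹ * w⁻¹) * w * x := by group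
        _ = _ := by rw [← e]; group
    refine ⟨⟨_, mem_centralizer_singleton_iff.mpr hc⟩, ?_⟩
    show ((((n : X)⁻¹ * x : X)) : X ⧸ oddCore X) = (x : X ⧸ oddCore X)
    rw [QuotientGroup.eq]
    have := hn.conj_mem _ n.2 x⁻¹
    rw [mul_inv_rev, inv_inv]
    rwa [inv_inv] at this
  haveI := (hG w hz').isNilpotent
  haveI : Group.IsSolvable (X ⧸ oddCore X) := Group.isSolvable_of_surjective hsurj
  exact hns (Group.isSolvable_of_ker_le_range (oddCore X).subtype (QuotientGroup.mk' (oddCore X)) (by simp))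

theorem pCore_two_le_of_normal {N : Subgroup X} [N.Normal] (hO : Cfsg.pCore 2 X = ⊥) :
    Cfsg.pCore 2 N = ⊥ := by
  haveI : Fact (Nat.Prime 2) := ⟨Nat.prime_two⟩
  have h : (Cfsg.pCore 2 N).map N.subtype ≤ Cfsg.pCore 2 X :=
    Core.le_pCore ((Core.pCore_isPGroup 2 N).map _)
  rw [hO, le_bot_iff, Subgroup.map_eq_bot_iff_of_injective _ N.subtype_injective] at h
  exact h

/-- A non-solvable CIT group with trivial 2-core has a simple non-abelian normal subgroup. -/
theorem exists_simple_normal (hG : IsCIT X) (hns : ¬ Group.IsSolvable X) (hP : Cfsg.pCore 2 X = ⊥) :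
    ∃ N : Subgroup X, ∃ _ : N.Normal, IsSimpleGroup N ∧ ¬ IsMulCommutative N := by
  haveI : Fact (Nat.Prime 2) := ⟨Nat.prime_two⟩
  have hO := oddCore_eq_bot hG hns
  haveI : Nontrivial X := by
    by_contra h
    rw [not_nontrivial_iff_subsingleton] at h
    exact hns inferInstance
  obtain ⟨N, hNn, hNb, hNmin⟩ : ∃ N : Subgroup X, N.Normal ∧ N ≠ ⊥ ∧
      ∀ K : Subgroup X, K.Normal → K ≤ N → K ≠ ⊥ → K = N := by
    obtain ⟨N, -, hN⟩ := exists_minimal_le_of_wellFoundedLT
      (fun N : Subgroup X => N.Normal ∧ N ≠ ⊥) ⊤ ⟨inferInstance, top_ne_bot⟩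
    exact ⟨N, hN.prop.1, hN.prop.2, fun K hK hle hne => le_antisymm hle (hN.2 ⟨hK, hne⟩ hle)⟩
  haveI := hNn
  have hON := oddCore_subgroup_eq_bot hO N
  have hPN := pCore_two_le_of_normal (N := N) hP
  have hcit := hG.subgroup N
  have heven : ∀ L : Subgroup N, L.Normal → L ≠ ⊥ → ∃ u ∈ L, orderOf u = 2 := by
    intro L hL hne
    by_cases hd : 2 ∣ Nat.card L
    · obtain ⟨u, hu⟩ := exists_prime_orderOf_dvd_card' (G := L) 2 hd
      exact ⟨u, u.2, by rw [← hu, Subgroup.orderOf_coe]⟩
    · have : L ≤ oddCore N := Core.le_pPrimeCore ((Nat.prime_two.coprime_iff_not_dvd).mpr hd).symm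
      rw [hON, le_bot_iff] at this
      exact absurd this hne
  haveI : Nontrivial N := (nontrivial_iff_ne_bot _).mpr hNb
  refine ⟨N, hNn, ⟨fun K hK => ?_⟩, fun hc => ?_⟩
  · by_contra hKtriv
    push Not at hKtriv
    obtain ⟨L, hLK, hL⟩ := exists_minimal_le_of_wellFoundedLT
      (fun L : Subgroup N => L.Normal ∧ L ≠ ⊥) K ⟨hK, hKtriv.1⟩
    haveI := hL.prop.1
    obtain ⟨x, hx⟩ : ∃ x : X, ¬ ∀ l ∈ L, MulAut.conjNormal x l ∈ L := by
      by_contra h
      push Not at h
      have hn : (L.map N.subtype).Normal := ⟨fun a ha x => by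
        obtain ⟨l, hl, rfl⟩ := ha
        exact ⟨MulAut.conjNormal x l, h x l hl, MulAut.conjNormal_apply x l⟩⟩
      have htop := hNmin _ hn (map_subtype_le _)
        ((Subgroup.map_eq_bot_iff_of_injective _ N.subtype_injective).not.mpr hL.prop.2)
      refine hKtriv.2 (top_le_iff.mp (le_trans (fun y _ => ?_) hLK))
      obtain ⟨l, hl, hly⟩ := (htop.symm ▸ y.2 : (y : X) ∈ L.map N.subtype)
      rwa [← Subtype.ext hly]
    let c : N ≃* N := MulAut.conjNormal x
    set L₂ := L.map c.toMonoidHom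
    haveI : L₂.Normal := Subgroup.Normal.map inferInstance _ c.surjective
    have hinf : L ⊓ L₂ = ⊥ := by
      by_contra hne
      have h1 : L ≤ L ⊓ L₂ := hL.2 ⟨Subgroup.normal_inf_normal L L₂, hne⟩ inf_le_left
      have h2 : L = L₂ := Subgroup.eq_of_le_of_card_ge (h1.trans inf_le_right)
        (le_of_eq (Nat.card_congr (L.equivMapOfInjective c.toMonoidHom c.injective).toEquiv).symm)
      refine hx fun l hl => ?_
      have : c l ∈ L₂ := ⟨l, hl, rfl⟩
      rwa [← h2] at this
    obtain ⟨u, hu, hu2⟩ := heven L inferInstance hL.prop.2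
    have hL22 : IsPGroup 2 L₂ := (hcit u hu2).to_le fun b hb => mem_centralizer_singleton_iff.mpr
      (Subgroup.commute_of_normal_of_disjoint L L₂ inferInstance inferInstance
        (disjoint_iff.mpr hinf) u b hu hb).eq.symm
    have hb : L₂ ≤ Cfsg.pCore 2 N := Core.le_pCore hL22
    rw [hPN, le_bot_iff] at hb
    exact hL.prop.2 ((Subgroup.map_eq_bot_iff_of_injective L (f := c.toMonoidHom) c.injective).mp hb)
  · obtain ⟨u, -, hu⟩ := heven ⊤ inferInstance top_ne_bot
    have h2 : IsPGroup 2 (⊤ : Subgroup N) := (hcit u hu).to_le fun b _ =>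
      mem_centralizer_singleton_iff.mpr (hc.is_comm.comm b u)
    have hb : (⊤ : Subgroup N) ≤ Cfsg.pCore 2 N := Core.le_pCore h2
    rw [hPN, le_bot_iff] at hb
    exact top_ne_bot hb

/-- In a simple CIT group with TI Sylow 2-subgroups all involutions are conjugate. -/
theorem isConj_of_sylowTI [IsSimpleGroup X] (hna : ¬ IsMulCommutative X) (hG : IsCIT X) (hTI : SylowTI X)
    {u v : X} (hu : orderOf u = 2) (hv : orderOf v = 2) : IsConj u v := by
  haveI : Fact (Nat.Prime 2) := ⟨Nat.prime_two⟩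
  by_contra hne
  obtain ⟨S, hS⟩ := (hG v hv).exists_le_sylow
  have hvS : v ∈ (S : Subgroup X) := hS (mem_centralizer_singleton_iff.mpr rfl)
  have key : ∀ g : X, g * u * g⁻¹ ∈ (S : Subgroup X) := by
    intro g
    have hu' : orderOf (g * u * g⁻¹) = 2 := by rw [Invol.orderOf_conj_eq, hu]
    obtain ⟨w, hw, h1, h2⟩ : ∃ w, orderOf w = 2 ∧ Commute w (g * u * g⁻¹) ∧ Commute w v := by
      have hev : Even (orderOf (g * u * g⁻¹ * v)) := by
        rw [← Nat.not_odd_iff_even]
        exact fun h => hne ((isConj_iff.mpr ⟨g, rfl⟩).trans (Invol.isConj_of_odd hu' hv h))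
      exact ⟨_, Invol.central_involution hu' hv hev⟩
    obtain ⟨T, hT⟩ := (hG w hw).exists_le_sylow
    have hwS : w ∈ (S : Subgroup X) := hS (mem_centralizer_singleton_iff.mpr h2.eq)
    have hwT : w ∈ (T : Subgroup X) := hT (mem_centralizer_singleton_iff.mpr rfl)
    have hST : S = T := by
      by_contra hd
      have hmem : w ∈ (S : Subgroup X) ⊓ (T : Subgroup X) := ⟨hwS, hwT⟩
      rw [hTI S T hd, Subgroup.mem_bot] at hmem
      rw [hmem, orderOf_one] at hw
      omega
    rw [hST]
    exact hT (mem_centralizer_singleton_iff.mpr h1.eq.symm)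
  have hle : normalClosure ({u} : Set X) ≤ (S : Subgroup X) := by
    refine (closure_le _).mpr fun y hy => ?_
    obtain ⟨a, ha, hay⟩ := Group.mem_conjugatesOfSet_iff.mp hy
    rw [Set.mem_singleton_iff] at ha
    subst ha
    obtain ⟨g, rfl⟩ := isConj_iff.mp hay
    exact key g
  rcases (normalClosure_normal (s := ({u} : Set X))).eq_bot_or_eq_top with e | e
  · have := subset_normalClosure (s := ({u} : Set X)) rfl
    rw [e, SetLike.mem_coe, Subgroup.mem_bot] at this
    rw [this, orderOf_one] at hu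
    omega
  · rw [e, top_le_iff] at hle
    haveI := ((hle ▸ S.2 : IsPGroup 2 (⊤ : Subgroup X)).of_equiv topEquiv).isNilpotent
    exact hna ⟨⟨IsSimpleGroup.comm_iff_isSolvable.2 inferInstance⟩⟩

/-- All involutions of a simple CIT group are conjugate. -/
theorem isConj_involutions [IsSimpleGroup X] (hna : ¬ IsMulCommutative X) (hG : IsCIT X)
    {u v : X} (hu : orderOf u = 2) (hv : orderOf v = 2) : IsConj u v := by
  rcases trichotomy (ffHolds tiHolds) (Nat.card X + 1) X hna hG (Nat.lt_succ_self _) with h | h | h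
  · exact isConj_of_sylowTI hna hG h hu hv
  · obtain ⟨F, _, _, ⟨e⟩⟩ := psl_of_dihedral hna hG h
    have := Cfsg.Lib.Dickson.isConj_of_involutions (four_le_of_iso hna e)
      ((e.orderOf_eq u).trans hu) ((e.orderOf_eq v).trans hv)
    simpa using e.symm.toMonoidHom.map_isConj this
  · obtain ⟨F, _, _, hF, ⟨e⟩⟩ := h
    have := Cfsg.Agent.S0820.result hF (e u) (e v) ((e.orderOf_eq u).trans hu) ((e.orderOf_eq v).trans hv)
    simpa using e.symm.toMonoidHom.map_isConj this

/-- In a CIT group a normal simple subgroup has 2-power index. -/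
theorem exists_two_pow_index (hG : IsCIT X) (T : Subgroup X) [T.Normal] [IsSimpleGroup T]
    (hna : ¬ IsMulCommutative T) : ∃ k : ℕ, T.index = 2 ^ k := by
  haveI : Fact (Nat.Prime 2) := ⟨Nat.prime_two⟩
  obtain ⟨⟨t, htT⟩, ht⟩ := exists_prime_orderOf_dvd_card' (G := T) 2 (two_dvd_card hna)
  have ht' : orderOf t = 2 := by rw [← ht, Subgroup.orderOf_mk]
  have hs : Function.Surjective ((QuotientGroup.mk' T).comp (centralizer ({t} : Set X)).subtype) := by
    intro q
    obtain ⟨x, rfl⟩ := QuotientGroup.mk'_surjective _ q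
    have hx : x * t * x⁻¹ ∈ T := Subgroup.Normal.conj_mem inferInstance t htT x
    have hxo : orderOf (⟨_, hx⟩ : T) = 2 := by rw [Subgroup.orderOf_mk, Invol.orderOf_conj_eq, ht']
    obtain ⟨⟨a, ha⟩, hac⟩ := isConj_iff.mp (isConj_involutions hna (hG.subgroup T) ht hxo)
    have hac' : a * t * a⁻¹ = x * t * x⁻¹ := congrArg Subtype.val hac
    refine ⟨⟨a⁻¹ * x, mem_centralizer_singleton_iff.mpr ?_⟩, ?_⟩
    · calc a⁻¹ * x * t = a⁻¹ * (x * t * x⁻¹) * x := by group
        _ = _ := by rw [← hac']; group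
    · show (((a⁻¹ * x : X)) : X ⧸ T) = (x : X ⧸ T)
      rw [QuotientGroup.eq, mul_inv_rev, inv_inv]
      simpa [inv_inv] using Subgroup.Normal.conj_mem (inferInstance : T.Normal) a ha x⁻¹
  exact IsPGroup.iff_card.mp ((hG t ht').of_surjective _ hs)

/-- A non-solvable CIT group has, modulo its 2-core, a normal simple CIT subgroup of 2-power index. -/
theorem reduce {G : Type u} [Group G] [Finite G] (hG : IsCIT G) (hns : ¬ Group.IsSolvable G) :
    IsCIT (G ⧸ Cfsg.pCore 2 G) ∧ ∃ (T : Subgroup (G ⧸ Cfsg.pCore 2 G)) (_ : T.Normal) (k : ℕ),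
      IsSimpleGroup T ∧ ¬ IsMulCommutative T ∧ CITList T ∧ T.index = 2 ^ k := by
  haveI : Fact (Nat.Prime 2) := ⟨Nat.prime_two⟩
  have hP := Core.pCore_isPGroup 2 G
  have hX : IsCIT (G ⧸ Cfsg.pCore 2 G) := hG.quotient _ hP
  have hXns : ¬ Group.IsSolvable (G ⧸ Cfsg.pCore 2 G) := fun h => by
    haveI := h
    haveI := hP.isNilpotent
    exact hns (Group.isSolvable_of_ker_le_range (Cfsg.pCore 2 G).subtype
      (QuotientGroup.mk' (Cfsg.pCore 2 G)) (by simp))
  obtain ⟨T, hTn, hTs, hTna⟩ := exists_simple_normal hX hXns Core.pCore_quotient_pCore_eq_bot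
  obtain ⟨k, hk⟩ := exists_two_pow_index hX T hTna
  exact ⟨hX, T, hTn, k, hTs, hTna, citListHolds T hTna (hX.subgroup T), hk⟩

/-- In a finite cyclic group the order determines the generated subgroup. -/
theorem zpowers_eq_of_orderOf_eq {J : Type*} [Group J] [Finite J] [IsCyclic J] {x y : J}
    (h : orderOf x = orderOf y) : Subgroup.zpowers x = Subgroup.zpowers y := by
  classical
  haveI := Fintype.ofFinite J
  have key : ∀ z : J, orderOf z = orderOf x → (Subgroup.zpowers z : Set J) = {a | a ^ orderOf x = 1} := by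
    intro z hz
    refine Set.eq_of_subset_of_ncard_le ?_ ?_ (Set.toFinite _)
    · intro a ha
      obtain ⟨j, rfl⟩ := Subgroup.mem_zpowers_iff.mp ha
      show (z ^ j) ^ orderOf x = 1
      rw [← hz, ← zpow_natCast, ← zpow_mul, mul_comm, zpow_mul, zpow_natCast, pow_orderOf_eq_one, one_zpow]
    · rw [← Nat.card_coe_set_eq (Subgroup.zpowers z : Set J)]
      refine le_of_le_of_eq ?_ ((Nat.card_zpowers z).trans hz).symm
      rw [Set.ncard_eq_toFinset_card']
      convert IsCyclic.card_pow_eq_one_le (α := J) (orderOf_pos x) using 2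
      ext a; simp
  exact SetLike.coe_injective ((key x rfl).trans (key y h.symm).symm)

/-- A cyclic Sylow subgroup of `T` of order a power of `r`, with a normaliser containing the whole
2-part of `r - 1`, leaves no room for `T` to be a proper subgroup of 2-power index. -/
theorem eq_top_of_torus (hG : IsCIT X) (T : Subgroup X) [T.Normal] {k : ℕ} (hk : T.index = 2 ^ k)
    {r : ℕ} [hr : Fact r.Prime] (hr2 : r ≠ 2) {v : ℕ} (hv : ¬ 2 ^ (v + 1) ∣ r - 1)
    (P : Sylow r T) (hP : IsCyclic P) (hPr : r ∣ Nat.card T)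
    (hN : 2 ^ v ∣ Nat.card (normalizer ((P : Subgroup T) : Set T))) : T = ⊤ := by
  by_contra hne
  have hk0 : k ≠ 0 := by
    rintro rfl
    exact hne (index_eq_one.mp (by simpa using hk))
  set Q : Subgroup X := (P : Subgroup T).map T.subtype with hQ
  set N : Subgroup X := normalizer (Q : Set X) with hN'
  have hsup : N ⊔ T = ⊤ := Sylow.normalizer_sup_eq_top P
  have hNT : Nat.card N = Nat.card ↥(N ⊓ T) * T.index := by
    have h1 := relIndex_mul_index (inf_le_left : N ⊓ T ≤ N)
    have h2 : T.relIndex N = T.index := by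
      rw [← Subgroup.relIndex_sup_right N T, hsup, relIndex_top_right]
    have h3 := (N ⊓ T).card_mul_index
    have h4 := N.card_mul_index
    rw [inf_relIndex_left, h2] at h1
    rw [← h1] at h3
    refine Nat.eq_of_mul_eq_mul_right (Nat.pos_of_ne_zero N.index_ne_zero_of_finite) ?_
    rw [h4, ← h3]
    ring
  have hle : (normalizer ((P : Subgroup T) : Set T)).map T.subtype ≤ N ⊓ T :=
    le_inf (Subgroup.le_normalizer_map T.subtype) (map_subtype_le _)
  have h2N : 2 ^ (v + 1) ∣ Nat.card N := by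
    rw [hNT, pow_succ]
    refine Nat.mul_dvd_mul (hN.trans ?_) (hk ▸ dvd_pow_self 2 hk0)
    rw [← Core.card_map_subtype]
    exact card_dvd_of_le hle
  haveI : IsCyclic ↥Q := isCyclic_of_surjective _
    ((P : Subgroup T).equivMapOfInjective T.subtype T.subtype_injective).surjective
  have hrQ : r ∣ Nat.card ↥Q := by
    rw [hQ, Core.card_map_subtype]
    exact P.dvd_card_of_dvd_card hPr
  obtain ⟨g, hg⟩ := IsCyclic.exists_generator (α := ↥Q)
  obtain ⟨y, hy⟩ := exists_prime_orderOf_dvd_card' (G := ↥Q) r hrQ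
  -- the subgroup of order `r`
  set R : Subgroup X := zpowers (y : X) with hR
  have hRcard : Nat.card R = r := by rw [hR, Nat.card_zpowers, Subgroup.orderOf_coe, hy]
  have hNR : N ≤ normalizer (R : Set X) := by
    intro x hx
    refine mem_normalizer_fintype ?_
    intro a ha
    obtain ⟨i, rfl⟩ := mem_zpowers_iff.mp ha
    have hxy : x * (y : X) * x⁻¹ ∈ Q := (mem_normalizer_iff.mp hx _).mp y.2
    have ho : orderOf (⟨_, hxy⟩ : ↥Q) = r := by
      rw [Subgroup.orderOf_mk, Invol.orderOf_conj_eq, Subgroup.orderOf_coe, hy]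
    have hmem : (⟨_, hxy⟩ : ↥Q) ∈ zpowers y := by
      have e : zpowers y = zpowers (⟨_, hxy⟩ : ↥Q) :=
        zpowers_eq_of_orderOf_eq (hy.trans ho.symm)
      rw [e]; exact mem_zpowers _
    obtain ⟨j, hj⟩ := mem_zpowers_iff.mp hmem
    have hj' : (y : X) ^ j = x * (y : X) * x⁻¹ := by
      have := congrArg Subtype.val hj
      simpa using this
    rw [SetLike.mem_coe, ← conj_zpow, ← hj', ← zpow_mul]
    exact mem_zpowers_iff.mpr ⟨_, rfl⟩
  have hC : ¬ 2 ∣ Nat.card ↥(centralizer (R : Set X)) := fun h => by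
    obtain ⟨⟨t, htC⟩, ht⟩ := exists_prime_orderOf_dvd_card' (G := ↥(centralizer (R : Set X))) 2 h
    have hy1 : (y : X) ≠ 1 := fun e => by
      have := Subgroup.orderOf_coe y
      rw [e, orderOf_one, hy] at this
      exact hr.out.ne_one this.symm
    refine hy1 (eq_one_of_odd_two (hG t (by rw [← ht, Subgroup.orderOf_mk]))
      (mem_centralizer_singleton_iff.mpr (mem_centralizer_iff.mp htC _ (mem_zpowers _))) ?_)
    rw [Subgroup.orderOf_coe, hy]
    exact hr.out.odd_of_ne_two hr2
  have hind : (centralizer (R : Set X)).relIndex (normalizer (R : Set X)) ∣ r - 1 := by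
    have h1 := Subgroup.card_dvd_of_injective (QuotientGroup.kerLift R.normalizerMonoidHom)
      (QuotientGroup.kerLift_injective _)
    haveI : IsCyclic ↥R := isCyclic_of_prime_card hRcard
    rw [IsCyclic.card_mulAut, hRcard, Nat.totient_prime hr.out, normalizerMonoidHom_ker,
      ← Subgroup.index_eq_card] at h1
    exact h1
  have key : 2 ^ (v + 1) ∣ (centralizer (R : Set X)).relIndex (normalizer (R : Set X)) := by
    refine Nat.Coprime.dvd_of_dvd_mul_left (k := 2 ^ (v + 1)) (m := Nat.card ↥(centralizer (R : Set X))) ?_ ?_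
    · exact (Nat.coprime_two_left.mpr (Nat.odd_iff.mpr (Nat.two_dvd_ne_zero.mp hC))).pow_left _
    · have hCN : centralizer (R : Set X) ≤ normalizer (R : Set X) := centralizer_le_normalizer _
      rw [Core.card_mul_relIndex hCN]
      exact h2N.trans (card_dvd_of_le hNR)
  exact hv (key.trans hind)

end Cfsg.Lib.CIT.NonSolv
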