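import Cfsg.Agent.Lib.CIT.Classify
import Cfsg.Agent.Lib.CIT.TICount
import Cfsg.Agent.Lib.CIT.Consumers.EppoFour
import Cfsg.Agent.Lib.Perm.SuzUnique.Zassenhaus

/-!
# Non-solvable CIT groups whose order is prime to three

Modulo its largest normal 2-subgroup such a group is a Suzuki group.
-/

set_option autoImplicit false
set_option linter.style.haveILetI false
set_option linter.unusedSectionVars false

namespace Cfsg.Lib.CIT

open Subgroup
open Cfsg.Lib
open scoped Pointwise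

universe u

variable {X : Type u} [Group X] [Finite X]

/-- A CIT group with trivial two-core and odd core has a simple nonabelian normal subgroup. -/
theorem IsCIT.exists_simple_normal (hG : IsCIT X)
    (htwo : ∀ K : Subgroup X, K.Normal → IsPGroup 2 K → K = ⊥) [Nontrivial X] (hO : oddCore X = ⊥) :
    ∃ N : Subgroup X, ∃ _ : N.Normal, IsSimpleGroup N ∧ ¬ IsMulCommutative N := by
  haveI : Fact (Nat.Prime 2) := ⟨Nat.prime_two⟩
  obtain ⟨N, hNn, hNb, hNmin⟩ : ∃ N : Subgroup X, N.Normal ∧ N ≠ ⊥ ∧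
      ∀ K : Subgroup X, K.Normal → K ≤ N → K ≠ ⊥ → K = N := by
    obtain ⟨N, -, hN⟩ := exists_minimal_le_of_wellFoundedLT
      (fun N : Subgroup X => N.Normal ∧ N ≠ ⊥) ⊤ ⟨inferInstance, top_ne_bot⟩
    exact ⟨N, hN.prop.1, hN.prop.2, fun K hK hle hne => le_antisymm hle (hN.2 ⟨hK, hne⟩ hle)⟩
  haveI := hNn
  have hYc : ∀ K : Subgroup N, K.Normal → IsPGroup 2 K → K = ⊥ := fun K hK hK2 => by
    have h := htwo _ (Core.normal_map_char_of_normal (Cfsg.pCore 2 N))
      ((Core.pCore_isPGroup 2 N).map _)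
    rw [Subgroup.map_eq_bot_iff_of_injective _ N.subtype_injective] at h
    exact le_bot_iff.mp (h ▸ Core.le_pCore' hK hK2)
  have hON := oddCore_subgroup_eq_bot hO N
  haveI : Nontrivial N := (nontrivial_iff_ne_bot _).mpr hNb
  have heven : 2 ∣ Nat.card N := by
    by_contra hodd
    have h1 : (⊤ : Subgroup N) ≤ oddCore N := Core.le_pPrimeCore' inferInstance
      (by rw [Subgroup.card_top]; exact ((Nat.prime_two.coprime_iff_not_dvd).mpr hodd).symm)
    rw [hON, top_le_iff] at h1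
    exact bot_ne_top h1
  refine ⟨N, hNn, ⟨fun K hK => ?_⟩, fun hc => ?_⟩
  · by_contra hKtriv
    push Not at hKtriv
    obtain ⟨L, hLK, hL⟩ := exists_minimal_le_of_wellFoundedLT
      (fun L : Subgroup N => L.Normal ∧ L ≠ ⊥) K ⟨hK, hKtriv.1⟩
    haveI := hL.prop.1
    -- some conjugate of `L` differs from `L`
    obtain ⟨x, hx⟩ : ∃ x : X, ¬ ∀ l ∈ L, ∀ hl : x * (l : X) * x⁻¹ ∈ N,
        (⟨_, hl⟩ : N) ∈ L := by
      by_contra h
      push Not at h
      have hn : (L.map N.subtype).Normal := ⟨fun a ha x => by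
        obtain ⟨l, hl, rfl⟩ := ha
        exact ⟨⟨_, hNn.conj_mem _ l.2 x⟩, h x l hl _, rfl⟩⟩
      have htop := hNmin _ hn (map_subtype_le _)
        ((Subgroup.map_eq_bot_iff_of_injective _ N.subtype_injective).not.mpr hL.prop.2)
      refine hKtriv.2 (top_le_iff.mp (le_trans (fun y _ => ?_) hLK))
      obtain ⟨l, hl, hly⟩ := (htop.symm ▸ y.2 : (y : X) ∈ L.map N.subtype)
      rwa [← Subtype.ext hly]
    let c : N ≃* N := MulAut.conjNormal x
    set L₂ := L.map c.toMonoidHom with hL₂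
    haveI : L₂.Normal := Subgroup.Normal.map inferInstance _ c.surjective
    have hinf : L ⊓ L₂ = ⊥ := by
      by_contra hne
      have h1 : L ≤ L ⊓ L₂ := hL.2 ⟨Subgroup.normal_inf_normal L L₂, hne⟩ inf_le_left
      have h2 : L = L₂ := Subgroup.eq_of_le_of_card_ge (h1.trans inf_le_right)
        (le_of_eq (Nat.card_congr (L.equivMapOfInjective c.toMonoidHom c.injective).toEquiv).symm)
      refine hx fun l hl hlN => ?_
      have : c l ∈ L₂ := ⟨l, hl, rfl⟩
      rw [← h2] at this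
      convert this using 1
      exact Subtype.ext (MulAut.conjNormal_apply x l).symm
    have hcomm : ∀ a ∈ L, ∀ b ∈ L₂, a * b = b * a := fun a ha b hb =>
      Subgroup.commute_of_normal_of_disjoint L L₂ inferInstance inferInstance
        (disjoint_iff.mpr hinf) a b ha hb
    obtain ⟨u, hu, hu2⟩ : ∃ u ∈ L, orderOf u = 2 := by
      have heven : 2 ∣ Nat.card L := by
        by_contra hodd
        have : L ≤ oddCore N := Core.le_pPrimeCore ((Nat.prime_two.coprime_iff_not_dvd).mpr hodd).symm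
        rw [hON, le_bot_iff] at this
        exact hL.prop.2 this
      obtain ⟨u, hu⟩ := exists_prime_orderOf_dvd_card' (G := L) 2 heven
      exact ⟨u, u.2, by rw [← hu, Subgroup.orderOf_coe]⟩
    have hL22 : IsPGroup 2 L₂ := ((hG.subgroup N) u hu2).to_le fun b hb =>
      mem_centralizer_singleton_iff.mpr (hcomm u hu b hb).symm
    have hb := hYc L₂ inferInstance hL22
    exact hL.prop.2 ((Subgroup.map_eq_bot_iff_of_injective L (f := c.toMonoidHom) c.injective).mp hb)
  · obtain ⟨u, hu⟩ := exists_prime_orderOf_dvd_card' (G := N) 2 (heven)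
    have h2 : IsPGroup 2 N := (((hG.subgroup N) u hu).to_le (show (⊤ : Subgroup N) ≤ _ from fun b _ =>
      mem_centralizer_singleton_iff.mpr (hc.is_comm.comm b u))).of_equiv topEquiv
    exact hNb (htwo N hNn h2)

/-- A CIT group is not a proper extension of a simple nonabelian group with TI Sylow 2-subgroups. -/
theorem IsCIT.eq_top_of_sylowTI (hG : IsCIT X) (N : Subgroup X) [hNn : N.Normal] [hNs : IsSimpleGroup N]
    (hNna : ¬ IsMulCommutative N) (hNTI : SylowTI N) : N = ⊤ := by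
  haveI : Fact (Nat.Prime 2) := ⟨Nat.prime_two⟩
  by_contra hNtop
  obtain ⟨P⟩ : Nonempty (Sylow 2 N) := inferInstance
  have hD := tiData hNna (hG.subgroup N) hNTI P
  obtain ⟨E, t, hE⟩ := exists_tiShape hD
  set T := (P : Subgroup N).map N.subtype with hT
  obtain ⟨z, hzP, hz, hzc⟩ := hD.central
  -- the preimage of a coset is a two-element
  have hfrat := Sylow.normalizer_sup_eq_top P
  have hpow : ∀ g : X, ∃ j, g ^ 2 ^ j ∈ N := by
    intro g
    obtain ⟨a, ha, m, hm, rfl⟩ := Subgroup.mem_sup_of_normal_right.mp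
      (hfrat.symm ▸ Subgroup.mem_top g : g ∈ normalizer (T : Set X) ⊔ N)
    have hza : a * (z : X) * a⁻¹ ∈ T := (mem_normalizer_iff.mp ha _).mp ⟨z, hzP, rfl⟩
    obtain ⟨w, hwP, hw⟩ := hza
    have hw2 : orderOf w = 2 := by
      rw [← Subgroup.orderOf_coe w, show (w : X) = a * z * a⁻¹ from hw, Invol.orderOf_conj_eq,
        Subgroup.orderOf_coe, hz]
    obtain ⟨e, he, -⟩ := hE.regular z hzP w hwP hz hw2
    set c := ((e : N) : X)⁻¹ * a
    have hc : c * z * c⁻¹ = z := by
      calc c * z * c⁻¹ = ((e : N) : X)⁻¹ * (a * z * a⁻¹) * ((e : N) : X) := by simp only [c]; group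
        _ = z := by
          rw [← show (w : X) = a * z * a⁻¹ from hw, ← he]
          push_cast; group
    obtain ⟨j, hj⟩ := hG (z : X) (by rw [Subgroup.orderOf_coe, hz])
      ⟨c, mem_centralizer_singleton_iff.mpr (mul_inv_eq_iff_eq_mul.mp hc)⟩
    refine ⟨j, (QuotientGroup.eq_one_iff _).mp ?_⟩
    rw [QuotientGroup.mk_pow, QuotientGroup.mk_mul, (QuotientGroup.eq_one_iff m).mpr hm, mul_one,
      show (a : X ⧸ N) = (c : X ⧸ N) by
        rw [show a = ((e : N) : X) * c by simp only [c]; group, QuotientGroup.mk_mul,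
          (QuotientGroup.eq_one_iff ((e : N) : X)).mpr (e : N).2, one_mul],
      ← QuotientGroup.mk_pow]
    rw [show c ^ 2 ^ j = 1 from congrArg Subtype.val hj]
    rfl
  -- a prime element of the complement
  have hEcard : 2 ≤ Nat.card E := by
    obtain ⟨a, ha, b, hb, ha2, hb2, hab⟩ := hD.two_involutions
    rw [hE.card_eq]
    haveI : Nontrivial {a : N // a ∈ (P : Subgroup N) ∧ orderOf a = 2} :=
      ⟨⟨⟨a, ha, ha2⟩, ⟨b, hb, hb2⟩, fun h => hab (congrArg Subtype.val h)⟩⟩
    exact Finite.one_lt_card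
  obtain ⟨p, hp, hpE⟩ := Nat.exists_prime_and_dvd (show Nat.card E ≠ 1 by omega)
  haveI := Fact.mk hp
  have hEodd : ∀ e ∈ E, Odd (orderOf e) := by
    intro e he
    by_contra hev
    rw [Nat.not_odd_iff_even, even_iff_two_dvd] at hev
    have hoe : orderOf (e ^ (orderOf e / 2)) = 2 := by
      rw [orderOf_pow, Nat.gcd_eq_right (Nat.div_dvd_of_dvd hev), Nat.div_div_self hev (orderOf_pos e).ne']
    -- a two-group normalizing `P` lies in it
    have hle : zpowers (e ^ (orderOf e / 2)) ≤ normalizer ((P : Subgroup N) : Set N) :=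
      (zpowers_le.mpr (pow_mem he _)).trans hE.le_normalizer
    have hp2 : IsPGroup 2 ↥((P : Subgroup N) ⊔ zpowers (e ^ (orderOf e / 2))) :=
      IsPGroup.to_sup_of_normal_left' P.2 (IsPGroup.of_card (n := 1)
        (by rw [Nat.card_zpowers, hoe, pow_one])) hle
    have hmem : e ^ (orderOf e / 2) ∈ (P : Subgroup N) ⊓ E :=
      ⟨(P.3 hp2 le_sup_left) ▸ mem_sup_right (mem_zpowers _), pow_mem he _⟩
    rw [hE.inf_eq, Subgroup.mem_bot] at hmem
    rw [hmem, orderOf_one] at hoe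
    omega
  -- the normalizer of a Sylow subgroup of the complement
  set B := normalizer ((P : Subgroup N) : Set N) with hB
  have hcomm : ∀ a ∈ E, ∀ b ∈ E, a * b = b * a := fun a ha b hb =>
    congrArg Subtype.val (hE.comm.is_comm.comm ⟨a, ha⟩ ⟨b, hb⟩)
  obtain ⟨e₀, he₀⟩ := exists_prime_orderOf_dvd_card' (G := E) p hpE
  obtain ⟨Q₀⟩ : Nonempty (Sylow p E) := inferInstance
  set Q := ((Q₀ : Subgroup E).map E.subtype).map N.subtype with hQ
  have hQne : ∃ q ∈ (Q₀ : Subgroup E).map E.subtype, q ≠ 1 := by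
    have := (Q₀.ne_bot_of_dvd_card hpE)
    obtain ⟨q, hq, hq1⟩ := (Q₀ : Subgroup E).bot_or_exists_ne_one.resolve_left this
    exact ⟨q, ⟨q, hq, rfl⟩, fun e => hq1 (Subtype.ext e)⟩
  obtain ⟨q, hqQ, hq1⟩ := hQne
  have hqE : q ∈ E := map_subtype_le _ hqQ
  -- elements of `B` normalizing `Q` lie in `E`
  have hBQ : ∀ b ∈ B, (b : X) ∈ normalizer (Q : Set X) → b ∈ E := by
    intro b hb hbQ
    rw [hB, ← hE.sup_eq, sup_comm] at hb
    obtain ⟨e, he, h, hh, rfl⟩ := (Core.mem_sup_of_le_normalizer hE.le_normalizer).mp hb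
    have he' : ((e : N) : X) ∈ normalizer (Q : Set X) := by
      refine Core.le_normalizer_iff_conj_mem.mpr ?_ (mem_zpowers ((e : N) : X))
      intro g hg r hr
      obtain ⟨r', hr', rfl⟩ := hr
      obtain ⟨i, rfl⟩ := mem_zpowers_iff.mp hg
      refine ⟨r', hr', ?_⟩
      have hc : e ^ i * r' * (e ^ i)⁻¹ = r' :=
        mul_inv_eq_iff_eq_mul.mpr (hcomm _ (zpow_mem he i) _ (map_subtype_le _ hr'))
      conv_lhs => rw [← hc]
      simp
    have hhQ : (h : X) ∈ normalizer (Q : Set X) := by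
      have h' := mul_mem (inv_mem he') hbQ
      push_cast at h'
      simpa using h'
    obtain ⟨q', hq'Q, hq'⟩ := (mem_normalizer_iff.mp hhQ (q : X)).mp ⟨q, hqQ, rfl⟩
    have hq'N : q' = h * q * h⁻¹ := Subtype.ext (by simpa using hq')
    have hd : q' * q⁻¹ ∈ (P : Subgroup N) ⊓ E := by
      refine Subgroup.mem_inf.mpr ⟨?_, mul_mem (map_subtype_le _ hq'Q) (inv_mem hqE)⟩
      rw [hq'N, show h * q * h⁻¹ * q⁻¹ = h * (q * h⁻¹ * q⁻¹) by group]
      exact mul_mem hh ((mem_normalizer_iff.mp (hE.le_normalizer hqE) _).mp (inv_mem hh))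
    rw [hE.inf_eq, Subgroup.mem_bot, hq'N, mul_inv_eq_one, mul_inv_eq_iff_eq_mul] at hd
    rw [(hG.subgroup N).fpf P.2 hq1 (hEodd q hqE) hh hd.symm, mul_one]
    exact he
  -- an involution outside `N` normalizing `T` and `Q`
  have hBn : normalizer (T : Set X) ≤ normalizer ((B.map N.subtype : Subgroup X) : Set X) := by
    refine Core.le_normalizer_iff_conj_mem.mpr ?_
    rintro g hg _ ⟨b, hb, rfl⟩
    refine ⟨⟨_, hNn.conj_mem _ b.2 g⟩, mem_normalizer_iff.mpr fun v => ?_, rfl⟩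
    have hmemT : ∀ w : N, w ∈ (P : Subgroup N) ↔ (w : X) ∈ T := fun w =>
      ⟨fun h => ⟨w, h, rfl⟩, fun ⟨w', hw', e⟩ => Subtype.ext e ▸ hw'⟩
    rw [hmemT, hmemT, mem_normalizer_iff''.mp hg (v : X)]
    have hg' := mem_normalizer_iff.mp hg
    have hb' : ∀ v : X, v ∈ N → (v ∈ T ↔ (b : X) * v * (b : X)⁻¹ ∈ T) := fun v hv => by
      have := mem_normalizer_iff.mp hb ⟨v, hv⟩
      rwa [hmemT, hmemT] at this
    rw [hb' _ (by simpa using hNn.conj_mem _ v.2 g⁻¹), hg' _]
    push_cast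
    rw [show g * ((b : X) * (g⁻¹ * (v : X) * g) * (b : X)⁻¹) * g⁻¹ =
      g * (b : X) * g⁻¹ * (v : X) * (g * (b : X) * g⁻¹)⁻¹ by group]
  have hfrat2 : ∀ g ∈ normalizer (T : Set X), ∃ b ∈ B, ((b : X) * g) ∈ normalizer (Q : Set X) := by
    intro g hg
    -- `Q` and its conjugate are Sylow subgroups of the normalizer of `P` in `N`
    have hEB : E ≤ B := hE.le_normalizer
    set Q₁ := ((Q₀ : Subgroup E).map E.subtype).subgroupOf B with hQ₁
    have hQ₁p : IsPGroup p Q₁ := (Q₀.2.map _).comap_subtype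
    have hidx : ¬ p ∣ Q₁.index := by
      have h1 := Q₁.card_mul_index
      rw [hQ₁, Nat.card_congr (Subgroup.subgroupOfEquivOfLe
        ((map_subtype_le _).trans hEB)).toEquiv, Core.card_map_subtype, ← hQ₁] at h1
      have h2 : Nat.card B = Nat.card (P : Subgroup N) * Nat.card E := by
        rw [hB, ← hE.sup_eq, card_sup_eq_mul_of_inf_bot hE.le_normalizer hE.inf_eq]
      have h3 := (Q₀ : Subgroup E).card_mul_index
      rw [h2, ← h3, mul_left_comm] at h1
      have h4 : Q₁.index = Nat.card (P : Subgroup N) * (Q₀ : Subgroup E).index :=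
        Nat.eq_of_mul_eq_mul_left Nat.card_pos h1
      rw [h4]
      intro hd
      rcases hp.dvd_mul.mp hd with hd | hd
      · obtain ⟨k, hk⟩ := IsPGroup.iff_card.mp P.2
        rw [hk] at hd
        have hp2 := (Nat.prime_dvd_prime_iff_eq hp Nat.prime_two).mp (hp.dvd_of_dvd_pow hd)
        have := hEodd e₀ e₀.2
        rw [Subgroup.orderOf_coe, he₀, hp2] at this
        exact absurd this (by decide)
      · exact Q₀.not_dvd_index hd
    let R := hQ₁p.toSylow hidx
    have hgB : ∀ b : B, g * ((b : N) : X) * g⁻¹ ∈ B.map N.subtype := fun b =>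
      (mem_normalizer_iff.mp (hBn hg) _).mp ⟨b, b.2, rfl⟩
    let σ : B →* B :=
      MonoidHom.mk' (fun b => ⟨⟨g * ((b : N) : X) * g⁻¹, hNn.conj_mem _ (b : N).2 g⟩, by
        obtain ⟨b', hb', e⟩ := hgB b
        exact (Subtype.ext e : b' = ⟨g * ((b : N) : X) * g⁻¹, _⟩) ▸ hb'⟩)
        fun a b => Subtype.ext (Subtype.ext (by push_cast; group))
    have hσinj : Function.Injective σ := fun a b e => by
      have : g * ((a : N) : X) * g⁻¹ = g * ((b : N) : X) * g⁻¹ :=
        congrArg (fun w : B => ((w : N) : X)) e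
      exact Subtype.ext (Subtype.ext (by simpa using this))
    have hσp : IsPGroup p ↥((R : Subgroup B).map σ) := R.2.map σ
    have hσidx : ¬ p ∣ ((R : Subgroup B).map σ).index := by
      rw [Subgroup.index_map_of_bijective ⟨hσinj, Finite.injective_iff_surjective.mp hσinj⟩]
      exact hidx
    obtain ⟨c, hc⟩ := MulAction.exists_smul_eq B (hσp.toSylow hσidx) R
    refine ⟨c, c.2, Invol.mem_normalizer_of_map_le ?_⟩
    rintro _ ⟨_, ⟨r, hr, rfl⟩, rfl⟩
    have hrR : (⟨r, hEB (map_subtype_le _ hr)⟩ : B) ∈ (R : Subgroup B) := hr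
    have hmem : c * σ ⟨r, hEB (map_subtype_le _ hr)⟩ * c⁻¹ ∈ (R : Subgroup B) := by
      rw [← hc]
      exact ⟨σ _, ⟨_, hrR, rfl⟩, rfl⟩
    refine ⟨((c * σ ⟨r, hEB (map_subtype_le _ hr)⟩ * c⁻¹ : B) : N), hmem, ?_⟩
    simp only [σ, MonoidHom.mk'_apply, MulEquiv.coe_toMonoidHom, MulAut.conj_apply, Subgroup.coe_subtype]
    push_cast
    group
  obtain ⟨g, hg⟩ : ∃ g : X, g ∉ N := by
    by_contra h
    push Not at h
    exact hNtop (eq_top_iff.mpr fun g _ => h g)
  obtain ⟨a, ha, m, hm, rfl⟩ := Subgroup.mem_sup_of_normal_right.mp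
    (hfrat.symm ▸ Subgroup.mem_top g : g ∈ normalizer (T : Set X) ⊔ N)
  obtain ⟨b, hb, hbQ⟩ := hfrat2 a ha
  set l := (b : X) * a with hl
  have hlT : l ∈ normalizer (T : Set X) := by
    refine mul_mem ?_ ha
    have hb' := Subgroup.le_normalizer_map N.subtype ⟨b, hb, rfl⟩
    exact hb'
  have hlN : l ∉ N := fun h => hg (by
    rw [show a * m = (b : X)⁻¹ * l * m by rw [hl]; group]
    exact mul_mem (mul_mem (inv_mem b.2) h) hm)
  -- the involution
  obtain ⟨y, hyN, hy2, hyT, hyQ⟩ : ∃ y : X, y ∉ N ∧ orderOf y = 2 ∧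
      y ∈ normalizer (T : Set X) ∧ y ∈ normalizer (Q : Set X) := by
    obtain ⟨i, r, hr, hir⟩ := Nat.exists_eq_two_pow_mul_odd (n := orderOf l) (orderOf_pos l).ne'
    set l₁ := l ^ r with hl₁
    have hl₁N : l₁ ∉ N := by
      intro h
      obtain ⟨j, hj⟩ := hpow l
      have h1 : (l : X ⧸ N) ^ r = 1 := by rw [← QuotientGroup.mk_pow]; exact (QuotientGroup.eq_one_iff _).mpr h
      have h2 : (l : X ⧸ N) ^ 2 ^ j = 1 := by
        rw [← QuotientGroup.mk_pow]; exact (QuotientGroup.eq_one_iff _).mpr hj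
      exact hlN ((QuotientGroup.eq_one_iff _).mp (orderOf_eq_one_iff.mp
        (Nat.eq_one_of_dvd_coprimes ((Nat.coprime_two_right.mpr hr).symm.pow_left j)
          (orderOf_dvd_of_pow_eq_one h2) (orderOf_dvd_of_pow_eq_one h1))))
    have hex : ∃ j, l₁ ^ 2 ^ j ∈ N := hpow l₁
    classical
    obtain ⟨j, hj⟩ : ∃ j, Nat.find hex = j + 1 := ⟨Nat.find hex - 1, by
      have : Nat.find hex ≠ 0 := fun h0 => hl₁N (by simpa [h0] using Nat.find_spec hex)
      omega⟩
    have hmax : l₁ ^ 2 ^ j ∉ N := Nat.find_min hex (by omega)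
    have hmem : l₁ ^ 2 ^ (j + 1) ∈ N := hj ▸ Nat.find_spec hex
    have hNT : l₁ ^ 2 ^ j ∈ normalizer (T : Set X) := pow_mem (pow_mem hlT _) _
    have hNQ : l₁ ^ 2 ^ j ∈ normalizer (Q : Set X) := pow_mem (pow_mem hbQ _) _
    refine ⟨l₁ ^ 2 ^ j, hmax, ?_, hNT, hNQ⟩
    refine Invol.orderOf_eq_two_of (fun h => hmax (by rw [h]; exact one_mem N)) ?_
    have hsq : l₁ ^ 2 ^ j * l₁ ^ 2 ^ j = l₁ ^ 2 ^ (j + 1) := by rw [← pow_add, pow_succ, mul_two]
    rw [hsq]
    set w : N := ⟨_, hmem⟩ with hw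
    have hwB : w ∈ B := by
      refine mem_normalizer_iff.mpr fun v => ?_
      have hmemT : ∀ w : N, w ∈ (P : Subgroup N) ↔ (w : X) ∈ T := fun w =>
        ⟨fun h => ⟨w, h, rfl⟩, fun ⟨w', hw', e⟩ => Subtype.ext e ▸ hw'⟩
      rw [hmemT, hmemT]
      have := mem_normalizer_iff.mp (show l₁ ^ 2 ^ (j + 1) ∈ normalizer (T : Set X) from
        pow_mem (pow_mem hlT _) _) (v : X)
      simpa using this
    have hwE : w ∈ E := hBQ w hwB (pow_mem (pow_mem hbQ _) _)
    have h2pow : (w : N) ^ 2 ^ i = 1 := Subtype.ext (by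
      push_cast
      rw [hw]
      show (l₁ ^ 2 ^ (j + 1)) ^ 2 ^ i = 1
      rw [← pow_mul, mul_comm, pow_mul, hl₁, ← pow_mul l r, mul_comm r, ← hir, pow_orderOf_eq_one, one_pow])
    have := Nat.Coprime.eq_one_of_dvd ((Nat.coprime_two_right.mpr (hEodd w hwE)).pow_right i)
      (orderOf_dvd_of_pow_eq_one h2pow)
    exact congrArg Subtype.val (orderOf_eq_one_iff.mp this)
  -- it inverts the complement
  have hyE : ∀ e : N, e ∈ E → ∃ e' : N, e' ∈ E ∧ (e' : X) = y * (e : X) * y⁻¹ := by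
    intro e he
    refine ⟨⟨_, hNn.conj_mem _ e.2 y⟩, hBQ _ ?_ ?_, rfl⟩
    · obtain ⟨b', hb', eb⟩ := (mem_normalizer_iff.mp (hBn hyT) _).mp ⟨e, hE.le_normalizer he, rfl⟩
      exact (Subtype.ext eb : b' = ⟨y * (e : X) * y⁻¹, hNn.conj_mem _ e.2 y⟩) ▸ hb'
    · refine mul_mem (mul_mem hyQ ?_) (inv_mem hyQ)
      refine mem_normalizer_iff.mpr fun r => ?_
      constructor
      · rintro ⟨r', hr', rfl⟩
        refine ⟨r', hr', ?_⟩
        have hc : e * r' * e⁻¹ = r' :=
          mul_inv_eq_iff_eq_mul.mpr (hcomm _ he _ (map_subtype_le _ hr'))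
        conv_lhs => rw [← hc]
        simp
      · rintro ⟨r', hr', hr⟩
        refine ⟨r', hr', ?_⟩
        have hc : e⁻¹ * r' * e = r' := by
          rw [mul_assoc, ← hcomm _ he _ (map_subtype_le _ hr'), inv_mul_cancel_left]
        rw [← hc, map_mul, map_mul, map_inv, hr]
        simp only [Subgroup.coe_subtype]
        group
  have hinv : ∀ e : N, e ∈ E → y * (e : X) * y⁻¹ = (e : X)⁻¹ := by
    intro e he
    obtain ⟨e', he', hye⟩ := hyE e he
    have hfix : Commute y ((e : X) * (y * (e : X) * y⁻¹)) := by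
      have hc : (e : X) * (e' : X) = (e' : X) * (e : X) := congrArg Subtype.val (hcomm e he e' he')
      show y * ((e : X) * (y * (e : X) * y⁻¹)) = (e : X) * (y * (e : X) * y⁻¹) * y
      rw [← hye]
      conv_rhs => rw [hc, hye]
      rw [hye]
      calc y * ((e : X) * (y * (e : X) * y⁻¹)) = y * (e : X) * (y * (e : X)) * y⁻¹ := by group
        _ = _ := by rw [Invol.inv_eq_self hy2]; group
    have h1 : ((e * e' : N) : X) = 1 := eq_one_of_odd_two (hG y hy2)
      (mem_centralizer_singleton_iff.mpr (by push_cast; rw [hye]; exact hfix.eq.symm))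
      (by rw [Subgroup.orderOf_coe]; exact hEodd _ (mul_mem he he'))
    push_cast at h1
    rw [hye] at h1
    exact eq_inv_of_mul_eq_one_right h1
  have hqX : Odd (orderOf ((q : N) : X)) := by rw [Subgroup.orderOf_coe]; exact hEodd q hqE
  have hc : Commute ((q : N) : X) (y * (t : X)) := by
    have h1 := hinv q⁻¹ (inv_mem hqE)
    have h2 : (t : X) * (q : X) * (t : X)⁻¹ = ((q⁻¹ : N) : X) := congrArg Subtype.val (hE.inverts q hqE)
    have h3 : y * (t : X) * (q : X) * (y * (t : X))⁻¹ = (q : X) := by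
      calc y * (t : X) * (q : X) * (y * (t : X))⁻¹ = y * ((t : X) * (q : X) * (t : X)⁻¹) * y⁻¹ := by group
        _ = (q : X) := by rw [h2, h1]; simp
    exact (mul_inv_eq_iff_eq_mul.mp h3).symm
  have hodd : Odd (orderOf (y * (t : X))) := by
    by_contra hev
    rw [Nat.not_odd_iff_even, even_iff_two_dvd] at hev
    have ho : orderOf ((y * (t : X)) ^ (orderOf (y * (t : X)) / 2)) = 2 := by
      rw [orderOf_pow, Nat.gcd_eq_right (Nat.div_dvd_of_dvd hev), Nat.div_div_self hev (orderOf_pos _).ne']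
    exact hq1 (Subtype.ext (eq_one_of_odd_two (hG _ ho)
      (mem_centralizer_singleton_iff.mpr (hc.pow_right _).eq) hqX))
  obtain ⟨j, hj⟩ := hpow (y * (t : X))
  have hyt : y * (t : X) ∈ N := by
    have hcop : (2 ^ j).Coprime (orderOf (y * (t : X))) :=
      ((Nat.coprime_two_right.mpr hodd).symm).pow_left j
    have h1 : ((y * (t : X) : X) : X ⧸ N) ^ 2 ^ j = 1 := by
      rw [← QuotientGroup.mk_pow]; exact (QuotientGroup.eq_one_iff _).mpr hj
    exact (QuotientGroup.eq_one_iff _).mp (orderOf_eq_one_iff.mp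
      (Nat.eq_one_of_dvd_coprimes hcop (orderOf_dvd_of_pow_eq_one h1)
        (orderOf_map_dvd (QuotientGroup.mk' N) _)))
  exact hyN (by simpa using mul_mem hyt (inv_mem t.2))

/-- A CIT group with nontrivial odd core is solvable. -/
theorem IsCIT.isSolvable_of_oddCore (hG : IsCIT X) (hO : oddCore X ≠ ⊥) : Group.IsSolvable X := by
  haveI : Fact (Nat.Prime 2) := ⟨Nat.prime_two⟩
  by_cases h2 : 2 ∣ Nat.card X
  · obtain ⟨S⟩ : Nonempty (Sylow 2 X) := inferInstance
    haveI : Nontrivial (S : Subgroup X) := (nontrivial_iff_ne_bot _).mpr (S.ne_bot_of_dvd_card h2)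
    obtain ⟨c, -, hcc, hc⟩ := PGroup.exists_mem_center_orderOf_eq S.2
      (N := (⊤ : Subgroup (S : Subgroup X))) top_ne_bot
    set z := (c : X) with hz
    have hz2 : orderOf z = 2 := by rw [hz, Subgroup.orderOf_coe, hc]
    have hiso := ZStar.isolated_of_unique_involution S hz2 fun x hx hx2 =>
      eq_of_commute_of_oddCore hG hO hx2 hz2 (congrArg Subtype.val (mem_center_iff.mp hcc ⟨x, hx⟩))
    haveI hn : (oddCore X).Normal := inferInstance
    have hodd : ∀ x ∈ oddCore X, x ≠ 1 → z * x * z⁻¹ ≠ x := fun x hx hx1 h =>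
      hx1 (eq_one_of_oddCore hx (hG z hz2)
        (mem_centralizer_singleton_iff.mpr (mul_inv_eq_iff_eq_mul.mp h).symm))
    -- `z` inverts the odd core, which is therefore abelian
    have hinv : ∀ x ∈ oddCore X, z * x * z⁻¹ = x⁻¹ := by
      intro x hx
      let f : oddCore X → oddCore X := fun y =>
        ⟨(y : X)⁻¹ * (z * y * z⁻¹), mul_mem (inv_mem y.2) (hn.conj_mem _ y.2 z)⟩
      have hinj : Function.Injective f := by
        intro a b e
        have e' : (a : X)⁻¹ * (z * a * z⁻¹) = (b : X)⁻¹ * (z * b * z⁻¹) := congrArg Subtype.val e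
        by_contra hne
        refine hodd ((b : X) * (a : X)⁻¹) (mul_mem b.2 (inv_mem a.2))
          (fun e1 => hne (Subtype.ext (mul_inv_eq_one.mp e1).symm)) ?_
        calc z * ((b : X) * (a : X)⁻¹) * z⁻¹
            = (b : X) * ((b : X)⁻¹ * (z * b * z⁻¹)) * ((a : X)⁻¹ * (z * a * z⁻¹))⁻¹ * (a : X)⁻¹ := by group
          _ = (b : X) * (a : X)⁻¹ := by rw [← e', mul_inv_cancel_right]
      obtain ⟨y, hy⟩ := (Finite.injective_iff_surjective.mp hinj) ⟨x, hx⟩
      have hy' : (y : X)⁻¹ * (z * y * z⁻¹) = x := congrArg Subtype.val hy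
      rw [← hy', mul_inv_rev, inv_inv, mul_inv_rev, mul_inv_rev, inv_inv]
      calc z * ((y : X)⁻¹ * (z * y * z⁻¹)) * z⁻¹ = z * (y : X)⁻¹ * z * y * (z * z)⁻¹ := by group
        _ = _ := by rw [Invol.inv_mul_self hz2, inv_one, mul_one, Invol.inv_eq_self hz2]; group
    haveI : IsMulCommutative ↥(oddCore X) := ⟨⟨fun a b => Subtype.ext (inv_injective (by
      calc ((a : X) * b)⁻¹ = z * ((a : X) * b) * z⁻¹ := (hinv _ (mul_mem a.2 b.2)).symm
        _ = (z * a * z⁻¹) * (z * b * z⁻¹) := by group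
        _ = ((b : X) * a)⁻¹ := by rw [hinv _ a.2, hinv _ b.2, mul_inv_rev]))⟩⟩
    haveI : Group.IsSolvable (X ⧸ oddCore X) := by
      have hcit : ∀ x : X ⧸ oddCore X, ∃ k, x ^ 2 ^ k = 1 := by
        intro x
        obtain ⟨g, rfl⟩ := QuotientGroup.mk_surjective x
        obtain ⟨y, hy⟩ : ∃ y : oddCore X, (y : X) * g * z * g⁻¹ * (y : X)⁻¹ = z := by
          have hm : z * g * z⁻¹ * g⁻¹ ∈ oddCore X := ZStar.zStarHolds X z hiso g
          -- the inversion is onto the squares
          let sq : oddCore X → oddCore X := fun y => y * y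
          have hsq : Function.Injective sq := fun a b e => by
            have hcop : (Nat.card (oddCore X)).Coprime 2 := Core.pPrimeCore_coprime 2 X
            have e' : a ^ 2 = b ^ 2 := by simpa [sq, pow_two] using e
            exact (powCoprime hcop).injective e'
          obtain ⟨y, hy⟩ := (Finite.injective_iff_surjective.mp hsq) ⟨_, hm⟩
          refine ⟨y, ?_⟩
          have hy' : (y : X) * y = z * g * z⁻¹ * g⁻¹ := congrArg Subtype.val hy
          have h1 := hinv _ y.2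
          have h2 : g * z * g⁻¹ = ((y : X) * y)⁻¹ * z := by
            rw [hy']; group
          calc (y : X) * g * z * g⁻¹ * (y : X)⁻¹ = (y : X) * (g * z * g⁻¹) * (y : X)⁻¹ := by group
            _ = (y : X)⁻¹ * (z * (y : X)⁻¹ * z⁻¹) * z := by rw [h2]; group
            _ = z := by rw [hinv _ (inv_mem y.2)]; group
        obtain ⟨k, hk⟩ := hG z hz2 ⟨(y : X) * g, mem_centralizer_singleton_iff.mpr
          (by rw [← mul_inv_eq_iff_eq_mul, mul_inv_rev, ← mul_assoc]; exact hy)⟩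
        refine ⟨k, ?_⟩
        have h1 : ((y : X) * g : X) ^ 2 ^ k = 1 := congrArg Subtype.val hk
        have h2 := congrArg (QuotientGroup.mk' (oddCore X)) h1
        rw [map_pow, map_mul, map_one, show QuotientGroup.mk' (oddCore X) (y : X) = 1 from
          (QuotientGroup.eq_one_iff _).mpr y.2, one_mul] at h2
        exact h2
      haveI := (IsPGroup.isNilpotent (p := 2) (fun x => hcit x : IsPGroup 2 (X ⧸ oddCore X)))
      infer_instance
    haveI : Group.IsSolvable ↥(oddCore X) := Group.isSolvable_of_comm fun a b => mul_comm' a b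
    exact Group.isSolvable_of_ker_le_range (oddCore X).subtype (QuotientGroup.mk' (oddCore X)) (by simp)
  · exact Cfsg.Agent.S0205.result (Nat.odd_iff.2 (Nat.two_dvd_ne_zero.1 h2))

/-- A simple CIT group of order prime to three is a Suzuki group and has TI Sylow 2-subgroups. -/
theorem IsCIT.sylowTI_of_not_three_dvd [IsSimpleGroup X] (hG : IsCIT X) (hna : ¬ IsMulCommutative X)
    (h3 : ¬ 3 ∣ Nat.card X) : SylowTI X := by
  have hti : TIHolds.{u} := fun Y _ _ H hD => exists_tiShape hD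
  rcases trichotomy (ffHolds hti) (Nat.card X + 1) X hna hG (Nat.lt_succ_self _) with h | h | h
  · exact h
  · obtain ⟨F, i, j, ⟨e⟩⟩ := psl_of_dihedral hna hG h
    exact absurd (Nat.card_congr e.toEquiv ▸ SuzUnique.three_dvd_card_psl F) h3
  · obtain ⟨F, i, j, hF, ⟨e⟩⟩ := h
    refine absurd ?_ h3
    rw [Nat.card_congr e.toEquiv, card_psl_three_four hF]
    norm_num

theorem IsCIT.isoSuzuki_of_not_three_dvd [IsSimpleGroup X] (hG : IsCIT X) (hna : ¬ IsMulCommutative X)
    (h3 : ¬ 3 ∣ Nat.card X) : Cfsg.Lie.IsoSuzuki X := by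
  obtain ⟨S⟩ : Nonempty (Sylow 2 X) := inferInstance
  rcases SuzUnique.simple_zassenhaus
    (isZassenhausGroup (tiData hna hG (hG.sylowTI_of_not_three_dvd hna h3) S)) with ⟨F, i, j, ⟨e⟩⟩ | h
  · exact absurd (Nat.card_congr e.toEquiv ▸ SuzUnique.three_dvd_card_psl F) h3
  · exact h

/-- A non-solvable CIT group of order prime to three is a Suzuki group modulo its two-core. -/
theorem IsCIT.isoSuzuki_quotient (hG : IsCIT X) (hns : ¬ Group.IsSolvable X) (h3 : ¬ 3 ∣ Nat.card X) :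
    Cfsg.Lie.IsoSuzuki (X ⧸ Cfsg.pCore 2 X) := by
  haveI : Fact (Nat.Prime 2) := ⟨Nat.prime_two⟩
  set Q := Cfsg.pCore 2 X with hQ
  have hQ2 : IsPGroup 2 Q := Core.pCore_isPGroup 2 X
  have hY := hG.quotient Q hQ2
  haveI := hQ2.isNilpotent
  have hns' : ¬ Group.IsSolvable (X ⧸ Q) := fun h => hns (by
    haveI := h
    exact Group.isSolvable_of_ker_le_range Q.subtype (QuotientGroup.mk' Q) (by simp))
  haveI : Nontrivial (X ⧸ Q) := by
    by_contra h
    haveI := not_nontrivial_iff_subsingleton.1 h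
    exact hns' inferInstance
  have hO : oddCore (X ⧸ Q) = ⊥ := by
    by_contra h
    exact hns' (hY.isSolvable_of_oddCore h)
  obtain ⟨N, hNn, hNs, hNna⟩ := hY.exists_simple_normal (fun K hK hK2 => by
    have := Core.le_pCore' hK hK2
    rw [show Cfsg.pCore 2 (X ⧸ Q) = ⊥ from Core.pCore_quotient_pCore_eq_bot] at this
    exact le_bot_iff.mp this) hO
  haveI := hNn
  haveI := hNs
  have h3N : ¬ 3 ∣ Nat.card N := fun h =>
    h3 ((h.trans N.card_subgroup_dvd_card).trans (Subgroup.card_quotient_dvd_card Q))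
  have htop := hY.eq_top_of_sylowTI N hNna ((hY.subgroup N).sylowTI_of_not_three_dvd hNna h3N)
  obtain ⟨F, i, j, m, hm, hF, ⟨e⟩⟩ := (hY.subgroup N).isoSuzuki_of_not_three_dvd hNna h3N
  exact ⟨F, i, j, m, hm, hF,
    ⟨((MulEquiv.subgroupCongr htop).trans Subgroup.topEquiv).symm.trans e⟩⟩

end Cfsg.Lib.CIT
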