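import Cfsg.Agent.Lib.CIT.PlaneData
import Cfsg.Agent.Lib.CIT.Basic

/-!
The subgroups of a plane configuration: Sylow 2-subgroups of `P` meet in `V_P`, and `P` acts on them as `A_5`.
-/

set_option autoImplicit false
set_option linter.unusedSectionVars false
set_option linter.unusedSimpArgs false

namespace Cfsg.Lib.CIT

universe u

variable {G : Type u} [Group G] [Finite G]

/-- In a CIT group no element of odd prime order commutes with a nontrivial 2-element. -/
theorem not_commute_two (hc : IsCIT G) {x w : G} {r : ℕ} (hr : r.Prime) (hr2 : r ≠ 2) (hx : orderOf x = r)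
    {n : ℕ} (hw : w ^ (2 ^ n) = 1) (hw1 : w ≠ 1) : ¬ Commute x w := fun hcom => by
  have h1 : x = 1 := eq_one_of_odd_two (hc.isPGroup_centralizer ⟨n, hw⟩ hw1)
    (Subgroup.mem_centralizer_singleton_iff.2 hcom.eq) (by rw [hx]; exact hr.odd_of_ne_two hr2)
  rw [h1, orderOf_one] at hx
  exact hr.ne_one hx.symm

variable {S : Sylow 2 G} {P Q VP VQ : Subgroup G}

namespace PlaneConfig

theorem symm (h : PlaneConfig S P Q VP VQ) : PlaneConfig S Q P VQ VP where
  le_P := h.le_Q
  le_Q := h.le_P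
  card_S := h.card_S
  card_P := h.card_Q
  card_Q := h.card_P
  norm_P := h.norm_Q
  norm_Q := h.norm_P
  self_P := h.self_Q
  self_Q := h.self_P
  card_VP := h.card_VQ
  card_VQ := h.card_VP
  sq_VP := h.sq_VQ
  sq_VQ := h.sq_VP
  le_VP := h.le_VQ
  le_VQ := h.le_VP
  sup_eq := by rw [sup_comm]; exact h.sup_eq
  card_inf := by rw [inf_comm]; exact h.card_inf
  involutions := fun t ht ht2 => (h.involutions t ht ht2).symm
  center := fun z hz => h.center z (by rwa [inf_comm])
  conjugate := h.conjugate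
  centralizer_eq := fun z hz => h.centralizer_eq z (by rwa [inf_comm])
  trans_VP := h.trans_VQ
  trans_VQ := h.trans_VP
  cent_VP := h.cent_VQ
  cent_VQ := h.cent_VP
  norm_S := by rw [inf_comm]; exact h.norm_S
  card_norm_S := h.card_norm_S
  unique_P := h.unique_Q
  unique_Q := h.unique_P
  not_conj := fun g e => h.not_conj g⁻¹ (by
    subst e
    rw [Subgroup.map_map]
    convert Subgroup.map_id Q
    ext x; simp [mul_assoc])

variable (h : PlaneConfig S P Q VP VQ)
include h

theorem vp_le : VP ≤ P := h.le_VP.trans h.le_P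

theorem conj_mem_vp {p v : G} (hp : p ∈ P) (hv : v ∈ VP) : p * v * p⁻¹ ∈ VP := by
  rw [← h.norm_P] at hp
  exact (Subgroup.mem_normalizer_iff.1 hp v).1 hv

theorem card_inf_PQ : Nat.card ↥(P ⊓ Q) = 192 := by
  have h1 : 192 ∣ Nat.card ↥(P ⊓ Q) := h.card_norm_S ▸ Subgroup.card_dvd_of_le h.norm_S
  have h2 : Nat.card ↥(P ⊓ Q) ∣ 960 := h.card_P ▸ Subgroup.card_dvd_of_le inf_le_left
  obtain ⟨k, hk⟩ := h1
  rw [hk] at h2
  have hk5 : k ∣ 5 := Nat.dvd_of_mul_dvd_mul_left (by norm_num : 0 < 192) (by simpa using h2)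
  rcases (Nat.dvd_prime (by norm_num : Nat.Prime 5)).1 hk5 with rfl | rfl
  · simpa using hk
  · exfalso
    have e1 : P ⊓ Q = P := Subgroup.eq_of_le_of_card_ge inf_le_left (by rw [h.card_P, hk])
    have e2 : P ⊓ Q = Q := Subgroup.eq_of_le_of_card_ge inf_le_right (by rw [h.card_Q, hk])
    refine h.not_conj 1 ?_
    have hone : (MulAut.conj (1 : G)).toMonoidHom = MonoidHom.id G := by ext x; simp
    rw [hone, Subgroup.map_id, ← e1, e2]

theorem inf_PQ : P ⊓ Q = Subgroup.normalizer ((S : Subgroup G) : Set G) :=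
  (Subgroup.eq_of_le_of_card_ge h.norm_S (by rw [h.card_norm_S, h.card_inf_PQ])).symm

/-- The conjugates of `S` in `P` different from `S` meet it in `V_P`. -/
theorem sylow_inter (hc : IsCIT G) {p u : G} (hp : p ∈ P) (hpS : p ∉ Subgroup.normalizer ((S : Subgroup G) : Set G))
    (hu : u ∈ (S : Subgroup G)) (hu' : p⁻¹ * u * p ∈ (S : Subgroup G)) : u ∈ VP := by
  by_contra huV
  have hnorm : ∀ {a b : G}, a ∈ VQ → b ∈ VQ → a * b = b * a := fun {a b} ha hb => by
    have e := h.sq_VQ _ (mul_mem ha hb)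
    have ea := h.sq_VQ a ha
    have eb := h.sq_VQ b hb
    calc a * b = (a * b) * ((b * a) * (b * a)) := by rw [← sq (b * a), h.sq_VQ _ (mul_mem hb ha), mul_one]
      _ = a * (b * b) * a * (b * a) := by group
      _ = b * a := by rw [← sq b, eb, mul_one, ← sq a, ea, one_mul]
  -- the preimage of the centraliser of `u` modulo `VP`
  let C : Subgroup G :=
    { carrier := {g | g ∈ P ∧ g * u * g⁻¹ * u⁻¹ ∈ VP}
      one_mem' := ⟨one_mem P, by simp⟩
      mul_mem' := by
        rintro a b ⟨ha, ha'⟩ ⟨hb, hb'⟩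
        refine ⟨mul_mem ha hb, ?_⟩
        have := mul_mem (h.conj_mem_vp ha hb') ha'
        convert this using 1
        group
      inv_mem' := by
        rintro a ⟨ha, ha'⟩
        refine ⟨inv_mem ha, ?_⟩
        have := h.conj_mem_vp (inv_mem ha) (inv_mem ha')
        convert this using 1
        group }
  -- `S` centralises `u` modulo `VP`
  have hab : ∀ s ∈ (S : Subgroup G), ∀ w ∈ (S : Subgroup G), s * w * s⁻¹ * w⁻¹ ∈ VP := by
    have hmem : ∀ s ∈ (S : Subgroup G), ∃ v ∈ VP, ∃ a ∈ VQ, s = v * a := by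
      intro s hs
      have hle : VQ ≤ Subgroup.normalizer (VP : Set G) := h.le_VQ.trans (h.le_P.trans h.norm_P.ge)
      rw [← h.sup_eq, ← SetLike.mem_coe, Subgroup.coe_mul_of_right_le_normalizer_left VP VQ hle] at hs
      obtain ⟨v, hv, a, ha, rfl⟩ := Set.mem_mul.1 hs
      exact ⟨v, hv, a, ha, rfl⟩
    intro s hs w hw
    obtain ⟨v, hv, a, ha, rfl⟩ := hmem s hs
    obtain ⟨v', hv', a', ha', rfl⟩ := hmem w hw
    have hpa : a ∈ P := h.le_P (h.le_VQ ha)
    have hpa' : a' ∈ P := h.le_P (h.le_VQ ha')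
    have key := mul_mem (mul_mem hv (h.conj_mem_vp hpa hv'))
      (mul_mem (h.conj_mem_vp hpa' (inv_mem hv)) (inv_mem hv'))
    convert key using 1
    calc v * a * (v' * a') * (v * a)⁻¹ * (v' * a')⁻¹
        = v * (a * v' * a⁻¹) * ((a * a') * a⁻¹) * v⁻¹ * a'⁻¹ * v'⁻¹ := by group
      _ = v * (a * v' * a⁻¹) * ((a' * a) * a⁻¹) * v⁻¹ * a'⁻¹ * v'⁻¹ := by rw [hnorm ha ha']
      _ = _ := by group
  have hSC : (S : Subgroup G) ≤ C := fun s hs => ⟨h.le_P hs, hab s hs u hu⟩
  have hS'C : ∀ s ∈ (S : Subgroup G), p * s * p⁻¹ ∈ C := fun s hs => ⟨mul_mem (mul_mem hp (h.le_P hs)) (inv_mem hp), by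
    have := h.conj_mem_vp hp (hab s hs _ hu')
    convert this using 1
    group⟩
  have hne : C ≠ (S : Subgroup G) := fun e => hpS (Subgroup.mem_normalizer_fintype (fun s hs => e ▸ hS'C s hs))
  -- an element of odd prime order in `C`
  have hdvd : Nat.card ↥C ∣ 960 := h.card_P ▸ Subgroup.card_dvd_of_le (fun g hg => hg.1)
  obtain ⟨k, hk⟩ : 64 ∣ Nat.card ↥C := h.card_S ▸ Subgroup.card_dvd_of_le hSC
  have hk1 : k ≠ 1 := fun e => hne (Subgroup.eq_of_le_of_card_ge hSC (by rw [hk, h.card_S, e])).symm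
  obtain ⟨r, hr, hrk⟩ := Nat.exists_prime_and_dvd hk1
  have hr15 : r ∣ 15 := hrk.trans (Nat.dvd_of_mul_dvd_mul_left (by norm_num : 0 < 64) (by rw [← hk]; exact hdvd))
  have hr2 : r ≠ 2 := fun e => by rw [e] at hr15; norm_num at hr15
  haveI := Fact.mk hr
  obtain ⟨x, hx⟩ := exists_prime_orderOf_dvd_card' r (G := ↥C) (hk ▸ dvd_mul_of_dvd_right hrk 64)
  -- `x` permutes the coset `VP u`
  have hxP : (x : G) ∈ P := x.2.1
  let W : Type u := ↥VP
  let φ : Equiv.Perm W :=
    { toFun := fun v => ⟨(x : G) * (v * u) * (x : G)⁻¹ * u⁻¹, by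
        have := mul_mem (h.conj_mem_vp hxP v.2) x.2.2
        convert this using 1
        group⟩
      invFun := fun v => ⟨(x : G)⁻¹ * (v * u) * (x : G) * u⁻¹, by
        have := mul_mem (h.conj_mem_vp (inv_mem hxP) v.2) (x⁻¹).2.2
        convert this using 1
        simp; group⟩
      left_inv := fun v => Subtype.ext (by simp; group)
      right_inv := fun v => Subtype.ext (by simp; group) }
  have hpow : ∀ m : ℕ, ∀ v : W, ((φ ^ m) v : G) * u = (x : G) ^ m * (v * u) * ((x : G) ^ m)⁻¹ := by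
    intro m
    induction m with
    | zero => intro v; simp
    | succ m ih =>
      intro v
      rw [pow_succ', Equiv.Perm.mul_apply]
      show (x : G) * (((φ ^ m) v : G) * u) * (x : G)⁻¹ * u⁻¹ * u = _
      rw [ih, pow_succ']; group
  have hxr : (x : G) ^ r = 1 := by rw [← hx, ← Subgroup.orderOf_coe]; exact pow_orderOf_eq_one _
  have hφ : φ ^ r ^ 1 = 1 := Equiv.ext fun v => Subtype.ext (by
    have := hpow r v
    rw [hxr] at this
    simpa using this)
  haveI : Fintype W := Fintype.ofFinite W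
  have hW : ¬ r ∣ Fintype.card W := by
    rw [← Nat.card_eq_fintype_card, h.card_VP, show (16 : ℕ) = 2 ^ 4 by norm_num]
    exact fun hd => hr2 ((Nat.prime_dvd_prime_iff_eq hr Nat.prime_two).1 (hr.dvd_of_dvd_pow hd))
  obtain ⟨v, hv⟩ := Equiv.Perm.exists_fixed_point_of_prime hW hφ
  have hfix : (x : G) * ((v : G) * u) * (x : G)⁻¹ = (v : G) * u := by
    have := hpow 1 v
    rw [pow_one, pow_one, hv] at this
    exact this.symm
  obtain ⟨n, hn⟩ := S.isPGroup' ⟨(v : G) * u, mul_mem (h.le_VP v.2) hu⟩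
  exact not_commute_two hc hr hr2 (by rw [Subgroup.orderOf_coe]; exact hx) (congrArg Subtype.val hn)
    (fun e => huV (by rw [eq_inv_of_mul_eq_one_right e]; exact inv_mem v.2)) (mul_inv_eq_iff_eq_mul.1 hfix)

/-- The normaliser of `S` inside `P`. -/
theorem card_normS_in : Nat.card ↥((Subgroup.normalizer ((S : Subgroup G) : Set G)).subgroupOf P) = 192 := by
  rw [Nat.card_congr (Subgroup.subgroupOfEquivOfLe (h.norm_S.trans inf_le_left)).toEquiv, h.card_norm_S]

theorem index_normS_in : ((Subgroup.normalizer ((S : Subgroup G) : Set G)).subgroupOf P).index = 5 := by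
  have := Subgroup.card_mul_index ((Subgroup.normalizer ((S : Subgroup G) : Set G)).subgroupOf P)
  rw [h.card_normS_in, h.card_P] at this
  omega

/-- `P` acts on its five Sylow 2-subgroups as the alternating group, with kernel `V_P`. -/
theorem exists_alt_hom (hc : IsCIT G) :
    ∃ π : ↥P →* ↥(alternatingGroup (Fin 5)), Function.Surjective π ∧ π.ker = VP.subgroupOf P := by
  classical
  set N := (Subgroup.normalizer ((S : Subgroup G) : Set G)).subgroupOf P with hN
  have hcard : Nat.card (↥P ⧸ N) = 5 := by rw [← Subgroup.index, h.index_normS_in]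
  let e : (↥P ⧸ N) ≃ Fin 5 := Finite.equivFinOfCardEq hcard
  let π₀ : ↥P →* Equiv.Perm (Fin 5) := e.permCongrHom.toMonoidHom.comp (MulAction.toPermHom ↥P (↥P ⧸ N))
  have hker : π₀.ker = N.normalCore := by
    rw [Subgroup.normalCore_eq_ker]
    ext x
    rw [MonoidHom.mem_ker, MonoidHom.mem_ker]
    exact map_eq_one_iff _ e.permCongrHom.injective
  have hVN : VP.subgroupOf P ≤ N.normalCore := fun v hv q => by
    rw [hN, Subgroup.mem_subgroupOf]
    exact Subgroup.le_normalizer (h.le_VP (h.conj_mem_vp q.2 (Subgroup.mem_subgroupOf.1 hv)))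
  have hcore : N.normalCore ≤ VP.subgroupOf P := by
    -- another Sylow subgroup
    obtain ⟨p, hpP, hp⟩ : ∃ p ∈ P, p ∉ Subgroup.normalizer ((S : Subgroup G) : Set G) := by
      by_contra hall
      push Not at hall
      have := Subgroup.card_le_of_le (show P ≤ _ from hall)
      rw [h.card_norm_S, h.card_P] at this
      omega
    have hSN : ∀ a : G, a ∈ (S : Subgroup G) → ∀ q : G, q ∈ Subgroup.normalizer ((S : Subgroup G) : Set G) →
        q * a * q⁻¹ ∈ (S : Subgroup G) := fun a ha q hq => (Subgroup.mem_normalizer_iff.1 hq a).1 ha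
    -- a 2-element of the core lies in `VP`
    have htwo : ∀ c : ↥P, c ∈ N.normalCore → (c : G) ∈ (S : Subgroup G) → (c : G) ∈ VP := by
      intro c hcc hcS
      refine h.sylow_inter hc hpP hp hcS ?_
      have h1 := hcc ⟨p⁻¹, inv_mem hpP⟩
      rw [hN, Subgroup.mem_subgroupOf] at h1
      simp at h1
      -- a 2-element of the normaliser
      obtain ⟨n, hn⟩ := S.isPGroup' ⟨c, hcS⟩
      have hn' : (c : G) ^ 2 ^ n = 1 := congrArg Subtype.val hn
      have hz : IsPGroup 2 ↥(Subgroup.zpowers (p⁻¹ * (c : G) * p)) := by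
        refine IsPGroup.iff_card.2 ?_
        obtain ⟨k, -, hk⟩ := (Nat.dvd_prime_pow Nat.prime_two).1 (orderOf_dvd_of_pow_eq_one
          (show (p⁻¹ * (c : G) * p) ^ 2 ^ n = 1 by
            rw [show p⁻¹ * (c : G) * p = p⁻¹ * (c : G) * p⁻¹⁻¹ by rw [inv_inv], conj_pow, hn']; group))
        exact ⟨k, by rw [Nat.card_zpowers, hk]⟩
      have hle : Subgroup.zpowers (p⁻¹ * (c : G) * p) ≤ Subgroup.normalizer ((S : Subgroup G) : Set G) := by
        rw [Subgroup.zpowers_le]; exact h1
      exact ((IsPGroup.inf_normalizer_sylow hz S).le ⟨Subgroup.mem_zpowers _, hle (Subgroup.mem_zpowers _)⟩).2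
    intro c hcc
    rw [Subgroup.mem_subgroupOf]
    by_cases hcS : (c : G) ∈ (S : Subgroup G)
    · exact htwo c hcc hcS
    exfalso
    have hcN : (c : G) ∈ Subgroup.normalizer ((S : Subgroup G) : Set G) :=
      Subgroup.mem_subgroupOf.1 (Subgroup.normalCore_le N hcc)
    -- an element of order 3 in the core
    have h3 : (3 : ℕ) ∣ orderOf (c : G) := by
      have hd : orderOf (c : G) ∣ 192 := h.card_norm_S ▸ Subgroup.orderOf_coe (⟨(c : G), hcN⟩ : ↥(Subgroup.normalizer ((S : Subgroup G) : Set G))) ▸ orderOf_dvd_natCard _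
      by_contra h3
      have hd2 : orderOf (c : G) ∣ 2 ^ 6 :=
        (Nat.Coprime.dvd_of_dvd_mul_right ((Nat.Prime.coprime_iff_not_dvd Nat.prime_three).2 h3).symm
          (show orderOf (c : G) ∣ 2 ^ 6 * 3 from hd))
      obtain ⟨k, -, hk⟩ := (Nat.dvd_prime_pow Nat.prime_two).1 hd2
      have hz : IsPGroup 2 ↥(Subgroup.zpowers (c : G)) := IsPGroup.iff_card.2 ⟨k, by rw [Nat.card_zpowers, hk]⟩
      exact hcS ((IsPGroup.inf_normalizer_sylow hz S).le ⟨Subgroup.mem_zpowers _, hcN⟩).2
    obtain ⟨m, hm⟩ := h3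
    have hm0 : 0 < m := by
      rcases Nat.eq_zero_or_pos m with rfl | hm0
      · exact absurd hm (orderOf_pos (c : G)).ne'
      · exact hm0
    set y := c ^ m with hy
    have hy3 : orderOf (y : G) = 3 := by
      rw [hy, Subgroup.coe_pow, orderOf_pow_of_dvd hm0.ne' ⟨3, by rw [hm]; ring⟩, hm, Nat.mul_div_cancel _ hm0]
    have hyC : y ∈ N.normalCore := pow_mem hcc m
    have hyN : (y : G) ∈ Subgroup.normalizer ((S : Subgroup G) : Set G) :=
      Subgroup.mem_subgroupOf.1 (Subgroup.normalCore_le N hyC)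
    -- `y` fixes the coset of every element of `S`
    obtain ⟨s, hs, hsV⟩ : ∃ s ∈ (S : Subgroup G), s ∉ VP := by
      by_contra hall
      push Not at hall
      have := Subgroup.card_le_of_le (show (S : Subgroup G) ≤ VP from hall)
      rw [h.card_S, h.card_VP] at this
      omega
    have hsP := h.le_P hs
    have hcomm : (y : G) * s * (y : G)⁻¹ * s⁻¹ ∈ VP := by
      have hmem : y * (⟨s, hsP⟩ : ↥P) * y⁻¹ * (⟨s, hsP⟩ : ↥P)⁻¹ ∈ N.normalCore := by
        rw [mul_assoc, mul_assoc]
        refine mul_mem hyC ?_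
        rw [← mul_assoc]
        exact (Subgroup.normalCore_normal N).conj_mem _ (inv_mem hyC) _
      exact htwo _ hmem (mul_mem (hSN s hs y hyN) (inv_mem hs))
    -- then `y` has a fixed point on the coset
    haveI : Fintype ↥VP := Fintype.ofFinite _
    let φ : ↥VP → ↥VP := fun v => ⟨(y : G) * (v * s) * (y : G)⁻¹ * s⁻¹, by
      have := mul_mem (h.conj_mem_vp y.2 v.2) hcomm
      convert this using 1
      group⟩
    have hφ3 : ∀ v, φ (φ (φ v)) = v := fun v => Subtype.ext (by
      have hy1 : (y : G) ^ 3 = 1 := hy3 ▸ pow_orderOf_eq_one _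
      have e : ((φ (φ (φ v)) : ↥VP) : G) = (y : G) ^ 3 * (v * s) * ((y : G) ^ 3)⁻¹ * s⁻¹ := by
        simp only [φ, pow_succ, pow_zero, one_mul]; group
      rw [e, hy1]; group)
    let φe : Equiv.Perm ↥VP := ⟨φ, fun v => φ (φ v), hφ3, hφ3⟩
    haveI : Fact (Nat.Prime 3) := ⟨Nat.prime_three⟩
    obtain ⟨v, hv⟩ := Equiv.Perm.exists_fixed_point_of_prime (σ := φe) (p := 3) (n := 1)
      (by rw [← Nat.card_eq_fintype_card, h.card_VP]; norm_num)
      (Equiv.ext fun v => by simp [pow_succ, φe, hφ3])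
    have hv' : (y : G) * ((v : G) * s) * (y : G)⁻¹ * s⁻¹ = (v : G) := congrArg Subtype.val hv
    obtain ⟨n, hn⟩ := S.isPGroup' ⟨(v : G) * s, mul_mem (h.le_VP v.2) hs⟩
    exact not_commute_two hc Nat.prime_three (by norm_num) hy3 (congrArg Subtype.val hn)
      (fun e => hsV (by rw [eq_inv_of_mul_eq_one_right e]; exact inv_mem v.2))
      (mul_inv_eq_iff_eq_mul.1 (mul_inv_eq_iff_eq_mul.1 hv'))
  have hk : π₀.ker = VP.subgroupOf P := hker.trans (le_antisymm hcore hVN)
  have hr : Nat.card ↥π₀.range = 60 := by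
    rw [← Subgroup.index_ker, hk]
    have := Subgroup.card_mul_index (VP.subgroupOf P)
    rw [Nat.card_congr (Subgroup.subgroupOfEquivOfLe h.vp_le).toEquiv, h.card_VP, h.card_P] at this
    omega
  have halt : π₀.range = alternatingGroup (Fin 5) := by
    refine Equiv.Perm.eq_alternatingGroup_of_index_eq_two ?_
    have := Subgroup.card_mul_index π₀.range
    rw [hr, Nat.card_perm, Nat.card_eq_fintype_card, Fintype.card_fin] at this
    simp [Nat.factorial] at this
    omega
  let π : ↥P →* ↥(alternatingGroup (Fin 5)) := π₀.codRestrict _ fun p => halt.le ⟨p, rfl⟩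
  refine ⟨π, fun a => ?_, ?_⟩
  · obtain ⟨p, hp⟩ := halt.ge a.2
    exact ⟨p, Subtype.ext hp⟩
  · rw [← hk]
    exact MonoidHom.ker_codRestrict π₀ _ _

/-- No subgroup of index 3 or 4 modulo `V_P`. -/
theorem index_ne (hc : IsCIT G) (M : Subgroup ↥P) (hM : VP.subgroupOf P ≤ M) : M.index ≠ 3 ∧ M.index ≠ 4 := by
  obtain ⟨π, hπ, hk⟩ := h.exists_alt_hom hc
  have hi : (M.map π).index = M.index := Subgroup.index_map_eq M hπ (hk.trans_le hM)
  haveI := alternatingGroup.isSimpleGroup_five
  have key : ∀ i : ℕ, i = 3 ∨ i = 4 → (M.map π).index ≠ i := by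
    intro i hi' e
    set A := M.map π
    rcases (A.normalCore_normal).eq_bot_or_eq_top with hb | ht
    · have hinj : Function.Injective (MulAction.toPermHom ↥(alternatingGroup (Fin 5)) (_ ⧸ A)) :=
        (MonoidHom.ker_eq_bot_iff _).1 ((Subgroup.normalCore_eq_ker A).symm.trans hb)
      have := Nat.card_le_card_of_injective _ hinj
      rw [Nat.card_perm, ← Subgroup.index, e, nat_card_alternatingGroup, Nat.card_eq_fintype_card,
        Fintype.card_fin] at this
      rcases hi' with rfl | rfl <;> simp [Nat.factorial] at this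
    · have : A = ⊤ := top_unique (ht ▸ A.normalCore_le)
      rw [this, Subgroup.index_top] at e
      omega
  exact ⟨fun e => key 3 (Or.inl rfl) (hi.trans e), fun e => key 4 (Or.inr rfl) (hi.trans e)⟩

set_option maxHeartbeats 1600000 in
/-- `V_Q` and a conjugate from another Sylow subgroup generate `P`. -/
theorem gen_eq (hc : IsCIT G) {p : G} (hp : p ∈ P) (hpS : p ∉ Subgroup.normalizer ((S : Subgroup G) : Set G)) :
    P ≤ VQ ⊔ VQ.map (MulAut.conj p).toMonoidHom := by
  set H := VQ ⊔ VQ.map (MulAut.conj p).toMonoidHom with hH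
  have hHP : H ≤ P := sup_le (h.le_VQ.trans h.le_P) (by
    rintro _ ⟨a, ha, rfl⟩
    exact mul_mem (mul_mem hp (h.le_P (h.le_VQ ha))) (inv_mem hp))
  set M := VP ⊔ H with hMdef
  have hSM : (S : Subgroup G) ≤ M := h.sup_eq ▸ sup_le le_sup_left (le_sup_left.trans le_sup_right)
  have hS'M : ∀ s ∈ (S : Subgroup G), p * s * p⁻¹ ∈ M := by
    have hle : (S : Subgroup G) ≤ M.comap (MulAut.conj p).toMonoidHom := by
      rw [← h.sup_eq]
      refine sup_le (fun v hv => ?_) fun a ha => ?_
      · exact Subgroup.mem_sup_left (h.conj_mem_vp hp hv)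
      · exact Subgroup.mem_sup_right (Subgroup.mem_sup_right ⟨a, ha, rfl⟩)
    exact fun s hs => hle hs
  have hMP : M ≤ P := sup_le h.vp_le hHP
  have hdvd : Nat.card ↥M ∣ 960 := h.card_P ▸ Subgroup.card_dvd_of_le hMP
  obtain ⟨k, hk⟩ : 64 ∣ Nat.card ↥M := h.card_S ▸ Subgroup.card_dvd_of_le hSM
  have hk15 : k ∣ 15 := Nat.dvd_of_mul_dvd_mul_left (by norm_num : 0 < 64) (by rw [← hk]; exact hdvd)
  have hk1 : k ≠ 1 := fun e => hpS (Subgroup.mem_normalizer_fintype fun s hs => by
    rw [Subgroup.eq_of_le_of_card_ge hSM (by rw [hk, h.card_S, e])]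
    exact hS'M s hs)
  have hMi : (M.subgroupOf P).index * k = 15 := by
    have := Subgroup.card_mul_index (M.subgroupOf P)
    rw [Nat.card_congr (Subgroup.subgroupOfEquivOfLe hMP).toEquiv, hk, h.card_P] at this
    linarith
  have hM : M = P := by
    have hk' : k = 3 ∨ k = 5 ∨ k = 15 := by
      have := Nat.mem_divisors.2 ⟨hk15, by norm_num⟩
      rw [show Nat.divisors 15 = {1, 3, 5, 15} by decide] at this
      simp only [Finset.mem_insert, Finset.mem_singleton] at this
      omega
    rcases hk' with rfl | rfl | rfl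
    · -- three Sylow subgroups
      exfalso
      have hidx : ((S : Subgroup G).subgroupOf M).index = 3 := by
        have := Subgroup.card_mul_index ((S : Subgroup G).subgroupOf M)
        rw [Nat.card_congr (Subgroup.subgroupOfEquivOfLe hSM).toEquiv, hk, h.card_S] at this
        omega
      -- the core is small
      have hcore : ((S : Subgroup G).subgroupOf M).normalCore ≤ VP.subgroupOf M := by
        intro c hcc
        rw [Subgroup.mem_subgroupOf]
        haveI : Fact (Nat.Prime 2) := ⟨Nat.prime_two⟩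
        let T : Subgroup ↥M := ((S : Subgroup G).map (MulAut.conj p).toMonoidHom).subgroupOf M
        have hT : T ≤ ⊤ := le_top
        have hpS' : (S : Subgroup G).map (MulAut.conj p).toMonoidHom ≤ M := by
          rintro _ ⟨s, hs, rfl⟩; exact hS'M s hs
        have hTc : Nat.card ↥T = 64 := by
          rw [Nat.card_congr (Subgroup.subgroupOfEquivOfLe hpS').toEquiv,
            Subgroup.card_map_of_injective (MulAut.conj p).injective, h.card_S]
        obtain ⟨R, hR⟩ := (IsPGroup.of_card (n := 6) (by rw [hTc]; norm_num) : IsPGroup 2 ↥T).exists_le_sylow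
        let R₀ := S.subtype hSM
        obtain ⟨m, hm⟩ := MulAction.exists_smul_eq ↥M R₀ R
        have hRc : Nat.card ↥(R : Subgroup ↥M) = 64 := by
          rw [← hm, Sylow.coe_subgroup_smul]
          refine (Nat.card_congr (Subgroup.equivSMul _ _).toEquiv.symm).trans ?_
          rw [Sylow.coe_subtype, Nat.card_congr (Subgroup.subgroupOfEquivOfLe hSM).toEquiv, h.card_S]
        have hTR : T = (R : Subgroup ↥M) := Subgroup.eq_of_le_of_card_ge hR (by rw [hRc, hTc])
        have hcT : c ∈ T := by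
          rw [hTR, ← hm, Sylow.coe_subgroup_smul, Sylow.coe_subtype, Subgroup.mem_pointwise_smul_iff_inv_smul_mem]
          simpa [Subgroup.mem_subgroupOf, MulAut.smul_def] using hcc m⁻¹
        rw [Subgroup.mem_subgroupOf] at hcT
        obtain ⟨s, hs, hse⟩ := hcT
        refine h.sylow_inter hc hp hpS (Subgroup.mem_subgroupOf.1 (Subgroup.normalCore_le _ hcc)) ?_
        rw [← hse]
        show p⁻¹ * (p * s * p⁻¹) * p ∈ (S : Subgroup G)
        rw [show p⁻¹ * (p * s * p⁻¹) * p = s by group]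
        exact hs
      have h16 : Nat.card ↥((S : Subgroup G).subgroupOf M).normalCore ≤ 16 := by
        refine (Subgroup.card_le_of_le hcore).trans (le_of_eq ?_)
        rw [Nat.card_congr (Subgroup.subgroupOfEquivOfLe (le_sup_left : VP ≤ M)).toEquiv, h.card_VP]
      have h6 : ((S : Subgroup G).subgroupOf M).normalCore.index ≤ 6 := by
        rw [Subgroup.normalCore_eq_ker, Subgroup.index_ker]
        refine (Subgroup.card_le_card_group _).trans (le_of_eq ?_)
        rw [Nat.card_perm, ← Subgroup.index, hidx]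
        rfl
      have := Subgroup.card_mul_index ((S : Subgroup G).subgroupOf M).normalCore
      rw [hk] at this
      nlinarith
    · exact absurd (show (M.subgroupOf P).index = 3 by omega)
        (h.index_ne hc _ (fun v hv => Subgroup.mem_subgroupOf.2
          (Subgroup.mem_sup_left (Subgroup.mem_subgroupOf.1 hv)))).1
    · exact Subgroup.eq_of_le_of_card_ge hMP (by rw [hk, h.card_P])
  -- `H` contains `VP`
  obtain ⟨z, hz, hz1⟩ : ∃ z ∈ VP ⊓ VQ, z ≠ 1 := by
    by_contra hall
    push Not at hall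
    have : VP ⊓ VQ = ⊥ := (Subgroup.eq_bot_iff_forall _).2 hall
    have h4 := h.card_inf
    rw [this, Subgroup.card_bot] at h4
    omega
  have hcomm : ∀ a ∈ VP, ∀ b ∈ VP, a * b = b * a := fun a ha b hb => by
    have hab : a ∈ Subgroup.centralizer (VP : Set G) := by rw [h.cent_VP]; exact ha
    exact (Subgroup.mem_centralizer_iff.1 hab b hb).symm
  have hnormal : ∀ m ∈ M, ∀ c ∈ H ⊓ VP, m * c * m⁻¹ ∈ H ⊓ VP := by
    have : M ≤ Subgroup.normalizer ((H ⊓ VP : Subgroup G) : Set G) := by
      refine sup_le (fun v hv => Subgroup.mem_normalizer_fintype fun c hcm => ?_)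
        (fun a ha => Subgroup.mem_normalizer_fintype fun c hcm => ?_)
      · rw [hcomm v hv c hcm.2, mul_inv_cancel_right]; exact hcm
      · exact ⟨H.mul_mem (H.mul_mem ha hcm.1) (H.inv_mem ha), h.conj_mem_vp (hHP ha) hcm.2⟩
    exact fun m hm c hcm => (Subgroup.mem_normalizer_iff.1 (this hm) c).1 hcm
  have hVH : VP ≤ H := fun v hv => by
    rcases eq_or_ne v 1 with rfl | hv1
    · exact one_mem H
    obtain ⟨g, hg, rfl⟩ := h.trans_VP z hz.1 v hv hz1 hv1
    exact (hnormal g (hM.ge hg) z ⟨le_sup_left (α := Subgroup G) hz.2, hz.1⟩).1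
  exact hM.ge.trans (sup_le hVH le_rfl)

end PlaneConfig

end Cfsg.Lib.CIT
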