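import Cfsg.Agent.Lib.CIT.PlaneBase

/-!
The plane of a configuration: points are the cosets of `P`, lines the translates of the orbit of `Q`
on the base point. Counting involutions shows that there are 21 points and that they form a plane
of order 4.
-/

set_option autoImplicit false
set_option linter.unusedSectionVars false
set_option linter.unusedSimpArgs false

namespace Cfsg.Lib.CIT

universe u

variable {G : Type u} [Group G]

/-- The point `x` lies on the line named by `g`. -/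
def OnLine (P Q : Subgroup G) (g : G) (x : G ⧸ P) : Prop := ∃ q ∈ Q, ((g * q : G) : G ⧸ P) = x

theorem OnLine.smul {P Q : Subgroup G} {g : G} {x : G ⧸ P} (hx : OnLine P Q g x) (a : G) :
    OnLine P Q (a * g) (a • x) := by
  obtain ⟨q, hq, rfl⟩ := hx
  exact ⟨q, hq, by rw [MulAction.Quotient.smul_coe, smul_eq_mul, mul_assoc]⟩

theorem OnLine.of_mul_mem {P Q : Subgroup G} {g g' : G} {x : G ⧸ P} (hx : OnLine P Q g x) (h : g'⁻¹ * g ∈ Q) :
    OnLine P Q g' x := by
  obtain ⟨q, hq, rfl⟩ := hx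
  exact ⟨g'⁻¹ * g * q, mul_mem h hq, by rw [mul_assoc, mul_inv_cancel_left]⟩

theorem onLine_self (P Q : Subgroup G) (g : G) : OnLine P Q g (g : G ⧸ P) :=
  ⟨1, one_mem Q, by rw [mul_one]⟩

/-- A point is collinear with the base point. -/
def Col (P Q : Subgroup G) (y : G ⧸ P) : Prop := ∃ p ∈ P, OnLine P Q p y

theorem coe_eq_base {P : Subgroup G} {p : G} (hp : p ∈ P) : (p : G ⧸ P) = ((1 : G) : G ⧸ P) :=
  QuotientGroup.eq.2 (by simpa using inv_mem hp)

theorem mem_of_coe_eq_base {P : Subgroup G} {p : G} (hp : (p : G ⧸ P) = ((1 : G) : G ⧸ P)) : p ∈ P := by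
  simpa using QuotientGroup.eq.1 hp.symm

theorem smul_base {P : Subgroup G} (g : G) : g • ((1 : G) : G ⧸ P) = (g : G ⧸ P) := by
  rw [MulAction.Quotient.smul_coe, smul_eq_mul, mul_one]

variable [Finite G] {S : Sylow 2 G} {P Q VP VQ : Subgroup G}

theorem ncard_coe (H : Subgroup G) : (H : Set G).ncard = Nat.card ↥H :=
  (Nat.card_coe_set_eq (H : Set G)).symm

namespace PlaneConfig

variable (h : PlaneConfig S P Q VP VQ)
include h

theorem index_Q_in_P : (Q.subgroupOf P).index = 5 := by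
  have := Subgroup.card_mul_index (Q.subgroupOf P)
  rw [← Subgroup.inf_subgroupOf_left Q P,
    Nat.card_congr (Subgroup.subgroupOfEquivOfLe (inf_le_left : P ⊓ Q ≤ P)).toEquiv, h.card_inf_PQ, h.card_P] at this
  rw [← Subgroup.inf_subgroupOf_left Q P]
  omega

theorem vq_le : VQ ≤ Q := h.symm.vp_le

theorem vq_le_P : VQ ≤ P := h.le_VQ.trans h.le_P

/-- `V_Q` fixes the points of the base line. -/
theorem vq_fix {v : G} (hv : v ∈ VQ) {x : G ⧸ P} (hx : OnLine P Q 1 x) : v • x = x := by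
  obtain ⟨q, hq, rfl⟩ := hx
  rw [one_mul, MulAction.Quotient.smul_coe, smul_eq_mul, QuotientGroup.eq]
  have := h.vq_le_P (h.symm.conj_mem_vp (inv_mem hq) (inv_mem hv))
  simpa [mul_assoc] using this

/-- Two points are on at most one line: the normalised form. -/
theorem line_unique_base (hc : IsCIT G) {p : G} (hp : p ∈ P) {y : G ⧸ P} (hy : y ≠ ((1 : G) : G ⧸ P))
    (h1 : OnLine P Q 1 y) (h2 : OnLine P Q p y) : p ∈ Q := by
  by_contra hpQ
  have hpS : p ∉ Subgroup.normalizer ((S : Subgroup G) : Set G) := fun e => hpQ (h.norm_S e).2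
  have hA : VQ ≤ MulAction.stabilizer G y := fun v hv => h.vq_fix hv h1
  have hB : VQ.map (MulAut.conj p).toMonoidHom ≤ MulAction.stabilizer G y := by
    rintro _ ⟨v, hv, rfl⟩
    show (p * v * p⁻¹) • y = y
    have h3 : OnLine P Q 1 (p⁻¹ • y) := by simpa using h2.smul p⁻¹
    rw [mul_smul, mul_smul, h.vq_fix hv h3, smul_inv_smul]
  have hle : P ≤ MulAction.stabilizer G y := (h.gen_eq hc hp hpS).trans (sup_le hA hB)
  obtain ⟨q, hq, rfl⟩ := h1
  rw [one_mul] at hy hle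
  refine hy (coe_eq_base ?_)
  rw [← h.self_P]
  refine Subgroup.mem_normalizer_fintype fun a ha => ?_
  show q * a * q⁻¹ ∈ P
  -- `q⁻¹ P q ≤ P`, hence equal
  have hsub : P.map (MulAut.conj q⁻¹).toMonoidHom ≤ P := by
    rintro _ ⟨b, hb, rfl⟩
    have hb' : b • (q : G ⧸ P) = (q : G ⧸ P) := hle hb
    rw [MulAction.Quotient.smul_coe, smul_eq_mul, QuotientGroup.eq] at hb'
    show q⁻¹ * b * q⁻¹⁻¹ ∈ P
    have := inv_mem hb'
    simpa [mul_assoc] using this
  have heq := Subgroup.eq_of_le_of_card_ge hsub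
    (le_of_eq (Subgroup.card_map_of_injective (MulAut.conj q⁻¹).injective).symm)
  obtain ⟨b, hb, hbe⟩ := heq.ge ha
  rw [← hbe]
  show q * (q⁻¹ * b * q⁻¹⁻¹) * q⁻¹ ∈ P
  simpa [mul_assoc] using hb

/-- Two points are on at most one line. -/
theorem line_unique (hc : IsCIT G) {g g' : G} {x y : G ⧸ P} (hxy : x ≠ y) (hx : OnLine P Q g x)
    (hy : OnLine P Q g y) (hx' : OnLine P Q g' x) (hy' : OnLine P Q g' y) : g'⁻¹ * g ∈ Q := by
  obtain ⟨q, hq, hqx⟩ := hx
  obtain ⟨q', hq', hqx'⟩ := hx'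
  have hp : (g * q)⁻¹ * (g' * q') ∈ P := QuotientGroup.eq.1 (hqx.trans hqx'.symm)
  have h1 : OnLine P Q 1 ((g * q)⁻¹ • y) := by
    have := (hy.of_mul_mem (g' := g * q) (by simpa using inv_mem hq)).smul (g * q)⁻¹
    simpa using this
  have h2 : OnLine P Q ((g * q)⁻¹ * (g' * q')) ((g * q)⁻¹ • y) :=
    (hy'.of_mul_mem (g' := g' * q') (by simpa using inv_mem hq')).smul (g * q)⁻¹
  have hne : (g * q)⁻¹ • y ≠ ((1 : G) : G ⧸ P) := fun e => hxy (by
    rw [← hqx, ← smul_base, ← e, smul_inv_smul])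
  have hQ := h.line_unique_base hc hp hne h1 h2
  have e : g'⁻¹ * g = q' * ((g * q)⁻¹ * (g' * q'))⁻¹ * q⁻¹ := by group
  rw [e]
  exact mul_mem (mul_mem hq' (inv_mem hQ)) (inv_mem hq)

theorem ncard_onLine (g : G) : {x : G ⧸ P | OnLine P Q g x}.ncard = 5 := by
  have himg : {x : G ⧸ P | OnLine P Q g x} =
      (fun c : ↥Q ⧸ P.subgroupOf Q => ((g * (c.out : G) : G) : G ⧸ P)) '' Set.univ := by
    ext x
    constructor
    · rintro ⟨q, hq, rfl⟩
      refine ⟨((⟨q, hq⟩ : ↥Q) : ↥Q ⧸ P.subgroupOf Q), trivial, ?_⟩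
      obtain ⟨n, hn⟩ := QuotientGroup.mk_out_eq_mul (P.subgroupOf Q) (⟨q, hq⟩ : ↥Q)
      simp only [hn, QuotientGroup.eq, Subgroup.coe_mul]
      have := inv_mem (Subgroup.mem_subgroupOf.1 n.2)
      simpa [mul_assoc] using this
    · rintro ⟨c, -, rfl⟩
      exact ⟨(c.out : G), c.out.2, rfl⟩
  rw [himg, Set.ncard_image_of_injective, Set.ncard_univ, ← Subgroup.index, h.symm.index_Q_in_P]
  intro c c' hcc
  rw [← c.out_eq', ← c'.out_eq']
  refine QuotientGroup.eq.2 (Subgroup.mem_subgroupOf.2 ?_)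
  have := QuotientGroup.eq.1 hcc
  simpa [mul_assoc] using this

/-- At least 21 points are collinear with the base. -/
theorem ncard_col (hc : IsCIT G) : 21 ≤ {y : G ⧸ P | Col P Q y}.ncard := by
  set B := {x : G ⧸ P | OnLine P Q 1 x} \ {((1 : G) : G ⧸ P)} with hB
  have hB4 : B.ncard = 4 := by
    have h1 : ((1 : G) : G ⧸ P) ∈ {x : G ⧸ P | OnLine P Q 1 x} := onLine_self P Q 1
    rw [hB, Set.ncard_sdiff_singleton_of_mem h1, h.ncard_onLine 1]
  set f : (↥P ⧸ Q.subgroupOf P) × (G ⧸ P) → G ⧸ P := fun cy => (cy.1.out : G) • cy.2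
  have hinj : Set.InjOn f (Set.univ ×ˢ B) := by
    rintro ⟨c, y⟩ ⟨-, hy⟩ ⟨c', y'⟩ ⟨-, hy'⟩ e
    simp only [f] at e
    have hb : ∀ (d : ↥P ⧸ Q.subgroupOf P) (z : G ⧸ P), z ≠ ((1 : G) : G ⧸ P) →
        (d.out : G) • z ≠ ((1 : G) : G ⧸ P) := fun d z hz e => hz (by
      rw [eq_inv_smul_iff.2 e, smul_base]
      exact coe_eq_base (inv_mem d.out.2))
    have on : ∀ (d : ↥P ⧸ Q.subgroupOf P), OnLine P Q (d.out : G) ((1 : G) : G ⧸ P) := fun d => by
      have := onLine_self P Q (d.out : G)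
      rwa [coe_eq_base d.out.2] at this
    have hm := h.line_unique hc (hb c y hy.2).symm (on c) (by simpa using hy.1.smul (c.out : G))
      (on c') (by rw [e]; simpa using hy'.1.smul (c'.out : G))
    have hcc : c = c' := by
      rw [← c.out_eq', ← c'.out_eq']
      refine (QuotientGroup.eq.2 (Subgroup.mem_subgroupOf.2 ?_)).symm
      simpa using hm
    subst hcc
    exact Prod.ext rfl (smul_left_cancel _ e)
  have hsub : insert ((1 : G) : G ⧸ P) (f '' (Set.univ ×ˢ B)) ⊆ {y : G ⧸ P | Col P Q y} := by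
    rintro y (rfl | ⟨⟨c, z⟩, ⟨-, hz⟩, rfl⟩)
    · exact ⟨1, one_mem P, onLine_self P Q 1⟩
    · exact ⟨(c.out : G), c.out.2, by simpa [f] using hz.1.smul (c.out : G)⟩
  have hnot : ((1 : G) : G ⧸ P) ∉ f '' (Set.univ ×ˢ B) := by
    rintro ⟨⟨c, z⟩, ⟨-, hz⟩, e⟩
    refine hz.2 ?_
    simp only [f] at e
    rw [Set.mem_singleton_iff, eq_inv_smul_iff.2 e, smul_base]
    exact coe_eq_base (inv_mem c.out.2)
  refine le_trans (le_of_eq ?_) (Set.ncard_le_ncard hsub (Set.toFinite _))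
  rw [Set.ncard_insert_of_notMem hnot (Set.toFinite _), hinj.ncard_image, Set.ncard_prod, Set.ncard_univ,
    ← Subgroup.index, h.index_Q_in_P, hB4]

theorem exists_central : ∃ z ∈ VP ⊓ VQ, orderOf z = 2 := by
  have h4 := h.card_inf
  obtain ⟨z, hz, hz1⟩ := (VP ⊓ VQ).bot_or_exists_ne_one.resolve_left
    (fun e => by rw [e, Subgroup.card_bot] at h4; omega)
  exact ⟨z, hz, orderOf_eq_prime (h.sq_VP z hz.1) hz1⟩

theorem norm_mem_vq {n v : G} (hn : n ∈ P ⊓ Q) (hv : v ∈ VQ) : n * v * n⁻¹ ∈ VQ :=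
  h.symm.conj_mem_vp hn.2 hv

/-- Where the involutions of `P` are. -/
theorem involution_decomp {t : G} (ht : t ∈ P) (ht2 : orderOf t = 2) :
    t ∈ VP ∨ ∃ c : ↥P ⧸ Q.subgroupOf P, (c.out : G)⁻¹ * t * (c.out : G) ∈ (VQ : Set G) \ (VP : Set G) := by
  haveI : Fact (Nat.Prime 2) := ⟨Nat.prime_two⟩
  by_cases htV : t ∈ VP
  · exact Or.inl htV
  refine Or.inr ?_
  let S' : Sylow 2 ↥P := S.subtype h.le_P
  have htp : IsPGroup 2 ↥(Subgroup.zpowers (⟨t, ht⟩ : ↥P)) := IsPGroup.iff_card.2 ⟨1, by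
    rw [Nat.card_zpowers, Subgroup.orderOf_mk, ht2, pow_one]⟩
  obtain ⟨R, hR⟩ := htp.exists_le_sylow
  obtain ⟨m, hm⟩ := MulAction.exists_smul_eq ↥P S' R
  have hmem : (⟨t, ht⟩ : ↥P) ∈ (m • S' : Sylow 2 ↥P) := by
    rw [hm]; exact hR (Subgroup.mem_zpowers _)
  change (⟨t, ht⟩ : ↥P) ∈ ((m • S' : Sylow 2 ↥P) : Subgroup ↥P) at hmem
  rw [Sylow.coe_subgroup_smul] at hmem
  have hS : (m : G)⁻¹ * t * (m : G) ∈ (S : Subgroup G) := by
    rw [Subgroup.mem_pointwise_smul_iff_inv_smul_mem] at hmem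
    simpa [S', Sylow.coe_subtype, Subgroup.mem_subgroupOf, MulAut.smul_def] using hmem
  have ho : orderOf ((m : G)⁻¹ * t * (m : G)) = 2 := by
    rw [← ht2]
    simpa using (MulAut.conj ((m : G)⁻¹)).orderOf_eq t
  have hmV : (m : G)⁻¹ * t * (m : G) ∉ VP := fun e => htV (by
    have := h.conj_mem_vp m.2 e
    simpa [mul_assoc] using this)
  have hQ := (h.involutions _ hS ho).resolve_left hmV
  refine ⟨(m : ↥P ⧸ Q.subgroupOf P), ?_⟩
  obtain ⟨n, hn⟩ := QuotientGroup.mk_out_eq_mul (Q.subgroupOf P) m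
  rw [hn, Subgroup.coe_mul]
  have hnPQ : ((n : ↥P) : G)⁻¹ ∈ P ⊓ Q := inv_mem ⟨(n : ↥P).2, Subgroup.mem_subgroupOf.1 n.2⟩
  have e : ((m : G) * ((n : ↥P) : G))⁻¹ * t * ((m : G) * ((n : ↥P) : G)) =
      ((n : ↥P) : G)⁻¹ * ((m : G)⁻¹ * t * (m : G)) * (((n : ↥P) : G)⁻¹)⁻¹ := by group
  rw [e]
  refine ⟨h.norm_mem_vq hnPQ hQ, fun hv => hmV ?_⟩
  have := h.conj_mem_vp (n : ↥P).2 hv
  simpa [mul_assoc] using this

theorem ncard_vq_diff : ((VQ : Set G) \ (VP : Set G)).ncard = 12 := by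
  have := Set.ncard_inter_add_ncard_diff_eq_ncard (VQ : Set G) (VP : Set G) (Set.toFinite _)
  rw [← Subgroup.coe_inf, ncard_coe, ncard_coe, inf_comm, h.card_inf, h.card_VQ] at this
  omega

theorem ncard_involutions_P : {t : G | t ∈ P ∧ orderOf t = 2}.ncard ≤ 75 := by
  set f : (↥P ⧸ Q.subgroupOf P) × G → G := fun cv => (cv.1.out : G) * cv.2 * (cv.1.out : G)⁻¹
  have hsub : {t : G | t ∈ P ∧ orderOf t = 2} ⊆
      ((VP : Set G) \ {1}) ∪ f '' (Set.univ ×ˢ ((VQ : Set G) \ (VP : Set G))) := by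
    rintro t ⟨ht, ht2⟩
    rcases h.involution_decomp ht ht2 with hv | ⟨c, hc⟩
    · exact Or.inl ⟨hv, fun e => by rw [Set.mem_singleton_iff.1 e, orderOf_one] at ht2; exact absurd ht2 (by norm_num)⟩
    · exact Or.inr ⟨(c, _), ⟨trivial, hc⟩, by simp [f, mul_assoc]⟩
  refine (Set.ncard_le_ncard hsub (Set.toFinite _)).trans ((Set.ncard_union_le _ _).trans ?_)
  have h2 := Set.ncard_image_le (f := f) (Set.toFinite ((Set.univ : Set (↥P ⧸ Q.subgroupOf P)) ×ˢ ((VQ : Set G) \ (VP : Set G))))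
  rw [Set.ncard_prod, Set.ncard_univ, ← Subgroup.index, h.index_Q_in_P, h.ncard_vq_diff] at h2
  rw [Set.ncard_sdiff_singleton_of_mem (one_mem VP : (1 : G) ∈ (VP : Set G)), ncard_coe, h.card_VP]
  omega

/-- An involution of the centre fixes only the base line. -/
theorem fixed_eq {z : G} (hz : z ∈ VP ⊓ VQ) (hz2 : orderOf z = 2) {x : G ⧸ P} (hx : z • x = x) :
    OnLine P Q 1 x := by
  classical
  set F := {x : G ⧸ P | z • x = x} with hF
  have hsub : {x : G ⧸ P | OnLine P Q 1 x} ⊆ F := fun y hy => h.vq_fix hz.2 hy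
  have hC : Nat.card ↥(Subgroup.centralizer ({z} : Set G)) = 64 := by
    rw [h.centralizer_eq z hz (fun e => by rw [e, orderOf_one] at hz2; exact absurd hz2 (by norm_num)), h.card_S]
  -- elements taking `z` into `P`
  set T := {g : G | g⁻¹ * z * g ∈ P} with hT
  have h1 : F.ncard * 960 ≤ T.ncard := by
    rw [← h.card_P, ← ncard_coe, ← Set.ncard_prod]
    refine Set.ncard_le_ncard_of_injOn (fun yp => yp.1.out * yp.2) ?_ ?_ (Set.toFinite _)
    · rintro ⟨y, p⟩ ⟨hy, hp⟩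
      have hy' : z • y = y := hy
      rw [← y.out_eq', MulAction.Quotient.smul_coe, smul_eq_mul, QuotientGroup.eq] at hy'
      show (y.out * p)⁻¹ * z * (y.out * p) ∈ P
      have := mul_mem (mul_mem (inv_mem hp) (inv_mem hy')) hp
      simpa [mul_assoc] using this
    · rintro ⟨y, p⟩ ⟨-, hp⟩ ⟨y', p'⟩ ⟨-, hp'⟩ e
      simp only at e
      have hy : y = y' := by
        rw [← y.out_eq', ← y'.out_eq', QuotientGroup.eq]
        have e2 : y.out⁻¹ * y'.out = p * p'⁻¹ := by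
          rw [eq_mul_inv_iff_mul_eq, mul_assoc, ← e, inv_mul_cancel_left]
        rw [e2]
        exact mul_mem hp (inv_mem hp')
      subst hy
      exact Prod.ext rfl (mul_left_cancel e)
  set W := {t : G | t ∈ P ∧ orderOf t = 2} with hW
  let pick : G → G := fun w => if hw : ∃ g : G, g⁻¹ * z * g = w then hw.choose else 1
  have hpick : ∀ g : G, (pick (g⁻¹ * z * g))⁻¹ * z * pick (g⁻¹ * z * g) = g⁻¹ * z * g := fun g => by
    have hw : ∃ g' : G, g'⁻¹ * z * g' = g⁻¹ * z * g := ⟨g, rfl⟩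
    simp only [pick, dif_pos hw]
    exact hw.choose_spec
  have h2 : T.ncard ≤ W.ncard * 64 := by
    rw [← hC, ← ncard_coe, ← Set.ncard_prod]
    refine Set.ncard_le_ncard_of_injOn (fun g => (g⁻¹ * z * g, g * (pick (g⁻¹ * z * g))⁻¹)) ?_ ?_ (Set.toFinite _)
    · intro g hg
      refine ⟨⟨hg, ?_⟩, Subgroup.mem_centralizer_singleton_iff.2 ?_⟩
      · rw [← hz2]
        simpa using (MulAut.conj g⁻¹).orderOf_eq z
      · have e := hpick g
        generalize pick (g⁻¹ * z * g) = a at e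
        show g * a⁻¹ * z = z * (g * a⁻¹)
        calc g * a⁻¹ * z = g * (a⁻¹ * z * a) * a⁻¹ := by group
          _ = g * (g⁻¹ * z * g) * a⁻¹ := by rw [e]
          _ = z * (g * a⁻¹) := by group
    · intro g _ g' _ e
      simp only [Prod.mk.injEq] at e
      rw [e.1] at e
      exact mul_right_cancel e.2
  have hW75 : W.ncard ≤ 75 := h.ncard_involutions_P
  have hF5 : F.ncard ≤ 5 := by omega
  have heq := Set.eq_of_subset_of_ncard_le hsub (by rw [h.ncard_onLine 1]; exact hF5) (Set.toFinite _)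
  exact (Set.ext_iff.1 heq x).2 hx

/-- A point fixed with the base point by some involution is collinear with it. -/
theorem col_of_fixed {s : G} (hs2 : orderOf s = 2) {y : G ⧸ P} (hb : s • ((1 : G) : G ⧸ P) = ((1 : G) : G ⧸ P))
    (hy : s • y = y) : Col P Q y := by
  obtain ⟨z, hz, hz2⟩ := h.exists_central
  obtain ⟨g, hg⟩ := isConj_iff.1 (h.conjugate z s hz2 hs2)
  have key : ∀ x : G ⧸ P, s • x = x → OnLine P Q g x := fun x hx => by
    have : z • (g⁻¹ • x) = g⁻¹ • x := by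
      rw [← mul_smul, show z * g⁻¹ = g⁻¹ * s by rw [← hg]; group, mul_smul, hx]
    simpa using (h.fixed_eq hz hz2 this).smul g
  obtain ⟨q, hq, hqe⟩ := key _ hb
  exact ⟨g * q, mem_of_coe_eq_base hqe, (key y hy).of_mul_mem (by simpa using inv_mem hq)⟩

/-- The involutions moving the base point along a line. -/
theorem ncard_col_involutions (hc : IsCIT G) :
    {t : G | orderOf t = 2 ∧ t ∉ P ∧ Col P Q (t : G ⧸ P)}.ncard ≤ 240 := by
  classical
  set X := ((VP : Set G) \ (VQ : Set G))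
  set f : ((↥P ⧸ Q.subgroupOf P) × (↥Q ⧸ P.subgroupOf Q)) × G → G := fun cv =>
    (cv.1.1.out : G) * ((cv.1.2.out : G) * cv.2 * (cv.1.2.out : G)⁻¹) * (cv.1.1.out : G)⁻¹
  have hsub : {t : G | orderOf t = 2 ∧ t ∉ P ∧ Col P Q (t : G ⧸ P)} ⊆
      f '' (((Set.univ : Set (↥P ⧸ Q.subgroupOf P)) ×ˢ {d : ↥Q ⧸ P.subgroupOf Q | d ≠ ((1 : ↥Q) : ↥Q ⧸ P.subgroupOf Q)}) ×ˢ X) := by
    rintro t ⟨ht2, htP, p, hp, hon⟩
    have hne : (t : G ⧸ P) ≠ ((1 : G) : G ⧸ P) := fun e => htP (mem_of_coe_eq_base e)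
    have htt : t * t = 1 := by rw [← pow_two, ← ht2, pow_orderOf_eq_one]
    have hb : OnLine P Q p ((1 : G) : G ⧸ P) := by
      have := onLine_self P Q p
      rwa [coe_eq_base hp] at this
    have h1 : OnLine P Q (t * p) (t : G ⧸ P) := by simpa [smul_base] using hb.smul t
    have h2 : OnLine P Q (t * p) ((1 : G) : G ⧸ P) := by
      simpa [MulAction.Quotient.smul_coe, htt] using hon.smul t
    have hQ : p⁻¹ * (t * p) ∈ Q := h.line_unique hc hne h1 h2 hon hb
    set c : ↥P ⧸ Q.subgroupOf P := ((⟨p, hp⟩ : ↥P) : ↥P ⧸ Q.subgroupOf P)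
    obtain ⟨n, hn⟩ := QuotientGroup.mk_out_eq_mul (Q.subgroupOf P) (⟨p, hp⟩ : ↥P)
    have hcn : (c.out : G) = p * ((n : ↥P) : G) := congrArg Subtype.val hn
    set t' := (c.out : G)⁻¹ * t * (c.out : G)
    have ht'Q : t' ∈ Q := by
      have hnQ : ((n : ↥P) : G) ∈ Q := Subgroup.mem_subgroupOf.1 n.2
      have := mul_mem (mul_mem (inv_mem hnQ) hQ) hnQ
      simp only [t', hcn]
      simpa [mul_assoc] using this
    have ht'P : t' ∉ P := fun e => htP (by
      have := mul_mem (mul_mem c.out.2 e) (inv_mem c.out.2)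
      simpa [t', mul_assoc] using this)
    have ht'2 : orderOf t' = 2 := by
      rw [← ht2]; simpa [t'] using (MulAut.conj (c.out : G)⁻¹).orderOf_eq t
    rcases h.symm.involution_decomp ht'Q ht'2 with hv | ⟨d, hd⟩
    · exact absurd (h.vq_le_P hv) ht'P
    refine ⟨((c, d), (d.out : G)⁻¹ * t' * (d.out : G)), ⟨⟨trivial, ?_⟩, hd⟩, by simp [f, t', mul_assoc]⟩
    intro hd1
    subst hd1
    obtain ⟨m, hm⟩ := QuotientGroup.mk_out_eq_mul (P.subgroupOf Q) (1 : ↥Q)
    rw [one_mul] at hm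
    have hmP : (((1 : ↥Q) : ↥Q ⧸ P.subgroupOf Q).out : G) ∈ P := by
      rw [hm]; exact Subgroup.mem_subgroupOf.1 m.2
    have := mul_mem (mul_mem hmP (h.vp_le hd.1)) (inv_mem hmP)
    exact ht'P (by simpa [mul_assoc] using this)
  refine (Set.ncard_le_ncard hsub (Set.toFinite _)).trans ((Set.ncard_image_le (Set.toFinite _)).trans ?_)
  rw [Set.ncard_prod, Set.ncard_prod, Set.ncard_univ, ← Subgroup.index, h.index_Q_in_P, h.symm.ncard_vq_diff]
  have hd : {d : ↥Q ⧸ P.subgroupOf Q | d ≠ ((1 : ↥Q) : ↥Q ⧸ P.subgroupOf Q)}.ncard = 4 := by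
    rw [show {d : ↥Q ⧸ P.subgroupOf Q | d ≠ ((1 : ↥Q) : ↥Q ⧸ P.subgroupOf Q)} =
      Set.univ \ {((1 : ↥Q) : ↥Q ⧸ P.subgroupOf Q)} by ext; simp,
      Set.ncard_sdiff_singleton_of_mem (Set.mem_univ _), Set.ncard_univ, ← Subgroup.index, h.symm.index_Q_in_P]
  rw [hd]

/-- Few involutions move the base point to a point off its lines. -/
theorem ncard_swap (hc : IsCIT G) {y : G ⧸ P} (hy : ¬ Col P Q y) :
    {t : G | orderOf t = 2 ∧ (t : G ⧸ P) = y}.ncard ≤ 5 := by
  classical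
  set T := {t : G | orderOf t = 2 ∧ (t : G ⧸ P) = y} with hT
  rcases T.eq_empty_or_nonempty with he | ⟨t₀, ht₀, ht₀y⟩
  · simp [he]
  set D := P ⊓ MulAction.stabilizer G y with hD
  have hinv : ∀ t ∈ T, t * t = 1 := fun t ht => by rw [← pow_two, ← ht.1, pow_orderOf_eq_one]
  have hmaps : T.ncard ≤ (D : Set G).ncard := by
    refine Set.ncard_le_ncard_of_injOn (fun t => t₀ * t) ?_ ?_ (Set.toFinite _)
    · intro t ht
      refine Subgroup.mem_inf.2 ⟨mem_of_coe_eq_base ?_, ?_⟩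
      · rw [← smul_base, mul_smul, smul_base, ht.2, ← ht₀y, MulAction.Quotient.smul_coe, smul_eq_mul,
          hinv t₀ ⟨ht₀, ht₀y⟩]
      · show (t₀ * t) • y = y
        conv_lhs => rw [mul_smul, ← ht.2, MulAction.Quotient.smul_coe, smul_eq_mul, hinv t ht, smul_base, ht₀y]
    · exact fun a _ b _ e => mul_left_cancel e
  have hodd : ¬ 2 ∣ Nat.card ↥D := by
    intro h2
    haveI : Fact (Nat.Prime 2) := ⟨Nat.prime_two⟩
    obtain ⟨s, hs⟩ := exists_prime_orderOf_dvd_card' 2 h2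
    exact hy (h.col_of_fixed ((Subgroup.orderOf_coe s).trans hs)
      (by rw [smul_base]; exact coe_eq_base s.2.1) s.2.2)
  have h960 : Nat.card ↥D ∣ 960 := h.card_P ▸ Subgroup.card_dvd_of_le inf_le_left
  have h15 : Nat.card ↥D ∣ 15 :=
    ((Nat.prime_two.coprime_iff_not_dvd.2 hodd).pow_left 6).symm.dvd_of_dvd_mul_left
      (show Nat.card ↥D ∣ 2 ^ 6 * 15 from h960)
  have hne : Nat.card ↥D ≠ 15 := by
    intro e
    obtain ⟨π, hπ, hk⟩ := h.exists_alt_hom hc
    let D' : Subgroup ↥P := D.subgroupOf P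
    have hinjD : Function.Injective (π.comp D'.subtype) := by
      rw [← MonoidHom.ker_eq_bot_iff, Subgroup.eq_bot_iff_forall]
      intro d hd
      have hdV : ((d : ↥P) : G) ∈ VP := Subgroup.mem_subgroupOf.1 (hk.le (show (d : ↥P) ∈ π.ker from hd))
      refine Subtype.ext (Subtype.ext ?_)
      by_contra hd1
      have h2 : orderOf ((d : ↥P) : G) = 2 := orderOf_eq_prime (h.sq_VP _ hdV) hd1
      exact hodd (h2 ▸ Subgroup.orderOf_coe (⟨((d : ↥P) : G), Subgroup.mem_subgroupOf.1 d.2⟩ : ↥D) ▸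
        orderOf_dvd_natCard _)
    have hcard : Nat.card ↥(D'.map π) = 15 := by
      rw [← e, ← Nat.card_congr (Subgroup.subgroupOfEquivOfLe (inf_le_left : D ≤ P)).toEquiv,
        ← (Nat.card_congr (MonoidHom.ofInjective hinjD).toEquiv.symm)]
      rw [MonoidHom.range_comp, Subgroup.range_subtype]
    have hidx : (D'.map π).index = 4 := by
      have := Subgroup.card_mul_index (D'.map π)
      rw [hcard, nat_card_alternatingGroup, Nat.card_eq_fintype_card, Fintype.card_fin] at this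
      simp [Nat.factorial] at this
      omega
    refine (h.index_ne hc ((D'.map π).comap π) ?_).2 ((Subgroup.index_comap_of_surjective _ hπ).trans hidx)
    rw [← hk]
    exact fun a ha => by rw [Subgroup.mem_comap, (MonoidHom.mem_ker).1 ha]; exact one_mem _
  have h5 : Nat.card ↥D ≤ 5 := by
    have := Nat.mem_divisors.2 ⟨h15, by norm_num⟩
    rw [show Nat.divisors 15 = {1, 3, 5, 15} by decide] at this
    simp only [Finset.mem_insert, Finset.mem_singleton] at this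
    omega
  rw [ncard_coe] at hmaps
  omega

theorem card_eq_mul : Nat.card G = 960 * Nat.card (G ⧸ P) := by
  rw [← Subgroup.card_mul_index P, h.card_P]; rfl

/-- There are 21 points, all collinear with the base point. -/
theorem card_points (hc : IsCIT G) : Nat.card (G ⧸ P) = 21 ∧ ∀ y : G ⧸ P, Col P Q y := by
  classical
  haveI : Fintype G := Fintype.ofFinite G
  haveI : Fintype (G ⧸ P) := Fintype.ofFinite _
  obtain ⟨z, hz, hz2⟩ := h.exists_central
  have hz1 : z ≠ 1 := fun e => by rw [e, orderOf_one] at hz2; exact absurd hz2 (by norm_num)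
  set N := Nat.card (G ⧸ P) with hN
  set I := {t : G | orderOf t = 2}
  -- many involutions
  have hlow : 15 * N ≤ I.ncard := by
    have hidx : (Subgroup.centralizer ({z} : Set G)).index = 15 * N := by
      have := Subgroup.card_mul_index (Subgroup.centralizer ({z} : Set G))
      rw [h.centralizer_eq z hz hz1, h.card_S, h.card_eq_mul] at this
      rw [h.centralizer_eq z hz hz1]
      omega
    rw [← hidx, Subgroup.index, ← Set.ncard_univ]
    refine Set.ncard_le_ncard_of_injOn (fun c => c.out * z * c.out⁻¹) ?_ ?_ (Set.toFinite _)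
    · intro c _
      show orderOf _ = 2
      rw [← hz2]
      simpa using (MulAut.conj c.out).orderOf_eq z
    · intro c _ c' _ e
      simp only at e
      rw [← c.out_eq', ← c'.out_eq', QuotientGroup.eq, Subgroup.mem_centralizer_singleton_iff]
      calc c.out⁻¹ * c'.out * z = c.out⁻¹ * (c'.out * z * c'.out⁻¹) * c'.out := by group
        _ = c.out⁻¹ * (c.out * z * c.out⁻¹) * c'.out := by rw [e]
        _ = z * (c.out⁻¹ * c'.out) := by group
  -- few involutions
  set NC := {y : G ⧸ P | ¬ Col P Q y} with hNC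
  have hcompl : {y : G ⧸ P | Col P Q y}.ncard + NC.ncard = N := by
    rw [hN, hNC, ← Set.compl_ofPred, Set.ncard_add_ncard_compl]
  have hfib : {t : G | orderOf t = 2 ∧ ¬ Col P Q (t : G ⧸ P)}.ncard ≤ 5 * NC.ncard := by
    rw [Set.ncard_eq_toFinset_card', Set.ncard_eq_toFinset_card' NC]
    refine Finset.card_le_mul_card_image_of_maps_to (f := fun t : G => (t : G ⧸ P)) (fun t ht => ?_) 5 (fun y hy => ?_)
    · simp only [Set.mem_toFinset] at ht ⊢
      exact ht.2
    · rw [Set.mem_toFinset] at hy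
      refine le_trans (le_of_eq ?_) (h.ncard_swap hc hy)
      rw [Set.ncard_eq_toFinset_card']
      congr 1
      ext t
      simp only [Finset.mem_filter, Set.mem_toFinset, Set.mem_setOf_eq]
      exact ⟨fun e => ⟨e.1.1, e.2⟩, fun e => ⟨⟨e.1, by rw [e.2]; exact hy⟩, e.2⟩⟩
  have hup : I.ncard ≤ 75 + 240 + 5 * NC.ncard := by
    have hsub : I ⊆ ({t : G | t ∈ P ∧ orderOf t = 2} ∪ {t : G | orderOf t = 2 ∧ t ∉ P ∧ Col P Q (t : G ⧸ P)}) ∪
        {t : G | orderOf t = 2 ∧ ¬ Col P Q (t : G ⧸ P)} := by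
      intro t ht
      by_cases htP : t ∈ P
      · exact Or.inl (Or.inl ⟨htP, ht⟩)
      by_cases hcol : Col P Q (t : G ⧸ P)
      · exact Or.inl (Or.inr ⟨ht, htP, hcol⟩)
      · exact Or.inr ⟨ht, hcol⟩
    refine (Set.ncard_le_ncard hsub (Set.toFinite _)).trans ((Set.ncard_union_le _ _).trans ?_)
    refine Nat.add_le_add ((Set.ncard_union_le _ _).trans (Nat.add_le_add h.ncard_involutions_P ?_)) hfib
    exact h.ncard_col_involutions hc
  have hcol := h.ncard_col hc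
  have hNC0 : NC.ncard = 0 := by omega
  refine ⟨by omega, fun y => ?_⟩
  by_contra hy
  exact Set.eq_empty_iff_forall_notMem.1 ((Set.ncard_eq_zero (Set.toFinite _)).1 hNC0) y hy

/-- Any two points are joined by a line. -/
theorem exists_line (hc : IsCIT G) (x y : G ⧸ P) : ∃ g : G, OnLine P Q g x ∧ OnLine P Q g y := by
  obtain ⟨a, rfl⟩ := QuotientGroup.mk_surjective x
  obtain ⟨p, hp, hon⟩ := (h.card_points hc).2 (a⁻¹ • y)
  refine ⟨a * p, ?_, by simpa using hon.smul a⟩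
  have := onLine_self P Q p
  rw [coe_eq_base hp] at this
  simpa [smul_base] using this.smul a

end PlaneConfig

end Cfsg.Lib.CIT
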