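import Cfsg.Agent.Lib.CIT.PushUpFour

/-!
In a simple CIT group without dihedral Sylow 2-subgroups every maximal local contains a Sylow
2-subgroup of the group (see `notes/cit_lead.md`, §4).
-/

set_option autoImplicit false
set_option linter.style.haveILetI false

namespace Cfsg.Lib.CIT

open Subgroup
open Cfsg.Lib

universe u

variable {G : Type u} [Group G] [Finite G]

theorem card_sylowTwoIn_eq [IsSimpleGroup G] (hna : ¬ IsMulCommutative G) (hG : IsCIT G)
    (hnd : ¬ HasDihedralSylow G) (hff : FFHyp G) {M T : Subgroup G} (hM : IsMaxLocal M)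
    (hT : Cfsg.IsSylowTwoIn T M) (S : Sylow 2 G) :
    Nat.card ↥T = Nat.card ↥(S : Subgroup G) := by
  haveI : Fact (Nat.Prime 2) := ⟨Nat.prime_two⟩
  obtain ⟨P, hP⟩ := hT.2.1.exists_le_sylow
  have hPS : Nat.card ↥(P : Subgroup G) = Nat.card ↥(S : Subgroup G) := Nat.card_congr (P.equiv S).toEquiv
  rw [← hPS]
  refine le_antisymm (Nat.card_le_card_of_injective _ (inclusion_injective hP)) (not_lt.1 fun hlt => ?_)
  obtain ⟨g, -, hg, -, hgM⟩ := exists_outside hT P hP hlt
  obtain ⟨A, hAT, hAe, hAR, hmax, q, hq⟩ := exists_offender hff hM hT hg hgM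
  have h : PushData M T A q :=
    ⟨hG, hM, hT, rad_eq_vee hG hM hT hg hgM hq, hAT, hAe, hAR, hmax, hq, g, hg, hgM⟩
  obtain ⟨n, hn⟩ := hq.pow_two
  rcases n with _ | _ | n
  · have := hq.two_le; rw [hn] at this; norm_num at this
  · norm_num at hn
    subst hn
    exact h.false_of_two hna hnd P hP hlt
  · have h4 : 4 ≤ q := by
      have := Nat.one_le_two_pow (n := n)
      rw [hn, pow_succ, pow_succ]; omega
    obtain ⟨K, s, hs⟩ := h.exists_swap (by omega)
    have hle := (h.fix_swap hs).2.2
    obtain rfl : q = 4 := le_antisymm hle h4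
    exact h.false_of_four hna hs

end Cfsg.Lib.CIT
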