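import Cfsg.Agent.Lib.CIT.PushUpShape
import Cfsg.Agent.Lib.Invol.Quaternion
import Cfsg.Agent.S0112
import Cfsg.Agent.S0115
import Cfsg.Agent.S4399
import Cfsg.Agent.S1213

/-!
The case `q = 2`: the Sylow 2-subgroup would be dihedral, semidihedral or quaternion.
-/

set_option autoImplicit false
set_option linter.style.haveILetI false

namespace Cfsg.Lib.CIT

open Subgroup
open Cfsg.Lib

universe u

variable {G : Type u} [Group G] [Finite G]

theorem no_index_two [IsSimpleGroup G] (hna : ¬ IsMulCommutative G) (H : Subgroup G) : H.index ≠ 2 := by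
  intro h
  haveI : H.Normal := Subgroup.normal_of_index_eq_two h
  rcases IsSimpleGroup.eq_bot_or_eq_top_of_normal H inferInstance with h' | h'
  · rw [h', Subgroup.index_bot] at h
    haveI : Fact (Nat.Prime 2) := ⟨Nat.prime_two⟩
    haveI := isCyclic_of_prime_card h
    exact hna ⟨⟨fun a b => (IsCyclic.commGroup (α := G)).mul_comm a b⟩⟩
  · rw [h', Subgroup.index_top] at h; norm_num at h

namespace PushData

variable {M T A : Subgroup G} {q : ℕ}

theorem false_of_two [IsSimpleGroup G] (hna : ¬ IsMulCommutative G) (hnd : ¬ HasDihedralSylow G)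
    (h : PushData M T A 2) (S : Sylow 2 G) (hTS : T ≤ (S : Subgroup G)) (hlt : Nat.card T < Nat.card S) :
    False := by
  haveI : Fact (Nat.Prime 2) := ⟨Nat.prime_two⟩
  obtain ⟨n, hn⟩ := S.2.exists_card_eq
  have h8 : Nat.card ↥T = 8 := by rw [h.card_T]; norm_num
  have hn3 : 3 ≤ n := by
    by_contra hc
    have h1 := Nat.pow_le_pow_right (show 0 < 2 by norm_num) (show n ≤ 2 by omega)
    have h2 : Nat.card ↥(S : Subgroup G) = 2 ^ n := hn
    norm_num at h1
    omega
  have hVS : vee M ≤ (S : Subgroup G) := h.vee_le_T.trans hTS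
  set V' := (vee M).subgroupOf (S : Subgroup G)
  have hV4 : Nat.card ↥V' = 2 ^ 2 := by
    rw [Nat.card_congr (subgroupOfEquivOfLe hVS).toEquiv, h.shape.card_vee]
  have hV'c : centralizer (V' : Set ↥(S : Subgroup G)) = V' := by
    apply le_antisymm
    · intro s hs
      have hs' : (s : G) ∈ centralizer (vee M : Set G) := mem_centralizer_iff.2 fun v hv =>
        congrArg Subtype.val (mem_centralizer_iff.1 hs ⟨v, hVS hv⟩ (mem_subgroupOf.2 hv))
      have hsM : (s : G) ∈ M := h.loc.normalizer_vee.le (centralizer_le_normalizer _ hs')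
      exact mem_subgroupOf.2 (h.rad_eq ▸ (h.loc.inf_centralizer_vee h.cit).le ⟨hsM, hs'⟩)
    · intro s hs
      exact mem_centralizer_iff.2 fun v hv => Subtype.ext
        (vee_commute (mem_subgroupOf.1 hs) (vee_le_rad M (mem_subgroupOf.1 hv))).eq.symm
  have hkl := (Cfsg.Agent.S0115.result n hn3 hn).1 (Cfsg.Agent.S0112.result n hn V' hV4 hV'c)
  have hab : Nat.card (Abelianization ↥(S : Subgroup G)) = 4 := hkl.card_four
  have hexp : ∀ x : Abelianization ↥(S : Subgroup G), x ^ 2 = 1 := fun x => by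
    have h1 : Monoid.exponent (Abelianization ↥(S : Subgroup G)) = 2 := hkl.exponent_two
    exact Monoid.exponent_dvd_iff_forall_pow_eq_one.1 h1.dvd x
  rcases Cfsg.Agent.S4399.result S.2 hab hexp with h4 | ⟨k, ⟨e⟩⟩ | ⟨k, hcard, a, b, ha, hb, hab'⟩ | ⟨k, ⟨e⟩⟩
  · omega
  · refine hnd fun P => ⟨k + 2, by omega, ⟨?_⟩⟩
    exact (P.equiv S).trans e
  · have hqd : Cfsg.IsQuasiDihedral ↥(S : Subgroup G) :=
      ⟨k + 3, by omega, hcard, a, b, ha, hb, by rw [show k + 3 - 1 = k + 2 by omega]; exact hab'⟩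
    have hbo : orderOf (b : G) = 2 := by rw [orderOf_coe]; exact hb
    obtain ⟨-, -, ⟨K, -, -, hKi, hKq⟩, -⟩ :=
      Cfsg.Agent.S1213.result S (Or.inl hqd) (no_index_two hna) (b : G) hbo
    have hK2 : IsPGroup 2 ↥K := (h.cit _ hbo).to_subgroup K
    obtain ⟨m, hm, ⟨e⟩⟩ := hKq default
    obtain ⟨j, hj⟩ := hK2.exists_card_eq
    have hle := Nat.le_of_dvd Nat.card_pos
      (Subgroup.card_subgroup_dvd_card ((default : Sylow 2 ↥K) : Subgroup ↥K))
    rcases j with _ | j
    · haveI : NeZero (2 ^ m) := ⟨by positivity⟩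
      rw [Nat.card_congr e.toEquiv, Nat.card_eq_fintype_card, QuaternionGroup.card, hj] at hle
      have := Nat.one_le_two_pow (n := m)
      omega
    · obtain ⟨H, hH⟩ := Sylow.exists_subgroup_card_pow_prime (G := ↥K) 2 (n := j)
        (hj ▸ pow_dvd_pow 2 (Nat.le_succ j))
      refine hKi H ?_
      have h1 := Subgroup.card_mul_index H
      rw [hH, hj, pow_succ] at h1
      exact Nat.eq_of_mul_eq_mul_left (by positivity) h1
  · haveI : NeZero (2 ^ (k + 1)) := ⟨by positivity⟩
    have h1 : Nat.card {x : ↥(S : Subgroup G) // orderOf x = 2} = 1 := by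
      rw [← Invol.card_involutions_quaternion (n := 2 ^ (k + 1))]
      exact Nat.card_congr (e.toEquiv.subtypeEquiv fun x => by
        rw [MulEquiv.toEquiv_eq_coe, EquivLike.coe_coe, MulEquiv.orderOf_eq])
    obtain ⟨hsub, -⟩ := Nat.card_eq_one_iff_unique.1 h1
    have hle : Nat.card ↥(vee M) ≤ 2 := by
      classical
      have hinj : Function.Injective (fun v : ↥(vee M) => decide ((v : G) = 1)) := by
        intro v w e'
        simp only [decide_eq_decide] at e'
        by_cases hv : (v : G) = 1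
        · exact Subtype.ext (hv.trans (e'.1 hv).symm)
        · have hw : (w : G) ≠ 1 := fun hh => hv (e'.2 hh)
          have ho : ∀ x : G, x ∈ vee M → x ≠ 1 → orderOf x = 2 := fun x hx hx1 =>
            orderOf_eq_prime (vee_sq hx) hx1
          have := hsub.elim ⟨⟨v, hVS v.2⟩, by rw [← orderOf_coe]; exact ho v v.2 hv⟩
            ⟨⟨w, hVS w.2⟩, by rw [← orderOf_coe]; exact ho w w.2 hw⟩
          exact Subtype.ext (congrArg (fun z : {x : ↥(S : Subgroup G) // orderOf x = 2} => ((z.1 : G))) this)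
      simpa using Nat.card_le_card_of_injective _ hinj
    rw [h.shape.card_vee] at hle
    norm_num at hle

end PushData

end Cfsg.Lib.CIT
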