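import Cfsg.Agent.Lib.CIT.PushUpTorus
import Cfsg.Agent.Lib.CIT.PushUpSmall
import Cfsg.Agent.S0111

/-!
The case `q = 4`: the swapping involution would be conjugate to a central involution.
-/

set_option autoImplicit false
set_option linter.style.haveILetI false

namespace Cfsg.Lib.CIT

open Subgroup
open Cfsg.Lib

universe u

variable {G : Type u} [Group G] [Finite G]

theorem exists_normalizing {H : Subgroup G} (S : Sylow 2 G) (hHS : H ≤ (S : Subgroup G))
    (hne : H ≠ (S : Subgroup G)) :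
    ∃ x ∈ (S : Subgroup G), x ∈ normalizer (H : Set G) ∧ x ∉ H := by
  haveI : Fact (Nat.Prime 2) := ⟨Nat.prime_two⟩
  haveI : Group.IsNilpotent ↥(S : Subgroup G) := S.2.isNilpotent
  have hlt : H.subgroupOf (S : Subgroup G) < ⊤ := by
    refine lt_top_iff_ne_top.2 fun h => hne ?_
    rw [subgroupOf_eq_top] at h
    exact le_antisymm hHS h
  obtain ⟨⟨x, hxS⟩, hxn, hxH⟩ :=
    SetLike.exists_of_lt (Group.normalizerCondition_of_isNilpotent (G := ↥(S : Subgroup G)) _ hlt)
  refine ⟨x, hxS, mem_normalizer_fintype fun h hh => ?_, fun h => hxH (mem_subgroupOf.2 h)⟩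
  exact mem_subgroupOf.1 ((mem_normalizer_iff.1 hxn ⟨h, hHS hh⟩).1 (mem_subgroupOf.2 hh))

theorem exists_conj_le_sylowTwoIn {M T H : Subgroup G} (hT : Cfsg.IsSylowTwoIn T M) (hHM : H ≤ M)
    (hH : IsPGroup 2 ↥H) : ∃ m ∈ M, ∀ x ∈ H, m * x * m⁻¹ ∈ T := by
  haveI : Fact (Nat.Prime 2) := ⟨Nat.prime_two⟩
  obtain ⟨hTM, hT2, hodd⟩ := hT
  let S : Sylow 2 ↥M := IsPGroup.toSylow
    (hT2.comap_of_injective M.subtype M.subtype_injective : IsPGroup 2 ↥(T.subgroupOf M))
    (by
      show ¬ 2 ∣ (T.subgroupOf M).index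
      exact Nat.two_dvd_ne_zero.2 (Nat.odd_iff.1 hodd))
  obtain ⟨P, hP⟩ := (hH.comap_of_injective M.subtype M.subtype_injective :
    IsPGroup 2 ↥(H.subgroupOf M)).exists_le_sylow
  obtain ⟨m, hm⟩ := MulAction.exists_smul_eq ↥M P S
  refine ⟨(m : G), m.2, fun x hx => ?_⟩
  have h1 : m * ⟨x, hHM hx⟩ * m⁻¹ ∈ ((m • P : Sylow 2 ↥M) : Subgroup ↥M) :=
    ⟨⟨x, hHM hx⟩, hP (mem_subgroupOf.2 hx), rfl⟩
  rw [hm] at h1
  exact mem_subgroupOf.1 (show m * ⟨x, hHM hx⟩ * m⁻¹ ∈ T.subgroupOf M from h1)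

theorem sq_mem_of_relIndex_two {T S : Subgroup G} (hi : T.relIndex S = 2) {s : G} (hs : s ∈ S) :
    s ^ 2 ∈ T :=
  mem_subgroupOf.1 (Subgroup.sq_mem_of_index_two (show (T.subgroupOf S).index = 2 from hi) ⟨s, hs⟩)

namespace PushData

variable {M T A : Subgroup G} {q : ℕ}

theorem le_normalizer_A (h : PushData M T A q) : T ≤ normalizer (A : Set G) := by
  intro t ht
  refine mem_normalizer_of_map_le (le_of_eq ?_)
  have htT : t ∈ normalizer (T : Set G) := le_normalizer ht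
  refine (h.elementary_eq (map_conj_le h.le htT) (elementary_map_conj h.elem t)
    ((card_map_conj _ t).trans h.card_A_and_sup.1)).resolve_left fun e => h.ne_vee ?_
  have hv : (vee M).map (MulAut.conj t).toMonoidHom = vee M :=
    Subgroup.eq_of_le_of_card_ge (by
      rintro _ ⟨x, hx, rfl⟩
      exact (mem_normalizer_iff.1 (h.le_normalizer_vee' ht) x).1 hx) (card_map_conj _ t).ge
  exact Subgroup.map_injective (MulAut.conj t).injective (e.trans hv.symm)

/-- An element outside `M` normalizing `T` fixes an element of `vee M` only in `C(T)`. -/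
theorem fixed_mem (h : PushData M T A q) {b : G} (hb : b ∈ normalizer (T : Set G)) (hbM : b ∉ M)
    {v : G} (hv : v ∈ vee M ∨ v ∈ A) (hc : b * v * b⁻¹ = v) :
    v ∈ vee M ⊓ centralizer (T : Set G) := by
  rw [← h.inf_eq]
  rcases hv with hv | hv
  · exact ⟨hc ▸ (h.map_vee hb hbM).le ⟨v, hv, rfl⟩, hv⟩
  · exact ⟨hv, hc ▸ (h.map_A hb hbM).le ⟨v, hv, rfl⟩⟩

/-- In the case `q = 4` the elementary abelian subgroups of order 16 of an extension lie in `T`. -/
theorem elementary_le (h : PushData M T A 4) {T' : Subgroup G} (hTT : T ≤ T')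
    (hn : T' ≤ normalizer (T : Set G)) (hc : Nat.card ↥T' = 128) (hM : ∀ x ∈ T', x ∈ M → x ∈ T)
    {B : Subgroup G} (hB : B ≤ T') (he : Cfsg.IsElementaryAbelian 2 B) (hBc : Nat.card ↥B = 16) :
    B ≤ T := by
  intro b hb
  by_contra hbT
  have hbM : b ∉ M := fun hm => hbT (hM b (hB hb) hm)
  have hle : B ⊓ T ≤ vee M ⊓ centralizer (T : Set G) := fun x hx =>
    h.fixed_mem (hn (hB hb)) hbM (h.involution_mem hx.2 (he.2 x hx.1))
      (by rw [comm_of_elementary he hb hx.1, mul_inv_cancel_right])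
  have h1 := Local.Baumann.card_sup_mul_inf (A := T) (B := B) (hB.trans hn)
  rw [h.card_T, hBc, inf_comm] at h1
  have h2 := Nat.card_le_card_of_injective _ (inclusion_injective hle)
  rw [h.shape.card_fix] at h2
  have h3 := Nat.card_le_card_of_injective _ (inclusion_injective (sup_le hTT hB))
  rw [hc, sup_comm] at h3
  rw [sup_comm] at h1
  have h4 := Nat.mul_le_mul h3 h2
  omega

/-- The extension of `T` by the swap has order 128 and is a Sylow subgroup. -/
theorem exists_sylow_four (h : PushData M T A 4) {K : Subgroup G} {g : G} (hs : Swap M T 4 K g) :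
    ∃ S : Sylow 2 G, T ≤ (S : Subgroup G) ∧ g ∈ (S : Subgroup G) ∧
      (S : Subgroup G) ≤ normalizer (T : Set G) ∧ T.relIndex (S : Subgroup G) = 2 ∧
      Nat.card ↥(S : Subgroup G) = 128 ∧ (S : Subgroup G) = T ⊔ zpowers g ∧
      ∀ x ∈ (S : Subgroup G), x ∈ M → x ∈ T := by
  haveI : Fact (Nat.Prime 2) := ⟨Nat.prime_two⟩
  set T' := T ⊔ zpowers g
  have hg2 : IsPGroup 2 ↥(zpowers g) :=
    IsPGroup.of_card (n := 1) (by rw [Nat.card_zpowers, hs.ord, pow_one])
  have hn : T' ≤ normalizer (T : Set G) := sup_le le_normalizer ((zpowers_le).2 hs.norm)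
  have hT' : IsPGroup 2 ↥T' := IsPGroup.to_sup_of_normal_left' h.isPGroup hg2 ((zpowers_le).2 hs.norm)
  have hgi := inv_eq_self_of_two hs.ord
  have hz : T ⊓ zpowers g = ⊥ := by
    rw [eq_bot_iff]
    intro x hx
    obtain ⟨n, rfl⟩ := mem_zpowers_iff.1 hx.2
    rw [mem_bot]
    rcases Int.even_or_odd n with ⟨j, hj⟩ | ⟨j, hj⟩
    · rw [hj, zpow_add, ← (Commute.refl g).mul_zpow, ← pow_two, ← hs.ord, pow_orderOf_eq_one, one_zpow]
    · exfalso
      have hgn : g ^ n = g := by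
        rw [hj, zpow_add, zpow_mul, zpow_two, ← pow_two, ← hs.ord, pow_orderOf_eq_one, one_zpow,
          one_mul, zpow_one]
      exact hs.out (h.T_le (hgn ▸ hx.1))
  have hc : Nat.card ↥T' = 128 := by
    have h1 := Local.Baumann.card_sup_mul_inf (A := T) (B := zpowers g) ((zpowers_le).2 hs.norm)
    rw [hz, Subgroup.card_bot, mul_one, Nat.card_zpowers, hs.ord, h.card_T] at h1
    exact h1.trans (by norm_num)
  have hM : ∀ x ∈ T', x ∈ M → x ∈ T := fun x hx hxM =>
    mem_sylow h.syl hxM (hn hx) (hT'.to_le ((zpowers_le).2 hx))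
  obtain ⟨S, hS⟩ := hT'.exists_le_sylow
  have hST : T' = (S : Subgroup G) := by
    by_contra hne
    obtain ⟨x, hxS, hxn, hxT⟩ := exists_normalizing S hS hne
    have hxN : x ∈ normalizer (T : Set G) := by
      refine mem_normalizer_of_map_le ?_
      have key : ∀ B : Subgroup G, B ≤ T → Cfsg.IsElementaryAbelian 2 B → Nat.card ↥B = 16 →
          B.map (MulAut.conj x).toMonoidHom ≤ T := fun B hB he hBc =>
        h.elementary_le le_sup_left hn hc hM (map_conj_le (hB.trans le_sup_left) hxn)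
          (elementary_map_conj he x) ((card_map_conj _ x).trans hBc)
      have hsup := h.card_A_and_sup
      conv_lhs => rw [← hsup.2]
      rw [Subgroup.map_sup]
      exact sup_le (key A h.le h.elem hsup.1)
        (key _ h.vee_le_T (vee_elementary M) h.shape.card_vee)
    have h2 : ∀ y ∈ (S : Subgroup G), IsPGroup 2 ↥(zpowers y) := fun y hy =>
      S.2.to_le ((zpowers_le).2 hy)
    by_cases hxM : x ∈ M
    · exact hxT (mem_sup_left (mem_sylow h.syl hxM hxN (h2 x hxS)))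
    · have hgT : g ∈ T' := mem_sup_right (mem_zpowers g)
      have h3 : x * g ∈ T' := mem_sup_left (mem_sylow h.syl (h.mul_mem_M hxN hxM hs.norm hs.out)
        (mul_mem hxN hs.norm) (h2 _ (mul_mem hxS (hS hgT))))
      exact hxT (by simpa using mul_mem h3 (inv_mem hgT))
  refine ⟨S, hST ▸ le_sup_left, hST ▸ mem_sup_right (mem_zpowers g), hST ▸ hn, ?_, hST ▸ hc, hST.symm,
    hST ▸ hM⟩
  have h1 := Core.card_mul_relIndex (hST ▸ le_sup_left : T ≤ (S : Subgroup G))
  rw [h.card_T, show Nat.card ↥(S : Subgroup G) = 128 from hST ▸ hc] at h1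
  omega

theorem false_of_four [IsSimpleGroup G] (hna : ¬ IsMulCommutative G) (h : PushData M T A 4)
    {K : Subgroup G} {g : G} (hs : Swap M T 4 K g) : False := by
  haveI : Fact (Nat.Prime 2) := ⟨Nat.prime_two⟩
  obtain ⟨S, hTS, hgS, hSN, hi, hScard, hSeq, hSM⟩ := h.exists_sylow_four hs
  obtain ⟨hgW, hone, -⟩ := h.fix_swap hs
  set W := vee M ⊓ centralizer (T : Set G)
  have hgi : g⁻¹ = g := inv_eq_self_of_two hs.ord
  have hg2 : g * g = 1 := by rw [← pow_two, ← hs.ord, pow_orderOf_eq_one]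
  have hgg : ∀ x, g * (g * x * g⁻¹) * g⁻¹ = x := fun x => by
    rw [show g * (g * x * g⁻¹) * g⁻¹ = (g * g) * x * (g * g)⁻¹ by group, hg2]; simp
  obtain ⟨z, hzW, hzg, hz1⟩ : ∃ z ∈ W, Commute g z ∧ z ≠ 1 := by
    rcases bot_or_exists_ne_one (W ⊓ centralizer ({g} : Set G)) with e | ⟨z, hz, hz1⟩
    · have := card_le_fix_sq h.fix_elementary hs.ord hgW
      rw [h.shape.card_fix, e, Subgroup.card_bot] at this
      norm_num at this
    · exact ⟨z, hz.1, (mem_centralizer_singleton_iff.1 hz.2).symm, hz1⟩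
  have hzT : ∀ t ∈ T, Commute t z := fun t ht => mem_centralizer_iff.1 hzW.2 t ht
  have hzo : orderOf z = 2 := orderOf_eq_prime (vee_sq hzW.1) hz1
  have hCz : centralizer ({z} : Set G) = (S : Subgroup G) := by
    refine S.3 (h.cit z hzo) ?_
    rw [hSeq]
    exact sup_le (fun t ht => mem_centralizer_singleton_iff.2 (hzT t ht).eq)
      ((zpowers_le).2 (mem_centralizer_singleton_iff.2 hzg.eq))
  -- an element of order 4 of `T` fixed by the swap
  have hvW : ∀ v ∈ vee M, v ∈ A → v ∈ W := fun v hv hA => h.inf_eq.le ⟨hA, hv⟩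
  obtain ⟨v₀, hv₀, hv₀W⟩ : ∃ v ∈ vee M, v ∉ W := SetLike.not_le_iff_exists.1 fun hle => by
    have := Nat.card_le_card_of_injective _ (inclusion_injective hle)
    rw [h.shape.card_vee, h.shape.card_fix] at this
    norm_num at this
  set a₀ := g * v₀ * g⁻¹
  have ha₀ : a₀ ∈ A := (h.map_vee hs.norm hs.out).le ⟨v₀, hv₀, rfl⟩
  have ha₀R : a₀ ∉ rad M := fun hr => hv₀W (by
    have h1 := hvW a₀ (h.rad_eq ▸ hr) ha₀
    have h2 := (mem_normalizer_iff.1 hgW a₀).1 h1
    rwa [hgg] at h2)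
  have hv2 : v₀ * v₀ = 1 := by rw [← pow_two]; exact vee_sq hv₀
  have ha2 : a₀ * a₀ = 1 := by rw [← pow_two]; exact h.elem.2 a₀ ha₀
  have hvi : v₀⁻¹ = v₀ := by rw [inv_eq_iff_mul_eq_one, hv2]
  have hai : a₀⁻¹ = a₀ := by rw [inv_eq_iff_mul_eq_one, ha2]
  have hga : g * a₀ * g⁻¹ = v₀ := hgg v₀
  set cm := v₀ * a₀ * v₀ * a₀ with hcm
  have hcmW : cm ∈ W := by
    refine hvW cm ?_ ?_
    · rw [show cm = v₀ * (a₀ * v₀ * a₀⁻¹) by rw [hai, hcm]; group]
      exact mul_mem hv₀ ((mem_normalizer_iff.1 (h.le_normalizer_vee' (h.le ha₀)) _).1 hv₀)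
    · rw [show cm = (v₀ * a₀ * v₀⁻¹) * a₀ by rw [hvi]]
      exact mul_mem ((mem_normalizer_iff.1 (h.le_normalizer_A (h.vee_le_T hv₀)) _).1 ha₀) ha₀
  have hWi : ∀ w ∈ W, w⁻¹ = w := fun w hw => by
    rw [inv_eq_iff_mul_eq_one, ← pow_two]; exact vee_sq hw.1
  have hgcm : g * cm * g⁻¹ = cm := by
    calc g * cm * g⁻¹ = (g * v₀ * g⁻¹) * (g * a₀ * g⁻¹) * (g * v₀ * g⁻¹) * (g * a₀ * g⁻¹) := by
          rw [hcm]; group
      _ = a₀ * v₀ * a₀ * v₀ := by rw [hga]
      _ = a₀⁻¹ * v₀⁻¹ * a₀⁻¹ * v₀⁻¹ := by rw [hvi, hai]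
      _ = cm⁻¹ := by rw [hcm]; group
      _ = cm := hWi cm hcmW
  have hcmz : cm = z := by
    refine hone cm hcmW z hzW (fun e => hv₀W ?_) hz1 (mul_inv_eq_iff_eq_mul.1 hgcm) hzg
    refine (h.shape.fix_eq a₀ (h.le ha₀) ha₀R).le ⟨hv₀, mem_centralizer_singleton_iff.2 ?_⟩
    calc v₀ * a₀ = cm * (a₀⁻¹ * v₀⁻¹) := by rw [hcm]; group
      _ = a₀ * v₀ := by rw [e, one_mul, hvi, hai]
  obtain ⟨w, hwW, hw1, hwz⟩ : ∃ w ∈ W, w ≠ 1 ∧ w ≠ z := by
    by_contra hcon
    push Not at hcon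
    have hle : W ≤ zpowers z := fun w hw => by
      by_cases h1 : w = 1
      · exact h1 ▸ one_mem _
      · rw [hcon w hw h1]; exact mem_zpowers z
    have := Nat.card_le_card_of_injective _ (inclusion_injective hle)
    rw [h.shape.card_fix, Nat.card_zpowers, hzo] at this
    norm_num at this
  set w' := g * w * g⁻¹
  have hw'W : w' ∈ W := (mem_normalizer_iff.1 hgW w).1 hwW
  have hWc : Commute w w' := comm_of_elementary h.fix_elementary hwW hw'W
  have hwsum : w * w' = z := by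
    refine hone _ (mul_mem hwW hw'W) z hzW (fun e => hwz ?_) hz1 ?_ hzg
    · refine hone w hwW z hzW hw1 hz1 ?_ hzg
      have : w' = w := by rw [eq_inv_of_mul_eq_one_right e, hWi w hwW]
      exact mul_inv_eq_iff_eq_mul.1 this
    · refine mul_inv_eq_iff_eq_mul.1 ?_
      calc g * (w * w') * g⁻¹ = (g * w * g⁻¹) * (g * (g * w * g⁻¹) * g⁻¹) := by
            simp only [w']; group
        _ = w * w' := by rw [hgg w]; exact hWc.symm
  set c := v₀ * a₀ * w with hcdef
  have hcT : c ∈ T := mul_mem (mul_mem (h.vee_le_T hv₀) (h.le ha₀)) (h.vee_le_T hwW.1)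
  have hwT : ∀ t ∈ T, Commute t w := fun t ht => mem_centralizer_iff.1 hwW.2 t ht
  have hc2 : c ^ 2 = z := by
    rw [hcdef, ((hwT _ (mul_mem (h.vee_le_T hv₀) (h.le ha₀)))).mul_pow, vee_sq hwW.1, mul_one, pow_two,
      ← hcmz, hcm]
    group
  have hgc : Commute g c := by
    refine mul_inv_eq_iff_eq_mul.1 ?_
    have e1 : a₀ * v₀ = z * (v₀ * a₀) := by
      calc a₀ * v₀ = a₀⁻¹ * v₀⁻¹ := by rw [hvi, hai]
        _ = cm⁻¹ * (v₀ * a₀) := by rw [hcm]; group
        _ = z * (v₀ * a₀) := by rw [hWi cm hcmW, hcmz]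
    calc g * c * g⁻¹ = (g * v₀ * g⁻¹) * (g * a₀ * g⁻¹) * (g * w * g⁻¹) := by rw [hcdef]; group
      _ = a₀ * v₀ * w' := by rw [hga]
      _ = (v₀ * a₀) * z * w' := by
          rw [e1, (hzT _ (mul_mem (h.vee_le_T hv₀) (h.le ha₀))).eq]
      _ = (v₀ * a₀) * (w * w' * w') := by rw [hwsum]; group
      _ = c := by rw [mul_assoc w, ← pow_two, vee_sq hw'W.1, mul_one]
  -- the swap is conjugate to `z`
  obtain ⟨x, hx⟩ : ∃ x : G, x * z * x⁻¹ = g := by
    obtain ⟨x₁, hx₁⟩ := (Cfsg.Agent.S0111.result S T hTS hi g hs.ord hgS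
      (fun e => hs.out (h.T_le e))).resolve_left fun ⟨H, _, hH, _⟩ => no_index_two hna H hH
    obtain ⟨x₂, hx₂⟩ : ∃ x : G, x * g * x⁻¹ ∈ vee M := by
      have h2 : (x₁ * g * x₁⁻¹) ^ 2 = 1 := by rw [conj_pow, pow_two, hg2]; group
      rcases h.involution_mem hx₁ h2 with hv | hA
      · exact ⟨x₁, hv⟩
      · refine ⟨g * x₁, ?_⟩
        rw [show g * x₁ * g * (g * x₁)⁻¹ = g * (x₁ * g * x₁⁻¹) * g⁻¹ by group]
        exact (h.map_A hs.norm hs.out).le ⟨_, hA, rfl⟩
    set v := x₂ * g * x₂⁻¹ with hvdef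
    have hv1 : v ≠ 1 := fun e => by
      rw [hvdef, conj_eq_one_iff] at e
      exact hs.out (e ▸ one_mem M)
    have finish : ∀ m : G, m * v * m⁻¹ ∈ W → ∃ x : G, x * z * x⁻¹ = g := fun m hm => by
      obtain ⟨k, -, hk⟩ := h.K_trans hs hm (fun e => hv1 (conj_eq_one_iff.1 e)) hzW hz1
      refine ⟨(k * m * x₂)⁻¹, ?_⟩
      rw [← hk, hvdef]; group
    by_cases hy : ∃ y ∈ M ⊓ centralizer ({v} : Set G), y ∉ vee M
    · obtain ⟨y, hy, hyv⟩ := hy
      have hvC : v ∈ M ⊓ centralizer ({v} : Set G) :=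
        ⟨vee_le M hx₂, mem_centralizer_singleton_iff.2 rfl⟩
      obtain ⟨m, hmM, hm⟩ := exists_conj_le_sylowTwoIn h.syl (H := M ⊓ centralizer ({v} : Set G))
        inf_le_left ((h.cit.isPGroup_centralizer ⟨1, by rw [pow_one]; exact vee_sq hx₂⟩ hv1).to_le
          inf_le_right)
      refine finish m ?_
      have hmn := le_normalizer_vee M hmM
      have hyR : m * y * m⁻¹ ∉ rad M := by
        rw [h.rad_eq]; exact fun e => hyv ((mem_normalizer_iff.1 hmn y).2 e)
      refine (h.shape.fix_eq _ (hm y hy) hyR).le ⟨(mem_normalizer_iff.1 hmn v).1 hx₂, ?_⟩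
      refine mem_centralizer_singleton_iff.2 ?_
      have hyc : y * v = v * y := mem_centralizer_singleton_iff.1 hy.2
      calc m * v * m⁻¹ * (m * y * m⁻¹) = m * (v * y) * m⁻¹ := by group
        _ = m * (y * v) * m⁻¹ := by rw [hyc]
        _ = m * y * m⁻¹ * (m * v * m⁻¹) := by group
    · exfalso
      push Not at hy
      have hvo : orderOf v = 2 := orderOf_eq_prime (vee_sq hx₂) hv1
      obtain ⟨P, hP⟩ := (h.cit v hvo).exists_le_sylow
      have hle : vee M ≤ centralizer ({v} : Set G) := fun u hu => mem_centralizer_singleton_iff.2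
        (comm_of_elementary (vee_elementary M) hu hx₂)
      have hCv : centralizer ({v} : Set G) = vee M := by
        by_contra hne
        haveI : Group.IsNilpotent ↥(centralizer ({v} : Set G)) := (h.cit v hvo).isNilpotent
        have hlt : (vee M).subgroupOf (centralizer ({v} : Set G)) < ⊤ := by
          refine lt_top_iff_ne_top.2 fun e => hne ?_
          rw [subgroupOf_eq_top] at e
          exact le_antisymm e hle
        obtain ⟨⟨y, hyC⟩, hyn, hyV⟩ := SetLike.exists_of_lt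
          (Group.normalizerCondition_of_isNilpotent (G := ↥(centralizer ({v} : Set G))) _ hlt)
        refine hyV (mem_subgroupOf.2 (hy y ⟨h.loc.normalizer_vee.le (mem_normalizer_fintype
          fun u hu => ?_), hyC⟩))
        exact mem_subgroupOf.1 ((mem_normalizer_iff.1 hyn ⟨u, hle hu⟩).1 (mem_subgroupOf.2 hu))
      have hcv : x₂ * c * x₂⁻¹ ∈ vee M := hCv ▸ mem_centralizer_singleton_iff.2 (by
        calc x₂ * c * x₂⁻¹ * v = x₂ * (c * g) * x₂⁻¹ := by rw [hvdef]; group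
          _ = x₂ * (g * c) * x₂⁻¹ := by rw [hgc.eq]
          _ = v * (x₂ * c * x₂⁻¹) := by rw [hvdef]; group)
      have h2 := vee_sq hcv
      rw [conj_pow, hc2, conj_eq_one_iff] at h2
      exact hz1 h2
  -- squares of `S` in `vee M` are central in `T`
  have sq_fix : ∀ d ∈ (S : Subgroup G), d ^ 2 ∈ vee M → d ^ 2 ∈ W := by
    intro d hd hd2
    by_cases hdT : d ∈ T
    · by_cases hdv : d ∈ vee M
      · rw [vee_sq hdv]; exact one_mem W
      · exact (h.shape.fix_eq d hdT (h.rad_eq ▸ hdv)).le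
          ⟨hd2, mem_centralizer_singleton_iff.2 (by rw [← pow_succ, ← pow_succ'])⟩
    · exact h.fixed_mem (hSN hd) (fun hm => hdT (hSM d hd hm)) (Or.inl hd2) (by group)
  set c' := x⁻¹ * c * x with hc'def
  set z' := x⁻¹ * z * x with hz'def
  have hc'S : c' ∈ (S : Subgroup G) := by
    rw [← hCz]
    refine mem_centralizer_singleton_iff.2 ?_
    calc c' * z = x⁻¹ * (c * (x * z * x⁻¹)) * x := by rw [hc'def]; group
      _ = x⁻¹ * (g * c) * x := by rw [hx, hgc.eq]
      _ = z * c' := by rw [hc'def, ← hx]; group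
  have hsq : c' ^ 2 = z' := by
    rw [hc'def, hz'def, ← hc2, pow_two, pow_two]
    group
  have hz'1 : z' ≠ 1 := fun e => hz1 (by
    calc z = x * z' * x⁻¹ := by rw [hz'def]; group
      _ = 1 := by rw [e]; group)
  have hz'2 : z' ^ 2 = 1 := by
    rw [hz'def, show (x⁻¹ * z * x) ^ 2 = x⁻¹ * z ^ 2 * x by rw [pow_two, pow_two]; group,
      vee_sq hzW.1]; group
  have hz'T : z' ∈ T := hsq ▸ sq_mem_of_relIndex_two hi hc'S
  have hz'W : z' ∈ W := by
    rcases h.involution_mem hz'T hz'2 with hv | hA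
    · exact hsq ▸ sq_fix c' hc'S (hsq.symm ▸ hv)
    · have h1 : (g * c' * g⁻¹) ^ 2 = g * z' * g⁻¹ := by rw [conj_pow, hsq]
      have h2 := sq_fix _ (mul_mem (mul_mem hgS hc'S) (inv_mem hgS))
        (h1 ▸ (h.map_A hs.norm hs.out).le ⟨z', hA, rfl⟩)
      rw [h1] at h2
      exact (mem_normalizer_iff.1 hgW z').2 h2
  -- the final count
  have hle : T.map (MulAut.conj x).toMonoidHom ≤ (S : Subgroup G) ⊓ centralizer ({g} : Set G) := by
    rintro _ ⟨t, ht, rfl⟩
    have h1 : t * z' = z' * t := mem_centralizer_iff.1 hz'W.2 t ht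
    have h2 : t * z = z * t := (hzT t ht).eq
    show x * t * x⁻¹ ∈ (S : Subgroup G) ⊓ centralizer ({g} : Set G)
    refine ⟨hCz ▸ mem_centralizer_singleton_iff.2 ?_, mem_centralizer_singleton_iff.2 ?_⟩
    · calc x * t * x⁻¹ * z = x * (t * (x⁻¹ * z * x)) * x⁻¹ := by group
        _ = x * ((x⁻¹ * z * x) * t) * x⁻¹ := by rw [← hz'def, h1]
        _ = z * (x * t * x⁻¹) := by group
    · calc x * t * x⁻¹ * g = x * (t * z) * x⁻¹ := by rw [← hx]; group
        _ = x * (z * t) * x⁻¹ := by rw [h2]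
        _ = g * (x * t * x⁻¹) := by rw [← hx]; group
  have h64 := Nat.card_le_card_of_injective _ (inclusion_injective hle)
  rw [card_map_conj, h.card_T] at h64
  set C := (S : Subgroup G) ⊓ centralizer ({g} : Set G)
  set D := T ⊓ centralizer ({g} : Set G)
  have hDv : vee M ⊓ D ≤ W ⊓ centralizer ({g} : Set G) := fun u hu => by
    refine ⟨h.fixed_mem hs.norm hs.out (Or.inl hu.1) ?_, hu.2.2⟩
    rw [← mem_centralizer_singleton_iff.1 hu.2.2, mul_inv_cancel_right]
  have hWg : Nat.card ↥(W ⊓ centralizer ({g} : Set G)) ≤ 2 := by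
    have : W ⊓ centralizer ({g} : Set G) ≤ zpowers z := fun u hu => by
      by_cases hu1 : u = 1
      · exact hu1 ▸ one_mem _
      · rw [hone u hu.1 z hzW hu1 hz1 (mem_centralizer_singleton_iff.1 hu.2).symm hzg]
        exact mem_zpowers z
    have := Nat.card_le_card_of_injective _ (inclusion_injective this)
    rwa [Nat.card_zpowers, hzo] at this
  have hDcard : Nat.card ↥D ≤ 8 := by
    have h1 := Local.Baumann.card_sup_mul_inf (A := vee M) (B := D)
      (inf_le_left.trans h.le_normalizer_vee')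
    rw [h.shape.card_vee] at h1
    have h2 := Nat.card_le_card_of_injective _
      (inclusion_injective (show vee M ⊔ D ≤ T from sup_le h.vee_le_T inf_le_left))
    rw [h.card_T] at h2
    have h3 := Nat.mul_le_mul h2 ((Nat.card_le_card_of_injective _ (inclusion_injective hDv)).trans hWg)
    omega
  have h1 := Local.Baumann.card_sup_mul_inf (A := T) (B := C) (inf_le_left.trans hSN)
  rw [h.card_T] at h1
  have h2 := Nat.card_le_card_of_injective _ (inclusion_injective
    (show T ⊔ C ≤ (S : Subgroup G) from sup_le hTS inf_le_left))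
  rw [hScard] at h2
  have h3 := Nat.card_le_card_of_injective _ (inclusion_injective
    (show T ⊓ C ≤ D from fun u hu => ⟨hu.1, hu.2.2⟩))
  have h4 := Nat.mul_le_mul h2 (h3.trans hDcard)
  omega

end PushData

end Cfsg.Lib.CIT
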