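import Cfsg.Agent.Lib.CIT.Basic
import Cfsg.Agent.Lib.CIT.Borel
import Cfsg.Agent.Lib.PGroup.Basic
import Cfsg.Agent.Lib.Local.Baumann.Setup
import Cfsg.Agent.Lib.Local.PushingUp.Main

/-!
A maximal local whose Sylow subgroup is not a Sylow subgroup of the group: failure of factorization
and the pushing-up theorem give `O₂(M) = Ω₁(Z(O₂(M)))` (see `notes/cit_lead.md`, §4).
-/

set_option autoImplicit false
set_option linter.style.haveILetI false

namespace Cfsg.Lib.CIT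

open Subgroup
open Cfsg.Lib
open scoped commutatorElement

universe u

variable {G : Type u} [Group G]

/-- The statement of the quotient lemma, as used here. -/
def FFHyp (G : Type u) [Group G] : Prop :=
  ∀ M T A : Subgroup G, IsMaxLocal M → Cfsg.IsSylowTwoIn T M → A ≤ T → Cfsg.IsElementaryAbelian 2 A →
    ¬ A ≤ rad M →
    Nat.card ↥(vee M) ≤ (A ⊓ rad M).relIndex A * Nat.card ↥(vee M ⊓ centralizer (A : Set G)) →
    ∃ q, FFShape M T q

theorem comm_of_elementary {A : Subgroup G} (hA : Cfsg.IsElementaryAbelian 2 A) {a b : G}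
    (ha : a ∈ A) (hb : b ∈ A) : a * b = b * a :=
  congrArg Subtype.val (hA.1.is_comm.comm ⟨a, ha⟩ ⟨b, hb⟩)

theorem elementary_sup {A B : Subgroup G} (hA : Cfsg.IsElementaryAbelian 2 A)
    (hB : Cfsg.IsElementaryAbelian 2 B) (hc : ∀ a ∈ A, ∀ b ∈ B, a * b = b * a) :
    Cfsg.IsElementaryAbelian 2 (A ⊔ B) := by
  have hn : B ≤ normalizer (A : Set G) := fun b hb => by
    rw [mem_normalizer_iff]
    intro a
    refine ⟨fun ha => by rwa [← hc a ha b hb, mul_inv_cancel_right], fun ha => ?_⟩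
    have h1 := hc _ ha b hb
    rw [inv_mul_cancel_right] at h1
    rwa [← mul_left_cancel h1] at ha
  have hmem : ∀ x ∈ A ⊔ B, ∃ a ∈ A, ∃ b ∈ B, a * b = x := fun x hx => by
    rw [← SetLike.mem_coe, Subgroup.coe_mul_of_right_le_normalizer_left A B hn] at hx
    exact Set.mem_mul.1 hx
  have hAB : ∀ a ∈ A, ∀ b ∈ B, Commute a b := fun a ha b hb => hc a ha b hb
  refine ⟨⟨⟨fun x y => ?_⟩⟩, fun x hx => ?_⟩
  · obtain ⟨a, ha, b, hb, hx⟩ := hmem x x.2
    obtain ⟨a', ha', b', hb', hy⟩ := hmem y y.2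
    apply Subtype.ext
    show (x : G) * y = y * x
    rw [← hx, ← hy]
    exact (((show Commute a a' from comm_of_elementary hA ha ha').mul_right (hAB a ha b' hb')).mul_left
      ((hAB a' ha' b hb).symm.mul_right (comm_of_elementary hB hb hb'))).eq
  · obtain ⟨a, ha, b, hb, rfl⟩ := hmem x hx
    rw [(hAB a ha b hb).mul_pow, hA.2 a ha, hB.2 b hb, one_mul]

theorem vee_elementary (M : Subgroup G) [Finite G] : Cfsg.IsElementaryAbelian 2 (vee M) :=
  ⟨⟨⟨fun a b => Subtype.ext (vee_commute a.2 (vee_le_rad M b.2)).eq⟩⟩, fun _ ha => vee_sq ha⟩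

variable [Finite G]

theorem exists_outside {M T : Subgroup G} (hT : Cfsg.IsSylowTwoIn T M) (S : Sylow 2 G) (hTS : T ≤ S)
    (hlt : Nat.card T < Nat.card S) :
    ∃ g ∈ (S : Subgroup G), g ∈ normalizer (T : Set G) ∧ g ∉ T ∧ g ∉ M := by
  haveI : Fact (Nat.Prime 2) := ⟨Nat.prime_two⟩
  haveI : Group.IsNilpotent ↥(S : Subgroup G) := S.2.isNilpotent
  have hlt' : T.subgroupOf (S : Subgroup G) < ⊤ := by
    refine lt_top_iff_ne_top.2 fun h => hlt.ne ?_
    rw [subgroupOf_eq_top] at h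
    rw [le_antisymm hTS h]
  obtain ⟨⟨g, hgS⟩, hgn, hgT⟩ :=
    SetLike.exists_of_lt (Group.normalizerCondition_of_isNilpotent (G := ↥(S : Subgroup G)) _ hlt')
  have hgT' : g ∉ T := fun h => hgT (mem_subgroupOf.2 h)
  have hgn' : g ∈ normalizer (T : Set G) := by
    rw [mem_normalizer_iff] at hgn ⊢
    intro h
    constructor
    · exact fun hh => mem_subgroupOf.1 ((hgn ⟨h, hTS hh⟩).1 (mem_subgroupOf.2 hh))
    · intro hh
      have h1 : h ∈ (S : Subgroup G) := by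
        have := mul_mem (mul_mem (inv_mem hgS) (hTS hh)) hgS
        simpa [mul_assoc] using this
      exact mem_subgroupOf.1 ((hgn ⟨h, h1⟩).2 (mem_subgroupOf.2 hh))
  refine ⟨g, hgS, hgn', hgT', fun hgM => ?_⟩
  obtain ⟨hTM, hT2, hodd⟩ := hT
  have hL : T ⊔ zpowers g ≤ M := sup_le hTM ((zpowers_le).2 hgM)
  have hL2 : IsPGroup 2 ↥(T ⊔ zpowers g) := S.2.to_le (sup_le hTS ((zpowers_le).2 hgS))
  have h1 : T.relIndex (T ⊔ zpowers g) = 1 := by
    obtain ⟨a, ha⟩ := hL2.exists_card_eq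
    have h2 : T.relIndex (T ⊔ zpowers g) ∣ 2 ^ a :=
      ⟨Nat.card T, by rw [← ha, ← Core.card_mul_relIndex (le_sup_left : T ≤ T ⊔ zpowers g), mul_comm]⟩
    have h3 : Odd (T.relIndex (T ⊔ zpowers g)) :=
      hodd.of_dvd_nat ⟨_, (relIndex_mul_relIndex T _ M le_sup_left hL).symm⟩
    exact Nat.Coprime.eq_one_of_dvd ((Nat.coprime_two_right.2 h3).pow_right a) h2
  exact hgT' (relIndex_eq_one.1 h1 (mem_sup_right (mem_zpowers g)))

/-- No nontrivial 2-subgroup is normalized by `M` and by an element outside `M`. -/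
theorem not_normalized {M C : Subgroup G} (hM : IsMaxLocal M) (hC : IsPGroup 2 ↥C) (hC1 : C ≠ ⊥)
    (hn : M ≤ normalizer (C : Set G)) {g : G} (hg : g ∈ normalizer (C : Set G)) : g ∈ M :=
  (hM.normalizer_eq hC hC1 hn).le hg

theorem card_map_conj (B : Subgroup G) (g : G) :
    Nat.card ↥(B.map (MulAut.conj g).toMonoidHom) = Nat.card ↥B :=
  Nat.card_congr (B.equivMapOfInjective _ (MulAut.conj g).injective).toEquiv.symm

theorem elementary_map_conj {B : Subgroup G} (hB : Cfsg.IsElementaryAbelian 2 B) (g : G) :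
    Cfsg.IsElementaryAbelian 2 (B.map (MulAut.conj g).toMonoidHom) := by
  refine ⟨⟨⟨?_⟩⟩, ?_⟩
  · rintro ⟨_, a, ha, rfl⟩ ⟨_, b, hb, rfl⟩
    apply Subtype.ext
    show (MulAut.conj g).toMonoidHom a * (MulAut.conj g).toMonoidHom b = _
    rw [← map_mul, comm_of_elementary hB ha hb, map_mul]
    rfl
  · rintro _ ⟨a, ha, rfl⟩
    rw [← map_pow, hB.2 a ha, map_one]

theorem map_conj_le {B T : Subgroup G} (hB : B ≤ T) {g : G} (hg : g ∈ normalizer (T : Set G)) :
    B.map (MulAut.conj g).toMonoidHom ≤ T := by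
  rintro _ ⟨x, hx, rfl⟩
  exact (mem_normalizer_iff.1 hg x).1 (hB hx)

/-- A maximal elementary abelian subgroup of `T` outside the radical, which fails to factorize. -/
theorem exists_offender (hff : FFHyp G) {M T : Subgroup G} (hM : IsMaxLocal M)
    (hT : Cfsg.IsSylowTwoIn T M) {g : G} (hg : g ∈ normalizer (T : Set G)) (hgM : g ∉ M) :
    ∃ A : Subgroup G, A ≤ T ∧ Cfsg.IsElementaryAbelian 2 A ∧ ¬ A ≤ rad M ∧
      (∀ B : Subgroup G, B ≤ T → Cfsg.IsElementaryAbelian 2 B → Nat.card B ≤ Nat.card A) ∧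
      ∃ q, FFShape M T q := by
  classical
  haveI : Fact (Nat.Prime 2) := ⟨Nat.prime_two⟩
  have hR := rad_le_of_sylow hT
  let S : Set (Subgroup G) := {B | B ≤ T ∧ Cfsg.IsElementaryAbelian 2 B}
  have hvS : vee M ∈ S := ⟨(vee_le_rad M).trans hR, vee_elementary M⟩
  obtain ⟨A₀, hA₀, hmax⟩ := Set.exists_max_image S (fun B => Nat.card ↥B) (Set.toFinite S) ⟨_, hvS⟩
  obtain ⟨A, hAT, hAe, hAR, hAa⟩ : ∃ A : Subgroup G, A ≤ T ∧ Cfsg.IsElementaryAbelian 2 A ∧
      ¬ A ≤ rad M ∧ Nat.card ↥A = Nat.card ↥A₀ := by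
    by_contra hcon
    push Not at hcon
    let J : Subgroup G := sSup {B | B ∈ S ∧ Nat.card ↥B = Nat.card ↥A₀}
    have hall : ∀ B, B ∈ S → Nat.card ↥B = Nat.card ↥A₀ → B ≤ rad M := fun B hB hc => by
      by_contra h; exact hcon B hB.1 hB.2 h hc
    have hJR : J ≤ rad M := sSup_le fun B hB => hall B hB.1 hB.2
    have hnorm : ∀ h : G, h ∈ M ∨ h ∈ normalizer (T : Set G) → h ∈ normalizer (J : Set G) := by
      intro h hh
      have key : ∀ B, B ∈ S → Nat.card ↥B = Nat.card ↥A₀ → B.map (MulAut.conj h).toMonoidHom ≤ T :=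
        fun B hB hc => by
          rcases hh with hm | hm
          · exact (map_conj_le (hall B hB hc) (le_normalizer_rad M hm)).trans hR
          · exact map_conj_le hB.1 hm
      have hle : J.map (MulAut.conj h).toMonoidHom ≤ J := by
        rw [map_le_iff_le_comap]
        refine sSup_le fun B hB => map_le_iff_le_comap.1 ?_
        exact le_sSup ⟨⟨key B hB.1 hB.2, elementary_map_conj hB.1.2 h⟩,
          (card_map_conj B h).trans hB.2⟩
      exact mem_normalizer_fintype fun x hx => hle ⟨x, hx, rfl⟩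
    have hJ1 : J ≠ ⊥ := by
      intro h
      have h1 : A₀ ≤ J := le_sSup ⟨hA₀, rfl⟩
      rw [h, le_bot_iff] at h1
      have h2 := hmax _ hvS
      rw [h1, Subgroup.card_bot] at h2
      refine hM.vee_ne_bot ((eq_bot_iff_card (vee M)).2 ?_)
      exact le_antisymm h2 Nat.card_pos
    exact hgM (not_normalized hM ((isPGroup_rad M).to_le hJR) hJ1 (fun m hm => hnorm m (Or.inl hm))
      (hnorm g (Or.inr hg)))
  refine ⟨A, hAT, hAe, hAR, fun B h1 h2 => (hmax B ⟨h1, h2⟩).trans hAa.ge, hff M T A hM hT hAT hAe hAR ?_⟩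
  set C := A ⊓ rad M with hC
  have hCe : Cfsg.IsElementaryAbelian 2 C :=
    ⟨⟨⟨fun a b => Subtype.ext (comm_of_elementary hAe a.2.1 b.2.1)⟩⟩, fun a ha => hAe.2 a ha.1⟩
  have hcomm : ∀ a ∈ C, ∀ b ∈ vee M, a * b = b * a := fun a ha b hb => (vee_commute hb ha.2).eq.symm
  have hsup : Cfsg.IsElementaryAbelian 2 (C ⊔ vee M) := elementary_sup hCe (vee_elementary M) hcomm
  have hle : C ⊔ vee M ≤ T := sup_le (inf_le_left.trans hAT) hvS.1
  have hcard : Nat.card ↥(C ⊔ vee M) ≤ Nat.card ↥A := (hmax _ ⟨hle, hsup⟩).trans hAa.ge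
  set D := C ⊓ vee M with hD
  have hDle : D ≤ vee M ⊓ centralizer (A : Set G) := fun d hd =>
    ⟨hd.2, mem_centralizer_iff.2 fun a ha => comm_of_elementary hAe ha hd.1.1⟩
  have hDcard := Nat.card_le_card_of_injective _ (inclusion_injective hDle)
  have hn : vee M ≤ normalizer (C : Set G) := fun b hb => by
    refine mem_normalizer_fintype fun a ha => ?_
    rwa [← hcomm a ha b hb, mul_inv_cancel_right]
  have e1 := Core.card_mul_relIndex (le_sup_right : vee M ≤ C ⊔ vee M)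
  have e2 : Nat.card ↥(C ⊔ vee M) * Nat.card ↥D = Nat.card ↥C * Nat.card ↥(vee M) :=
    Local.Baumann.card_sup_mul_inf hn
  have e3 := Core.card_mul_relIndex (inf_le_left : C ≤ A)
  have e4 : Nat.card ↥C * Nat.card ↥(vee M) ≤
      Nat.card ↥C * (C.relIndex A * Nat.card ↥(vee M ⊓ centralizer (A : Set G))) := by
    rw [← e2, ← mul_assoc, e3]
    exact Nat.mul_le_mul hcard hDcard
  exact Nat.le_of_mul_le_mul_left e4 Nat.card_pos

section Push

variable {X : Type u} [Group X] [Finite X]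

theorem le_of_commutator_mem {x : X} {Q U : Subgroup X} [U.Normal] (hUQ : U ≤ Q)
    (hx : ∀ y ∈ Q, Commute x y → y = 1) {z : X} (hz : z ∈ Q) (hc : ⁅z, x⁆ ∈ U) : z ∈ U := by
  have hUn : ∀ u ∈ U, x * u * x⁻¹ ∈ U := fun u hu => (inferInstance : U.Normal).conj_mem u hu x
  let f : ↥U → ↥U := fun u => ⟨(u : X) * (x * (u : X) * x⁻¹)⁻¹, mul_mem u.2 (inv_mem (hUn u u.2))⟩
  have hf : Function.Injective f := by
    intro u v e
    have e' : (u : X) * (x * (u : X) * x⁻¹)⁻¹ = (v : X) * (x * (v : X) * x⁻¹)⁻¹ := congrArg Subtype.val e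
    have h1 : Commute x ((v : X)⁻¹ * (u : X)) := by
      show x * ((v : X)⁻¹ * u) = (v : X)⁻¹ * u * x
      calc x * ((v : X)⁻¹ * u) = (x * (v : X) * x⁻¹)⁻¹ * (x * (u : X) * x⁻¹) * x := by group
        _ = (v : X)⁻¹ * ((v : X) * (x * (v : X) * x⁻¹)⁻¹) * (x * (u : X) * x⁻¹) * x := by group
        _ = (v : X)⁻¹ * ((u : X) * (x * (u : X) * x⁻¹)⁻¹) * (x * (u : X) * x⁻¹) * x := by rw [e']
        _ = (v : X)⁻¹ * u * x := by group
    exact Subtype.ext (inv_mul_eq_one.1 (hx _ (mul_mem (inv_mem (hUQ v.2)) (hUQ u.2)) h1)).symm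
  obtain ⟨u, hu⟩ := Finite.surjective_of_injective hf ⟨_, hc⟩
  have e : (u : X) * (x * (u : X) * x⁻¹)⁻¹ = z * x * z⁻¹ * x⁻¹ := by
    rw [← commutatorElement_def]; exact congrArg Subtype.val hu
  have h1 : Commute x ((u : X)⁻¹ * z) := by
    show x * ((u : X)⁻¹ * z) = (u : X)⁻¹ * z * x
    calc x * ((u : X)⁻¹ * z) = (x * (u : X) * x⁻¹)⁻¹ * x * z := by group
      _ = (u : X)⁻¹ * ((u : X) * (x * (u : X) * x⁻¹)⁻¹) * x * z := by group
      _ = (u : X)⁻¹ * (z * x * z⁻¹ * x⁻¹) * x * z := by rw [e]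
      _ = (u : X)⁻¹ * z * x := by group
  rw [← inv_mul_eq_one.1 (hx _ (mul_mem (inv_mem (hUQ u.2)) hz) h1)]
  exact u.2

theorem le_of_iterCommutator {x : X} {Q U : Subgroup X} [U.Normal] [hQn : Q.Normal] (hUQ : U ≤ Q)
    (hx : ∀ y ∈ Q, Commute x y → y = 1) {Z : Subgroup X} (hZ : Z ≤ Q) {k : ℕ}
    (hk : Cfsg.iterCommutator Z ⊤ k ≤ U) : Z ≤ U := by
  have hle : ∀ j, Cfsg.iterCommutator Z ⊤ j ≤ Q := fun j => by
    induction j with
    | zero => exact hZ
    | succ j ih => exact (commutator_mono ih le_rfl).trans (commutator_le_left Q ⊤)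
  induction k with
  | zero => exact hk
  | succ k ih =>
    exact ih fun z hz => le_of_commutator_mem hUQ hx (hle k hz)
      (hk (commutator_mem_commutator hz (mem_top x)))

/-- The pushing-up conclusion in a group with a fixed-point-free element. -/
theorem core_le_elementary_center {x : X} (hx : ∀ y ∈ Cfsg.pCore 2 X, Commute x y → y = 1)
    {U W : Subgroup X} (hU : U ≤ Cfsg.pCore 2 X) (hcf : Cfsg.IsChiefFactor U W)
    {k : ℕ} (hk : Cfsg.iterCommutator W ⊤ k = ⊥) {l : ℕ}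
    (hl : Cfsg.iterCommutator (Cfsg.pCore 2 X) ⊤ l ≤ U) :
    ∀ y ∈ Cfsg.pCore 2 X, y ^ 2 = 1 ∧ ∀ z ∈ Cfsg.pCore 2 X, z * y = y * z := by
  haveI : Fact (Nat.Prime 2) := ⟨Nat.prime_two⟩
  obtain ⟨hWU, hUn, hWn, hchief⟩ := hcf
  haveI := hUn
  set Q := Cfsg.pCore 2 X with hQ
  haveI : Q.Normal := Cfsg.pCore_normal 2 X
  have hW : W = ⊥ := le_bot_iff.1 (le_of_iterCommutator bot_le hx (hWU.le.trans hU) hk.le)
  have hQU : Q ≤ U := le_of_iterCommutator hU hx le_rfl hl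
  subst hW
  have hUQ : U = Q := le_antisymm hU hQU
  rw [hUQ] at hchief hWU
  have hQp : IsPGroup 2 ↥Q := Core.pCore_isPGroup 2 X
  set N : Subgroup X := Q ⊓ centralizer (Q : Set X) with hN
  haveI : N.Normal := inferInstance
  have hNc : ∀ a ∈ N, ∀ b ∈ Q, b * a = a * b := fun a ha b hb => mem_centralizer_iff.1 ha.2 b hb
  let N₂ : Subgroup X :=
    { carrier := {a | a ∈ N ∧ a ^ 2 = 1}
      one_mem' := ⟨one_mem _, one_pow _⟩
      mul_mem' := fun {a b} ha hb => ⟨mul_mem ha.1 hb.1, by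
        have hc : Commute a b := (hNc b hb.1 a ha.1.1)
        rw [hc.mul_pow, ha.2, hb.2, one_mul]⟩
      inv_mem' := fun {a} ha => ⟨inv_mem ha.1, by rw [inv_pow, ha.2, inv_one]⟩ }
  have hN₂n : N₂.Normal := ⟨fun a ha g => ⟨(inferInstance : N.Normal).conj_mem a ha.1 g, by
    rw [show (g * a * g⁻¹) ^ 2 = g * a ^ 2 * g⁻¹ from conj_pow, ha.2, mul_one, mul_inv_cancel]⟩⟩
  haveI : Nontrivial ↥Q := (nontrivial_iff_ne_bot Q).2 hWU.ne'
  haveI := hQp.center_nontrivial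
  obtain ⟨m, hm⟩ := (hQp.to_subgroup (center ↥Q)).exists_card_eq
  obtain ⟨c, hc⟩ := exists_prime_orderOf_dvd_card' (G := ↥(center ↥Q)) 2 (by
    rcases m with _ | m
    · have := Finite.one_lt_card (α := ↥(center ↥Q))
      rw [hm] at this; simp at this
    · rw [hm]; exact dvd_pow_self 2 (Nat.succ_ne_zero m))
  have hco : orderOf (((c : ↥Q) : X)) = 2 := by rw [orderOf_coe, orderOf_coe, hc]
  have hcN : ((c : ↥Q) : X) ∈ N₂ := ⟨⟨(c : ↥Q).2, mem_centralizer_iff.2 fun b hb =>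
    congrArg Subtype.val (mem_center_iff.1 c.2 ⟨b, hb⟩)⟩, by rw [← hco, pow_orderOf_eq_one]⟩
  rcases hchief N₂ hN₂n bot_le (fun a ha => ha.1.1) with h | h
  · rw [h, mem_bot] at hcN
    rw [hcN, orderOf_one] at hco; norm_num at hco
  · intro y hy
    have hy' : y ∈ N₂ := h ▸ hy
    exact ⟨hy'.2, fun z hz => hNc y hy'.1 z hz⟩

end Push

/-- If `M` has a Sylow 2-subgroup which is not one of `G`, then `O₂(M)` is elementary abelian. -/
theorem rad_eq_vee (hG : IsCIT G) {M T : Subgroup G} (hM : IsMaxLocal M)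
    (hT : Cfsg.IsSylowTwoIn T M) {g : G} (hg : g ∈ normalizer (T : Set G)) (hgM : g ∉ M)
    {q : ℕ} (hq : FFShape M T q) : rad M = vee M := by
  haveI : Fact (Nat.Prime 2) := ⟨Nat.prime_two⟩
  obtain ⟨hTM, hT2, hodd⟩ := hT
  have hpc : Cfsg.pCore 2 ↥M = (rad M).subgroupOf M := (Local.pCoreOf_subgroupOf M).symm
  let S : Sylow 2 ↥M := IsPGroup.toSylow
    (hT2.comap_of_injective M.subtype M.subtype_injective : IsPGroup 2 ↥(T.subgroupOf M))
    (by
      show ¬ 2 ∣ (T.subgroupOf M).index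
      exact Nat.two_dvd_ne_zero.2 (Nat.odd_iff.1 hodd))
  have hSc : (S : Subgroup ↥M) = T.subgroupOf M := rfl
  haveI hKn : ((rad M).subgroupOf M).Normal := by rw [← hpc]; exact Cfsg.pCore_normal 2 ↥M
  obtain ⟨F, _, _, hFq, hiso⟩ := hq.quot
  obtain ⟨e⟩ := hiso hKn
  obtain ⟨n, hn⟩ := hq.pow_two
  have hn1 : 1 ≤ n := by
    rcases n with _ | n
    · have := hq.two_le; rw [hn] at this; norm_num at this
    · omega
  have hKS : (rad M).subgroupOf M ≤ (S : Subgroup ↥M) := by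
    rw [hSc]; exact comap_mono (rad_le_of_sylow ⟨hTM, hT2, hodd⟩)
  have hE₁ : centralizer (Cfsg.pCore 2 ↥M : Set ↥M) ≤ Cfsg.pCore 2 ↥M := by
    intro m hm
    rw [hpc] at hm ⊢
    refine mem_subgroupOf.2 (IsMaxLocal.centralizer_rad_le hG hM (mem_centralizer_iff.2 fun r hr => ?_))
    exact congrArg Subtype.val (mem_centralizer_iff.1 hm ⟨r, rad_le M hr⟩ (mem_subgroupOf.2 hr))
  have hd : ∀ C : Subgroup ↥(S : Subgroup ↥M), C ≠ ⊥ → C.Characteristic →
      ¬ (C.map (S : Subgroup ↥M).subtype).Normal := by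
    intro C hC1 hC hCn
    set C' : Subgroup G := (C.map (S : Subgroup ↥M).subtype).map M.subtype with hC'
    have hgT : ∀ h, h ∈ T → g * h * g⁻¹ ∈ T := fun h hh => (mem_normalizer_iff.1 hg h).1 hh
    let f : ↥(S : Subgroup ↥M) →* ↥(S : Subgroup ↥M) :=
      { toFun := fun s => ⟨⟨g * ((s : ↥M) : G) * g⁻¹, hTM (hgT _ (mem_subgroupOf.1 s.2))⟩,
          mem_subgroupOf.2 (hgT _ (mem_subgroupOf.1 s.2))⟩
        map_one' := Subtype.ext (Subtype.ext (by simp))
        map_mul' := fun a b => Subtype.ext (Subtype.ext (by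
          show g * ((((a * b : ↥(S : Subgroup ↥M)) : ↥M)) : G) * g⁻¹ = g * _ * g⁻¹ * (g * _ * g⁻¹)
          simp [mul_assoc])) }
    have hf : Function.Injective f := fun a b h => by
      have h' : g * ((a : ↥M) : G) * g⁻¹ = g * ((b : ↥M) : G) * g⁻¹ :=
        congrArg (fun s : ↥(S : Subgroup ↥M) => ((s : ↥M) : G)) h
      exact Subtype.ext (Subtype.ext (mul_left_cancel (mul_right_cancel h')))
    let φ := MulEquiv.ofBijective f ⟨hf, Finite.surjective_of_injective hf⟩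
    have hfix := hC.fixed φ
    have hgC : g ∈ normalizer (C' : Set G) := by
      refine mem_normalizer_fintype ?_
      rintro _ ⟨_, ⟨c, hc, rfl⟩, rfl⟩
      exact ⟨((f c : ↥(S : Subgroup ↥M)) : ↥M), ⟨f c, (hfix.ge hc : φ c ∈ C), rfl⟩, rfl⟩
    have hMC : M ≤ normalizer (C' : Set G) := by
      intro m hm
      refine mem_normalizer_fintype ?_
      rintro _ ⟨c, hc, rfl⟩
      exact ⟨⟨m, hm⟩ * c * ⟨m, hm⟩⁻¹, hCn.conj_mem c hc ⟨m, hm⟩, rfl⟩
    refine hgM (not_normalized hM (((S.2.to_subgroup C).map _).map _) ?_ hMC hgC)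
    intro h
    rw [map_eq_bot_iff_of_injective _ M.subtype_injective,
      map_eq_bot_iff_of_injective _ (S : Subgroup ↥M).subtype_injective] at h
    exact hC1 h
  have hgd : Cfsg.Lib.Local.PushingUp.GData S F n ((rad M).subgroupOf M) :=
    Cfsg.Lib.Local.PushingUp.GData.mk hE₁ (exists_unique_max hn1 (hFq.trans hn) S hKS e) hn1
      (hFq.trans hn) ⟨e⟩ hd
  rcases hgd.pushing_up with ⟨-, -, -, -, U, W, -, hU, hcf, -, ⟨k, hk⟩, ⟨l, hl⟩⟩ | ⟨h3, -⟩
  swap
  · norm_num at h3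
  obtain ⟨x, hxM, hx1, hxo⟩ := Nonclosed.exists_odd hM.1.2
  have hfix : ∀ y ∈ Cfsg.pCore 2 ↥M, Commute (⟨x, hxM⟩ : ↥M) y → y = 1 := by
    intro y hy hc
    rw [hpc] at hy
    exact Subtype.ext (hG.fpf (isPGroup_rad M) hx1 hxo (mem_subgroupOf.1 hy) (congrArg Subtype.val hc.eq))
  have key := core_le_elementary_center hfix hU hcf hk hl
  refine le_antisymm (fun r hr => ?_) (vee_le_rad M)
  have hr' : (⟨r, rad_le M hr⟩ : ↥M) ∈ Cfsg.pCore 2 ↥M := by rw [hpc]; exact mem_subgroupOf.2 hr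
  refine subset_closure ⟨⟨hr, mem_centralizer_iff.2 fun s hs => ?_⟩, congrArg Subtype.val (key _ hr').1⟩
  exact congrArg Subtype.val ((key _ hr').2 ⟨s, rad_le M hs⟩ (by rw [hpc]; exact mem_subgroupOf.2 hs))

end Cfsg.Lib.CIT
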