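import Cfsg.Agent.Lib.CIT.PushUpRad
import Cfsg.Agent.Lib.Coprime.Conjugacy

/-!
The Sylow subgroup of a maximal local with a failure of factorization, when it is not Sylow in the
group: two elementary abelian subgroups of order `q²` which are swapped (see `notes/cit_lead.md`, §4).
-/

set_option autoImplicit false
set_option linter.style.haveILetI false

namespace Cfsg.Lib.CIT

open Subgroup
open Cfsg.Lib

universe u

variable {G : Type u} [Group G]

theorem eq_or_eq_of_subset_union {A V B : Subgroup G} (h : ∀ b ∈ B, b ∈ V ∨ b ∈ A) : B ≤ V ∨ B ≤ A := by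
  by_contra hcon
  rw [not_or, SetLike.not_le_iff_exists, SetLike.not_le_iff_exists] at hcon
  obtain ⟨⟨y, hyB, hyV⟩, ⟨x, hxB, hxA⟩⟩ := hcon
  have hx : x ∈ V := (h x hxB).resolve_right hxA
  have hy : y ∈ A := (h y hyB).resolve_left hyV
  rcases h _ (mul_mem hxB hyB) with h' | h'
  · exact hyV (by simpa using mul_mem (inv_mem hx) h')
  · exact hxA (by simpa using mul_mem h' (inv_mem hy))

theorem map_conj_conj (V : Subgroup G) (a b : G) :
    (V.map (MulAut.conj b).toMonoidHom).map (MulAut.conj a).toMonoidHom =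
      V.map (MulAut.conj (a * b)).toMonoidHom := by
  rw [Subgroup.map_map]; congr 1; ext; simp [mul_assoc]

variable [Finite G]

theorem mem_normalizer_of_map_le {V : Subgroup G} {g : G}
    (h : V.map (MulAut.conj g).toMonoidHom ≤ V) : g ∈ normalizer (V : Set G) :=
  mem_normalizer_fintype fun x hx => h ⟨x, hx, rfl⟩

/-- A 2-element of `M` normalizing the Sylow subgroup `T` of `M` lies in `T`. -/
theorem mem_sylow {M T : Subgroup G} (hT : Cfsg.IsSylowTwoIn T M) {g : G} (hgM : g ∈ M)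
    (hg : g ∈ normalizer (T : Set G)) (h2 : IsPGroup 2 ↥(zpowers g)) : g ∈ T := by
  haveI : Fact (Nat.Prime 2) := ⟨Nat.prime_two⟩
  obtain ⟨hTM, hT2, hodd⟩ := hT
  have hL : T ⊔ zpowers g ≤ M := sup_le hTM ((zpowers_le).2 hgM)
  have hL2 : IsPGroup 2 ↥(T ⊔ zpowers g) :=
    IsPGroup.to_sup_of_normal_left' hT2 h2 ((zpowers_le).2 hg)
  obtain ⟨a, ha⟩ := hL2.exists_card_eq
  have h2' : T.relIndex (T ⊔ zpowers g) ∣ 2 ^ a :=
    ⟨Nat.card T, by rw [← ha, ← Core.card_mul_relIndex (le_sup_left : T ≤ T ⊔ zpowers g), mul_comm]⟩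
  have h3 : Odd (T.relIndex (T ⊔ zpowers g)) :=
    hodd.of_dvd_nat ⟨_, (relIndex_mul_relIndex T _ M le_sup_left hL).symm⟩
  exact relIndex_eq_one.1 (Nat.Coprime.eq_one_of_dvd ((Nat.coprime_two_right.2 h3).pow_right a) h2')
    (mem_sup_right (mem_zpowers g))

theorem isPGroup_zpowers_of_mem {T : Subgroup G} (hT : IsPGroup 2 ↥T) {g : G} (hg : g ∈ T) :
    IsPGroup 2 ↥(zpowers g) := hT.to_le ((zpowers_le).2 hg)

/-- The data of this section. -/
structure PushData (M T A : Subgroup G) (q : ℕ) : Prop where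
  cit : IsCIT G
  loc : IsMaxLocal M
  syl : Cfsg.IsSylowTwoIn T M
  rad_eq : rad M = vee M
  le : A ≤ T
  elem : Cfsg.IsElementaryAbelian 2 A
  not_le : ¬ A ≤ rad M
  max : ∀ B : Subgroup G, B ≤ T → Cfsg.IsElementaryAbelian 2 B → Nat.card B ≤ Nat.card A
  shape : FFShape M T q
  moved : ∃ g ∈ normalizer (T : Set G), g ∉ M

namespace PushData

variable {M T A : Subgroup G} {q : ℕ}

theorem vee_le_T (h : PushData M T A q) : vee M ≤ T := (vee_le_rad M).trans (rad_le_of_sylow h.syl)

theorem T_le (h : PushData M T A q) : T ≤ M := h.syl.1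

theorem isPGroup (h : PushData M T A q) : IsPGroup 2 ↥T := h.syl.2.1

theorem inf_eq (h : PushData M T A q) : A ⊓ vee M = vee M ⊓ centralizer (T : Set G) := by
  obtain ⟨u, huA, hu⟩ := SetLike.not_le_iff_exists.1 h.not_le
  refine le_antisymm (fun a ha => ?_) (fun w hw => ⟨?_, hw.1⟩)
  · rw [← h.shape.fix_eq u (h.le huA) hu]
    exact ⟨ha.2, mem_centralizer_singleton_iff.2 (comm_of_elementary h.elem ha.1 huA)⟩
  · set W := vee M ⊓ centralizer (T : Set G)
    have hWe : Cfsg.IsElementaryAbelian 2 W :=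
      ⟨⟨⟨fun a b => Subtype.ext (comm_of_elementary (vee_elementary M) a.2.1 b.2.1)⟩⟩,
        fun a ha => (vee_elementary M).2 a ha.1⟩
    have he := elementary_sup h.elem hWe fun a ha b hb => mem_centralizer_iff.1 hb.2 a (h.le ha)
    have hc := h.max _ (sup_le h.le (inf_le_left.trans h.vee_le_T)) he
    have heq : A ⊔ W = A := (Subgroup.eq_of_le_of_card_ge le_sup_left hc).symm
    exact heq ▸ mem_sup_right hw

theorem card_T (h : PushData M T A q) : Nat.card ↥T = q ^ 2 * q := by
  rw [← Core.card_mul_relIndex (rad_le_of_sylow h.syl), h.shape.rel_index, h.rad_eq, h.shape.card_vee]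

theorem le_normalizer_vee' (h : PushData M T A q) : T ≤ normalizer (vee M : Set G) :=
  h.T_le.trans (le_normalizer_vee M)

theorem card_A_and_sup (h : PushData M T A q) : Nat.card ↥A = q ^ 2 ∧ A ⊔ vee M = T := by
  have hq := h.shape.two_le
  have h1 := Local.Baumann.card_sup_mul_inf (A := vee M) (B := A) (h.le.trans h.le_normalizer_vee')
  rw [sup_comm, inf_comm, h.inf_eq, h.shape.card_fix, h.shape.card_vee] at h1
  have hle : A ⊔ vee M ≤ T := sup_le h.le h.vee_le_T
  have h2 : Nat.card ↥(A ⊔ vee M) ≤ q ^ 2 * q :=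
    h.card_T ▸ Nat.card_le_card_of_injective _ (inclusion_injective hle)
  have h3 : q ^ 2 ≤ Nat.card ↥A := h.shape.card_vee ▸ h.max _ h.vee_le_T (vee_elementary M)
  have h4 : Nat.card ↥A ≤ q ^ 2 := by
    refine Nat.le_of_mul_le_mul_left ?_ (show 0 < q ^ 2 by positivity)
    rw [← h1]
    calc Nat.card ↥(A ⊔ vee M) * q ≤ q ^ 2 * q * q := Nat.mul_le_mul_right q h2
      _ = q ^ 2 * q ^ 2 := by ring
  have h5 : Nat.card ↥A = q ^ 2 := le_antisymm h4 h3
  refine ⟨h5, Subgroup.eq_of_le_of_card_ge hle (le_of_eq ?_)⟩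
  rw [h5] at h1
  rw [h.card_T]
  exact Nat.eq_of_mul_eq_mul_right (show 0 < q by omega) (by rw [h1]; ring)

theorem involution_mem (h : PushData M T A q) {t : G} (ht : t ∈ T) (h2 : t ^ 2 = 1) :
    t ∈ vee M ∨ t ∈ A := by
  obtain ⟨-, hsup⟩ := h.card_A_and_sup
  rw [← hsup, ← SetLike.mem_coe,
    Subgroup.coe_mul_of_left_le_normalizer_right A (vee M) (h.le.trans h.le_normalizer_vee')] at ht
  obtain ⟨a, ha, v, hv, rfl⟩ := Set.mem_mul.1 ht
  have hc : Commute a v := by
    have ea : a * a = 1 := by rw [← pow_two]; exact h.elem.2 a ha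
    have ev : v * v = 1 := by rw [← pow_two]; exact vee_sq hv
    calc a * v = a * (a * v * (a * v)) * v := by rw [← pow_two (a * v), h2, mul_one]
      _ = (a * a) * (v * a) * (v * v) := by group
      _ = v * a := by rw [ea, ev, one_mul, mul_one]
  by_cases haR : a ∈ rad M
  · exact Or.inl (mul_mem (h.rad_eq ▸ haR) hv)
  · refine Or.inr (mul_mem ha ?_)
    have h1 : v ∈ vee M ⊓ centralizer ({a} : Set G) := ⟨hv, mem_centralizer_singleton_iff.2 hc.symm.eq⟩
    rw [h.shape.fix_eq a (h.le ha) haR, ← h.inf_eq] at h1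
    exact h1.1

theorem elementary_eq (h : PushData M T A q) {B : Subgroup G} (hB : B ≤ T)
    (he : Cfsg.IsElementaryAbelian 2 B) (hc : Nat.card ↥B = q ^ 2) : B = vee M ∨ B = A := by
  rcases eq_or_eq_of_subset_union (fun b hb => h.involution_mem (hB hb) (he.2 b hb)) with h' | h'
  · exact Or.inl (Subgroup.eq_of_le_of_card_ge h' (by rw [hc, h.shape.card_vee]))
  · exact Or.inr (Subgroup.eq_of_le_of_card_ge h' (by rw [hc, h.card_A_and_sup.1]))

theorem ne_vee (h : PushData M T A q) : A ≠ vee M := fun e => h.not_le (e ▸ vee_le_rad M)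

theorem map_vee (h : PushData M T A q) {g : G} (hg : g ∈ normalizer (T : Set G)) (hgM : g ∉ M) :
    (vee M).map (MulAut.conj g).toMonoidHom = A := by
  refine (h.elementary_eq (map_conj_le h.vee_le_T hg) (elementary_map_conj (vee_elementary M) g)
    ((card_map_conj _ g).trans h.shape.card_vee)).resolve_left fun e => ?_
  exact hgM (h.loc.normalizer_vee.le (mem_normalizer_of_map_le e.le))

theorem map_A (h : PushData M T A q) {g : G} (hg : g ∈ normalizer (T : Set G)) (hgM : g ∉ M) :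
    A.map (MulAut.conj g).toMonoidHom = vee M := by
  refine (h.elementary_eq (map_conj_le h.le hg) (elementary_map_conj h.elem g)
    ((card_map_conj _ g).trans h.card_A_and_sup.1)).resolve_right fun e => ?_
  exact h.ne_vee (Subgroup.map_injective (MulAut.conj g).injective (e.trans (h.map_vee hg hgM).symm))

theorem mul_mem_M (h : PushData M T A q) {a b : G} (ha : a ∈ normalizer (T : Set G)) (haM : a ∉ M)
    (hb : b ∈ normalizer (T : Set G)) (hbM : b ∉ M) : a * b ∈ M := by
  refine h.loc.normalizer_vee.le (mem_normalizer_of_map_le ?_)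
  rw [← map_conj_conj, h.map_vee hb hbM, h.map_A ha haM]

theorem conj_mem_M (h : PushData M T A q) {g b : G} (hg : g ∈ normalizer (T : Set G))
    (hb : b ∈ M ⊓ normalizer (T : Set G)) : g * b * g⁻¹ ∈ M := by
  by_cases hgM : g ∈ M
  · exact mul_mem (mul_mem hgM hb.1) (inv_mem hgM)
  by_contra hc
  have h1 : g * b ∈ normalizer (T : Set G) := mul_mem hg hb.2
  have h2 : g * b ∉ M := fun e => hgM (by simpa using mul_mem e (inv_mem hb.1))
  have h3 : g⁻¹ ∉ M := fun e => hgM (by simpa using inv_mem e)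
  exact hc (h.mul_mem_M h1 h2 (inv_mem hg) h3)

end PushData

/-- Half of an elementary abelian 2-group at least is centralized by an involution. -/
theorem card_le_fix_sq {V : Subgroup G} (hV : Cfsg.IsElementaryAbelian 2 V) {u : G} (hu : orderOf u = 2)
    (hn : u ∈ normalizer (V : Set G)) :
    Nat.card ↥V ≤ Nat.card ↥(V ⊓ centralizer ({u} : Set G)) ^ 2 := by
  classical
  set C := V ⊓ centralizer ({u} : Set G)
  have huu : u⁻¹ = u := inv_eq_self_of_two hu
  have hu2 : u * u = 1 := by rw [← pow_two, ← hu, pow_orderOf_eq_one]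
  have hc : ∀ a ∈ V, ∀ b ∈ V, a * b = b * a := fun a ha b hb => comm_of_elementary hV ha hb
  have hcj : ∀ v ∈ V, u * v * u⁻¹ ∈ V := fun v hv => (mem_normalizer_iff.1 hn v).1 hv
  let φ : ↥V →* ↥V := MonoidHom.mk' (fun v => ⟨(v : G) * (u * (v : G) * u⁻¹), mul_mem v.2 (hcj v v.2)⟩)
    fun a b => Subtype.ext (by
      show (a : G) * (b : G) * (u * ((a : G) * (b : G)) * u⁻¹)
        = (a : G) * (u * (a : G) * u⁻¹) * ((b : G) * (u * (b : G) * u⁻¹))
      calc (a : G) * (b : G) * (u * ((a : G) * (b : G)) * u⁻¹)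
          = (a : G) * ((b : G) * (u * (a : G) * u⁻¹)) * (u * (b : G) * u⁻¹) := by group
        _ = (a : G) * ((u * (a : G) * u⁻¹) * (b : G)) * (u * (b : G) * u⁻¹) := by
            rw [hc _ b.2 _ (hcj a a.2)]
        _ = _ := by group)
  have hrange : φ.range.map V.subtype ≤ C := by
    rintro _ ⟨_, ⟨v, rfl⟩, rfl⟩
    refine ⟨(φ v).2, mem_centralizer_singleton_iff.2 ?_⟩
    show (v : G) * (u * (v : G) * u⁻¹) * u = u * ((v : G) * (u * (v : G) * u⁻¹))
    calc (v : G) * (u * (v : G) * u⁻¹) * u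
        = (u * (v : G) * u⁻¹) * (v : G) * u := by rw [hc _ v.2 _ (hcj v v.2)]
      _ = u * (v : G) * (u⁻¹ * (v : G) * u) := by group
      _ = u * ((v : G) * (u * (v : G) * u⁻¹)) := by rw [huu]; group
  have hker : φ.ker.map V.subtype ≤ C := by
    rintro _ ⟨v, hv, rfl⟩
    refine ⟨v.2, mem_centralizer_singleton_iff.2 ?_⟩
    have h1 : (v : G) * (u * (v : G) * u⁻¹) = 1 := congrArg Subtype.val hv
    have h2 : u * (v : G) * u⁻¹ = (v : G) := by
      rw [eq_inv_of_mul_eq_one_right h1]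
      exact (eq_inv_of_mul_eq_one_right (by rw [← pow_two]; exact hV.2 v v.2)).symm
    exact (mul_inv_eq_iff_eq_mul.1 h2).symm
  have h1 := Nat.card_le_card_of_injective _ (inclusion_injective hrange)
  have h2 := Nat.card_le_card_of_injective _ (inclusion_injective hker)
  rw [Core.card_map_subtype] at h1 h2
  have h3 := Subgroup.card_mul_index φ.ker
  rw [Subgroup.index_ker] at h3
  rw [← h3, pow_two]
  exact Nat.mul_le_mul h2 h1

end Cfsg.Lib.CIT
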