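import Cfsg.Agent.Lib.CIT.PushUpShape

/-!
For `q ≥ 4`: an involution outside `M` normalizes `T` and inverts a torus; so `q = 4`.
-/

set_option autoImplicit false
set_option linter.style.haveILetI false

namespace Cfsg.Lib.CIT

open Subgroup
open Cfsg.Lib

universe u

variable {G : Type u} [Group G] [Finite G]

/-- An involution outside `M` normalizing `T` and inverting the torus. -/
structure Swap (M T : Subgroup G) (q : ℕ) (K : Subgroup G) (g : G) : Prop where
  K_le : K ≤ M ⊓ normalizer (T : Set G)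
  K_card : Nat.card ↥K + 1 = q
  K_comm : ∀ a ∈ K, ∀ b ∈ K, a * b = b * a
  K_odd : ∀ k ∈ K, Odd (orderOf k)
  ord : orderOf g = 2
  norm : g ∈ normalizer (T : Set G)
  out : g ∉ M
  inv : ∀ k ∈ K, g * k * g⁻¹ = k⁻¹

namespace PushData

variable {M T A : Subgroup G} {q : ℕ}

theorem exists_swap (h : PushData M T A q) (hq : 3 ≤ q) : ∃ K g, Swap M T q K g := by
  classical
  haveI : Fact (Nat.Prime 2) := ⟨Nat.prime_two⟩
  obtain ⟨K, t₀, hK, hKc, hKab, htor, -⟩ := h.shape.torus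
  obtain ⟨g₀, hg₀, hg₀M⟩ := h.moved
  obtain ⟨n, hn⟩ := h.shape.pow_two
  have hKodd : Odd (Nat.card ↥K) := by
    rcases n with _ | n
    · rw [pow_zero] at hn; omega
    · rw [pow_succ] at hn
      refine Nat.odd_iff.2 ?_
      omega
  have hKo : ∀ k ∈ K, Odd (orderOf k) := fun k hk => by
    have hd := orderOf_dvd_natCard (⟨k, hk⟩ : ↥K)
    rw [orderOf_mk] at hd
    exact hKodd.of_dvd_nat hd
  have hTK : ∀ x ∈ T, x ∈ K → x = 1 := fun x hx hxK => eq_one_of_odd_two h.isPGroup hx (hKo x hxK)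
  have hKcomm : ∀ a ∈ K, ∀ b ∈ K, a * b = b * a := fun a ha b hb =>
    congrArg Subtype.val (hKab.is_comm.comm ⟨a, ha⟩ ⟨b, hb⟩)
  have hB : K.map (MulAut.conj g₀).toMonoidHom ≤ T ⊔ K := by
    rintro _ ⟨k, hk, rfl⟩
    obtain ⟨s, hs, k', hk', he⟩ := htor (g₀ * k * g₀⁻¹)
      ⟨h.conj_mem_M hg₀ (hK hk), show g₀ * k * g₀⁻¹ ∈ normalizer (T : Set G) from
        mul_mem (mul_mem hg₀ (hK hk).2) (inv_mem hg₀)⟩
    show g₀ * k * g₀⁻¹ ∈ T ⊔ K
    rw [he]; exact mul_mem (mem_sup_left hs) (mem_sup_right hk')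
  have hcop : (Nat.card ↥K).Coprime (Nat.card ↥T) := by
    obtain ⟨a, ha⟩ := h.isPGroup.exists_card_eq
    rw [ha]
    exact (Nat.coprime_two_right.2 hKodd).pow_right a
  haveI : Group.IsNilpotent ↥T := h.isPGroup.isNilpotent
  obtain ⟨t, ht, he⟩ := Coprime.exists_conj_of_coprime T K (K.map (MulAut.conj g₀).toMonoidHom)
    (fun k hk => (hK hk).2) hcop (Or.inr inferInstance) hB (card_map_conj K g₀)
  set g₁ := t⁻¹ * g₀
  have hg₁ : g₁ ∈ normalizer (T : Set G) := mul_mem (inv_mem (le_normalizer ht)) hg₀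
  have hg₁M : g₁ ∉ M := fun e => hg₀M (by simpa [g₁] using mul_mem (h.T_le ht) e)
  have hg₁K : g₁ ∈ normalizer (K : Set G) := by
    refine mem_normalizer_of_map_le (le_of_eq ?_)
    rw [← map_conj_conj, he, map_conj_conj, inv_mul_cancel]
    ext x; simp
  obtain ⟨a, m, hm, hr⟩ := Nat.exists_eq_two_pow_mul_odd (n := orderOf g₁) (orderOf_pos _).ne'
  set g := g₁ ^ m with hgdef
  have hgo : orderOf g = 2 ^ a := by
    rw [hgdef, orderOf_pow, hr, Nat.gcd_mul_left_left, Nat.mul_div_cancel _ hm.pos]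
  have hgN : g ∈ normalizer (T : Set G) := pow_mem hg₁ m
  have hgK : g ∈ normalizer (K : Set G) := pow_mem hg₁K m
  have hsqM : g₁ ^ 2 ∈ M := by rw [pow_two]; exact h.mul_mem_M hg₁ hg₁M hg₁ hg₁M
  have hgM : g ∉ M := fun e => hg₁M (by
    obtain ⟨j, hj⟩ := hm
    rw [hgdef, hj, pow_succ, pow_mul] at e
    simpa using mul_mem (inv_mem (pow_mem hsqM j)) e)
  have hs2 : IsPGroup 2 ↥(zpowers (g ^ 2)) :=
    (IsPGroup.of_card (n := a) (by rw [Nat.card_zpowers, hgo]) : IsPGroup 2 ↥(zpowers g)).to_le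
      ((zpowers_le).2 (pow_mem (mem_zpowers g) 2))
  have hsT : g ^ 2 ∈ T := mem_sylow h.syl (by rw [pow_two]; exact h.mul_mem_M hgN hgM hgN hgM)
    (pow_mem hgN 2) hs2
  obtain ⟨k₀, hk₀, hk₀1⟩ : ∃ k ∈ K, k ≠ 1 := by
    refine (bot_or_exists_ne_one K).resolve_left fun e => ?_
    rw [e, Subgroup.card_bot] at hKc
    omega
  have hcomm : Commute k₀ (g ^ 2) := by
    have h1 : k₀ * g ^ 2 * k₀⁻¹ * (g ^ 2)⁻¹ = 1 := by
      refine hTK _ (mul_mem ((mem_normalizer_iff.1 (hK hk₀).2 _).1 hsT) (inv_mem hsT)) ?_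
      rw [show k₀ * g ^ 2 * k₀⁻¹ * (g ^ 2)⁻¹ = k₀ * (g ^ 2 * k₀⁻¹ * (g ^ 2)⁻¹) by group]
      exact mul_mem hk₀ ((mem_normalizer_iff.1 (pow_mem hgK 2) _).1 (inv_mem hk₀))
    exact mul_inv_eq_iff_eq_mul.1 (mul_inv_eq_one.1 h1)
  have hg2 : g ^ 2 = 1 := h.cit.fpf h.isPGroup hk₀1 (hKo _ hk₀) hsT hcomm
  have hg1 : g ≠ 1 := fun e => hgM (e ▸ one_mem M)
  have hord : orderOf g = 2 := orderOf_eq_prime hg2 hg1
  refine ⟨K, g, hK, hKc, hKcomm, hKo, hord, hgN, hgM, fun k hk => ?_⟩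
  have hgi : g⁻¹ = g := inv_eq_self_of_two hord
  have hc : g * k * g⁻¹ ∈ K := (mem_normalizer_iff.1 hgK k).1 hk
  set c := k * (g * k * g⁻¹)
  have hcg : c ∈ centralizer ({g} : Set G) := by
    refine mem_centralizer_singleton_iff.2 ?_
    have h2 : g * c * g⁻¹ = c := by
      calc g * c * g⁻¹ = (g * k * g⁻¹) * (g ^ 2 * k * (g ^ 2)⁻¹) := by simp only [c]; group
        _ = (g * k * g⁻¹) * k := by rw [hg2]; group
        _ = c := hKcomm _ hc _ hk
    exact (mul_inv_eq_iff_eq_mul.1 h2).symm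
  have hc1 : c = 1 := eq_one_of_odd_two (h.cit g hord) hcg (hKo c (mul_mem hk hc))
  exact eq_inv_of_mul_eq_one_right hc1

theorem fix_elementary (h : PushData M T A q) :
    Cfsg.IsElementaryAbelian 2 (vee M ⊓ centralizer (T : Set G)) :=
  ⟨⟨⟨fun a b => Subtype.ext (comm_of_elementary (vee_elementary M) a.2.1 b.2.1)⟩⟩,
    fun a ha => vee_sq ha.1⟩

theorem K_trans (h : PushData M T A q) {K : Subgroup G} {g : G} (hs : Swap M T q K g) {w w' : G}
    (hw : w ∈ vee M ⊓ centralizer (T : Set G)) (hw1 : w ≠ 1)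
    (hw' : w' ∈ vee M ⊓ centralizer (T : Set G)) (hw1' : w' ≠ 1) : ∃ k ∈ K, k * w * k⁻¹ = w' := by
  classical
  set W := vee M ⊓ centralizer (T : Set G)
  have hn : ∀ k ∈ K, ∀ x ∈ W, k * x * k⁻¹ ∈ W := fun k hk x hx => by
    have : k ∈ normalizer (W : Set G) := Local.mem_normalizer_inf (le_normalizer_vee M (hs.K_le hk).1)
      (Local.normalizer_le_normalizer_centralizer _ (hs.K_le hk).2)
    exact (mem_normalizer_iff.1 this x).1 hx
  haveI := Fintype.ofFinite ↥W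
  haveI := Fintype.ofFinite ↥K
  let f : ↥K → {x : ↥W // x ≠ 1} := fun k => ⟨⟨(k : G) * w * (k : G)⁻¹, hn k k.2 w hw⟩, fun e => hw1 (by
    have e' : (k : G) * w * (k : G)⁻¹ = 1 := congrArg Subtype.val e
    exact conj_eq_one_iff.1 e')⟩
  have hinj : Function.Injective f := by
    intro a b e
    have e' : (a : G) * w * (a : G)⁻¹ = (b : G) * w * (b : G)⁻¹ :=
      congrArg (fun x : {x : ↥W // x ≠ 1} => ((x : ↥W) : G)) e
    have hc : Commute ((b : G)⁻¹ * (a : G)) w := by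
      show (b : G)⁻¹ * a * w = w * ((b : G)⁻¹ * a)
      calc (b : G)⁻¹ * a * w = (b : G)⁻¹ * ((a : G) * w * (a : G)⁻¹) * a := by group
        _ = (b : G)⁻¹ * ((b : G) * w * (b : G)⁻¹) * a := by rw [e']
        _ = w * ((b : G)⁻¹ * a) := by group
    by_contra hne
    refine hw1 (h.cit.fpf (isPGroup_vee M) (fun e2 => hne (Subtype.ext (inv_mul_eq_one.1 e2).symm))
      (hs.K_odd _ (mul_mem (inv_mem b.2) a.2)) hw.1 hc)
  have hcard : Fintype.card ↥K = Fintype.card {x : ↥W // x ≠ 1} := by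
    rw [Fintype.card_subtype_compl, Fintype.card_subtype_eq]
    have h1 : Nat.card ↥W = q := h.shape.card_fix
    have h2 := hs.K_card
    rw [Nat.card_eq_fintype_card] at h1 h2
    omega
  obtain ⟨k, hk⟩ := ((Fintype.bijective_iff_injective_and_card f).2 ⟨hinj, hcard⟩).2
    ⟨⟨w', hw'⟩, fun e => hw1' (congrArg Subtype.val e)⟩
  exact ⟨k, k.2, congrArg (fun x : {x : ↥W // x ≠ 1} => ((x : ↥W) : G)) hk⟩

/-- The fixed points of the swapping involution on `C_V(T)`. -/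
theorem fix_swap (h : PushData M T A q) {K : Subgroup G} {g : G} (hs : Swap M T q K g) :
    g ∈ normalizer ((vee M ⊓ centralizer (T : Set G) : Subgroup G) : Set G) ∧
    (∀ w ∈ vee M ⊓ centralizer (T : Set G), ∀ w' ∈ vee M ⊓ centralizer (T : Set G), w ≠ 1 → w' ≠ 1 →
      Commute g w → Commute g w' → w = w') ∧ q ≤ 4 := by
  classical
  set W := vee M ⊓ centralizer (T : Set G)
  have hn : g ∈ normalizer (W : Set G) := by
    refine mem_normalizer_of_map_le (le_of_eq ?_)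
    rw [show W = A ⊓ vee M from h.inf_eq.symm, Subgroup.map_inf _ _ _ (MulAut.conj g).injective,
      h.map_A hs.norm hs.out, h.map_vee hs.norm hs.out, inf_comm]
  have hone : ∀ w ∈ W, ∀ w' ∈ W, w ≠ 1 → w' ≠ 1 → Commute g w → Commute g w' → w = w' := by
    intro w hw w' hw' h1 h1' hc hc'
    obtain ⟨k, hk, he⟩ := h.K_trans hs hw h1 hw' h1'
    have e1 : g * w * g⁻¹ = w := by rw [hc.eq, mul_inv_cancel_right]
    have e2 : g * w' * g⁻¹ = w' := by rw [hc'.eq, mul_inv_cancel_right]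
    have e3 : k⁻¹ * w * k = w' := by
      rw [← e2, ← he, show g * (k * w * k⁻¹) * g⁻¹ = (g * k * g⁻¹) * (g * w * g⁻¹) * (g * k * g⁻¹)⁻¹ by group,
        hs.inv k hk, e1, inv_inv]
    have hcomm : Commute (k * k) w := by
      show k * k * w = w * (k * k)
      calc k * k * w = k * (k * w * k⁻¹) * k := by group
        _ = k * (k⁻¹ * w * k) * k := by rw [he, e3]
        _ = w * (k * k) := by group
    have hkk : k * k = 1 := by
      by_contra hne
      exact h1 (h.cit.fpf (isPGroup_vee M) hne (hs.K_odd _ (mul_mem hk hk)) hw.1 hcomm)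
    have hk1 : k = 1 := by
      have hd : orderOf k ∣ 2 := orderOf_dvd_of_pow_eq_one (by rw [pow_two]; exact hkk)
      exact orderOf_eq_one_iff.1 (Nat.Coprime.eq_one_of_dvd (Nat.coprime_two_right.2 (hs.K_odd k hk)) hd)
    rw [← he, hk1, one_mul, inv_one, mul_one]
  refine ⟨hn, hone, ?_⟩
  have hle : Nat.card ↥(W ⊓ centralizer ({g} : Set G)) ≤ 2 := by
    have hinj : Function.Injective
        (fun v : ↥(W ⊓ centralizer ({g} : Set G)) => decide ((v : G) = 1)) := by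
      intro v w e
      simp only [decide_eq_decide] at e
      by_cases hv : (v : G) = 1
      · exact Subtype.ext (hv.trans (e.1 hv).symm)
      · exact Subtype.ext (hone v v.2.1 w w.2.1 hv (fun hh => hv (e.2 hh))
          (mem_centralizer_singleton_iff.1 v.2.2).symm (mem_centralizer_singleton_iff.1 w.2.2).symm)
    simpa using Nat.card_le_card_of_injective _ hinj
  have h2 := card_le_fix_sq h.fix_elementary hs.ord hn
  rw [h.shape.card_fix] at h2
  exact h2.trans ((Nat.pow_le_pow_left hle 2).trans (by norm_num))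

end PushData

end Cfsg.Lib.CIT
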