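import Cfsg.Agent.Lib.CIT.Quot.Lift
import Cfsg.Agent.Lib.CIT.Global

/-!
# The quotient lemma (§3 of `notes/cit_lead.md`)
-/

set_option autoImplicit false

namespace Cfsg.Lib.CIT

universe u

variable {G : Type u} [Group G] [Finite G]

/-- §3 (c), given the TI counting theorem. -/
theorem ffProvider_of (hG : IsCIT G) (hK : SmallerKnown.{u} (Nat.card G)) (hti : TIHolds.{u})
    (hz : ZassenhausHolds.{u}) : FFProvider G :=
  fun _ _ _ hM hT hA hAR hA2 hff =>
    ffShape_of hG hK hti hz hM hT hA hAR (fun a ha => (hA2 a ha).1) hff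

end Cfsg.Lib.CIT
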